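import Mathlib
import Cfsg.Agent.Lib.Helper7.HypFrame

set_option autoImplicit false
set_option linter.unusedSectionVars false
set_option linter.unusedVariables false

namespace Cfsg.Agent.Lib.Helper7

open Finset QuadraticMap

/-- fibrewise counting -/
lemma card_eq_sum_fiber' {A B : Type*} [Fintype A] [Fintype B] (P : A → Prop) (g : A → B) :
    Nat.card {x : A // P x} = ∑ s : B, Nat.card {x : A // P x ∧ g x = s} := by
  classical
  rw [Nat.card_eq_fintype_card, Fintype.card_subtype,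
    Finset.card_eq_sum_card_fiberwise (f := g) (t := Finset.univ) (fun x _ => Finset.mem_univ _)]
  refine Finset.sum_congr rfl fun s _ => ?_
  rw [Nat.card_eq_fintype_card, Fintype.card_subtype, Finset.filter_filter]

section
variable {F : Type*} [Field F] [Fintype F]

/-- a finite quadratic space with the value distribution of an anisotropic plane -/
structure IsAnisoPlane {U : Type*} [AddCommGroup U] [Module F U] [Fintype U]
    (Q : QuadraticForm F U) : Prop where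
  nondeg : ∀ u : U, (∀ v, polar Q u v = 0) → u = 0
  card : Fintype.card U = Fintype.card F ^ 2
  cnt0 : Nat.card {v : U // Q v = 0} = 1
  cnt1 : ∀ c : F, c ≠ 0 → Nat.card {v : U // Q v = c} = Fintype.card F + 1

variable {U₁ U₂ : Type*} [AddCommGroup U₁] [Module F U₁] [Fintype U₁]
  [AddCommGroup U₂] [Module F U₂] [Fintype U₂]
  {Q₁ : QuadraticForm F U₁} {Q₂ : QuadraticForm F U₂}

lemma plane_pair_count (h₁ : IsAnisoPlane Q₁) (h₂ : IsAnisoPlane Q₂) (u₁ : U₁) (u₂ : U₂)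
    (hu₁ : Q₁ u₁ = 1) (hu₂ : Q₂ u₂ = 1) :
    Nat.card {p : U₁ × U₂ // Q₁ p.1 = Q₂ p.2 ∧ polar Q₁ u₁ p.1 = polar Q₂ u₂ p.2} +
        (Fintype.card F - 1) * Fintype.card F ^ 2 =
      1 + (Fintype.card F - 1) * (Fintype.card F + 1) ^ 2 := by
  classical
  set q := Fintype.card F with hq
  have hqpos : 0 < q := Fintype.card_pos
  let Qt : QuadraticForm F (U₁ × U₂) := Q₁.prod (-Q₂)
  have hQt : ∀ x : U₁ × U₂, Qt x = Q₁ x.1 - Q₂ x.2 := by
    intro x
    simp [Qt, sub_eq_add_neg]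
  have hpol : ∀ x y : U₁ × U₂, polar Qt x y = polar Q₁ x.1 y.1 - polar Q₂ x.2 y.2 := by
    intro x y
    simp only [polar, hQt, Prod.fst_add, Prod.snd_add]
    ring
  have hnd : ∀ x : U₁ × U₂, (∀ y, polar Qt x y = 0) → x = 0 := by
    intro x hx
    refine Prod.ext (h₁.nondeg _ (fun v => ?_)) (h₂.nondeg _ (fun v => ?_))
    · have := hx (v, 0)
      rw [hpol] at this
      simpa [polar_zero_right] using this
    · have := hx (0, v)
      rw [hpol] at this
      simpa [polar_zero_right] using this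
  let ut : U₁ × U₂ := (u₁, u₂)
  have hQut : Qt ut = 0 := by rw [hQt]; simp [ut, hu₁, hu₂]
  have hne : ut ≠ 0 := by
    intro h0
    have : u₁ = 0 := congrArg Prod.fst h0
    rw [this, QuadraticMap.map_zero] at hu₁
    exact zero_ne_one hu₁
  let e0 : Fin 0 → U₁ × U₂ := fun i => i.elim0
  have hyp0 : IsHyp Qt e0 e0 :=
    ⟨fun i => i.elim0, fun i => i.elim0, fun i => i.elim0, fun i => i.elim0, fun i => i.elim0⟩
  have perp0 : ∀ w, Perp Qt e0 e0 w := fun w => ⟨fun i => i.elim0, fun i => i.elim0⟩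
  have key1 := card_pair_fiber hyp0 hnd ut (perp0 _) hQut hne
  have hW : Nat.card {w : U₁ × U₂ // Perp Qt e0 e0 w} = q ^ 2 * q ^ 2 := by
    rw [Nat.card_congr (Equiv.subtypeUnivEquiv perp0), Nat.card_prod,
      Nat.card_eq_fintype_card, Nat.card_eq_fintype_card, h₁.card, h₂.card]
  have hL : Nat.card {f' : U₁ × U₂ // Perp Qt e0 e0 f' ∧ Qt f' = 0 ∧ polar Qt ut f' = 1} =
      Nat.card {x : U₁ × U₂ // Qt x = 0 ∧ polar Qt ut x = 1} :=
    Nat.card_congr (Equiv.subtypeEquivRight (fun f' => and_iff_right (perp0 f')))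
  rw [hW, hL] at key1
  have hT1 : Nat.card {x : U₁ × U₂ // Qt x = 0 ∧ polar Qt ut x = 1} = q ^ 2 :=
    Nat.eq_of_mul_eq_mul_right (pow_pos hqpos 2) key1
  have hscale : ∀ s : F, s ≠ 0 →
      Nat.card {x : U₁ × U₂ // Qt x = 0 ∧ polar Qt ut x = s} = q ^ 2 := by
    intro s hs
    rw [← hT1]
    apply Nat.card_congr
    exact
      { toFun := fun x => ⟨s⁻¹ • x.1, by rw [QuadraticMap.map_smul, x.2.1, smul_zero],
          by rw [polar_smul_right, x.2.2, smul_eq_mul, inv_mul_cancel₀ hs]⟩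
        invFun := fun x => ⟨s • x.1, by rw [QuadraticMap.map_smul, x.2.1, smul_zero],
          by rw [polar_smul_right, x.2.2, smul_eq_mul, mul_one]⟩
        left_inv := fun x => Subtype.ext (by simp [smul_smul, hs])
        right_inv := fun x => Subtype.ext (by simp [smul_smul, hs]) }
  -- total number of zeros, first count
  have htot1 : Nat.card {x : U₁ × U₂ // Qt x = 0} =
      Nat.card {x : U₁ × U₂ // Qt x = 0 ∧ polar Qt ut x = 0} + (q - 1) * q ^ 2 := by
    rw [card_eq_sum_fiber' (fun x : U₁ × U₂ => Qt x = 0) (fun x => polar Qt ut x),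
      ← Finset.add_sum_erase Finset.univ _ (Finset.mem_univ (0 : F))]
    have hrest : ∑ s ∈ Finset.univ.erase (0 : F),
        Nat.card {x : U₁ × U₂ // Qt x = 0 ∧ polar Qt ut x = s} = (q - 1) * q ^ 2 := by
      rw [Finset.sum_congr rfl (fun s hs => hscale s (Finset.ne_of_mem_erase hs)),
        Finset.sum_const, Finset.card_erase_of_mem (Finset.mem_univ _), Finset.card_univ,
        smul_eq_mul]
    rw [hrest]
  -- second count
  have htot2 : Nat.card {x : U₁ × U₂ // Qt x = 0} = 1 + (q - 1) * (q + 1) ^ 2 := by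
    rw [card_eq_sum_fiber' (fun x : U₁ × U₂ => Qt x = 0) (fun x => Q₁ x.1)]
    have hfib : ∀ c : F, Nat.card {x : U₁ × U₂ // Qt x = 0 ∧ Q₁ x.1 = c} =
        (if c = 0 then 1 else (q + 1) ^ 2) := by
      intro c
      have e1 : {x : U₁ × U₂ // Qt x = 0 ∧ Q₁ x.1 = c} ≃
          {v : U₁ // Q₁ v = c} × {v : U₂ // Q₂ v = c} :=
        { toFun := fun x => (⟨x.1.1, x.2.2⟩, ⟨x.1.2, by
            have h := x.2.1
            rw [hQt] at h
            linear_combination x.2.2 - h⟩)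
          invFun := fun p => ⟨(p.1.1, p.2.1), by
            rw [hQt]
            simp [p.1.2, p.2.2]⟩
          left_inv := fun x => rfl
          right_inv := fun p => rfl }
      rw [Nat.card_congr e1, Nat.card_prod]
      split_ifs with hc
      · subst hc
        rw [h₁.cnt0, h₂.cnt0]
      · rw [h₁.cnt1 c hc, h₂.cnt1 c hc, pow_two]
    simp only [hfib]
    rw [Finset.sum_ite, Finset.sum_const, Finset.sum_const, smul_eq_mul, smul_eq_mul, mul_one]
    congr 1
    · rw [Finset.filter_eq' Finset.univ (0 : F)]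
      simp
    · congr 1
      rw [Finset.filter_not, Finset.filter_eq' Finset.univ (0 : F)]
      simp [Finset.card_sdiff_of_subset, Finset.card_univ, hq]
  have e2 : {x : U₁ × U₂ // Qt x = 0 ∧ polar Qt ut x = 0} ≃
      {p : U₁ × U₂ // Q₁ p.1 = Q₂ p.2 ∧ polar Q₁ u₁ p.1 = polar Q₂ u₂ p.2} :=
    Equiv.subtypeEquivRight (fun x => by rw [hQt, hpol, sub_eq_zero, sub_eq_zero])
  rw [← Nat.card_congr e2, ← htot1, htot2]

lemma plane_sum_MM (u₁ : U₁) (u₂ : U₂) :
    Nat.card {p : U₁ × U₂ // Q₁ p.1 = Q₂ p.2 ∧ polar Q₁ u₁ p.1 = polar Q₂ u₂ p.2} =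
      ∑ p : F × F, Nat.card {v : U₁ // polar Q₁ u₁ v = p.1 ∧ Q₁ v = p.2} *
        Nat.card {v : U₂ // polar Q₂ u₂ v = p.1 ∧ Q₂ v = p.2} := by
  classical
  rw [card_eq_sum_fiber' (fun x : U₁ × U₂ => Q₁ x.1 = Q₂ x.2 ∧ polar Q₁ u₁ x.1 = polar Q₂ u₂ x.2)
    (fun x => ((polar Q₁ u₁ x.1, Q₁ x.1) : F × F))]
  refine Finset.sum_congr rfl fun p _ => ?_
  rw [← Nat.card_prod]
  apply Nat.card_congr
  exact
    { toFun := fun x => (⟨x.1.1, by
          have h := x.2.2
          exact ⟨congrArg Prod.fst h, congrArg Prod.snd h⟩⟩, ⟨x.1.2, by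
          have h := x.2.2
          exact ⟨x.2.1.2.symm.trans (congrArg Prod.fst h), x.2.1.1.symm.trans (congrArg Prod.snd h)⟩⟩)
      invFun := fun y => ⟨(y.1.1, y.2.1), ⟨y.1.2.2.trans y.2.2.2.symm, y.1.2.1.trans y.2.2.1.symm⟩,
        Prod.ext y.1.2.1 y.1.2.2⟩
      left_inv := fun x => rfl
      right_inv := fun y => rfl }

/-- two anisotropic planes with marked vectors of norm one have the same joint distribution of
`(polar u v, Q v)` -/
lemma plane_M_eq (h₁ : IsAnisoPlane Q₁) (h₂ : IsAnisoPlane Q₂) (u₁ : U₁) (u₂ : U₂)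
    (hu₁ : Q₁ u₁ = 1) (hu₂ : Q₂ u₂ = 1) (t c : F) :
    Nat.card {v : U₁ // polar Q₁ u₁ v = t ∧ Q₁ v = c} =
      Nat.card {v : U₂ // polar Q₂ u₂ v = t ∧ Q₂ v = c} := by
  classical
  have c12 := plane_pair_count h₁ h₂ u₁ u₂ hu₁ hu₂
  have c11 := plane_pair_count h₁ h₁ u₁ u₁ hu₁ hu₁
  have c22 := plane_pair_count h₂ h₂ u₂ u₂ hu₂ hu₂
  rw [plane_sum_MM] at c12 c11 c22
  set M₁ : F × F → ℕ := fun p => Nat.card {v : U₁ // polar Q₁ u₁ v = p.1 ∧ Q₁ v = p.2} with hM₁
  set M₂ : F × F → ℕ := fun p => Nat.card {v : U₂ // polar Q₂ u₂ v = p.1 ∧ Q₂ v = p.2} with hM₂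
  have e12 : ∑ p : F × F, M₁ p * M₂ p = ∑ p : F × F, M₁ p * M₁ p := by
    have := c12.trans c11.symm
    exact Nat.add_right_cancel this
  have e22 : ∑ p : F × F, M₂ p * M₂ p = ∑ p : F × F, M₁ p * M₁ p := by
    have := c22.trans c11.symm
    exact Nat.add_right_cancel this
  have hsum : ∑ p : F × F, ((M₁ p : ℤ) - M₂ p) ^ 2 = 0 := by
    have h1 : ∑ p : F × F, ((M₁ p : ℤ) - M₂ p) ^ 2 =
        ∑ p : F × F, ((M₁ p * M₁ p : ℕ) : ℤ) - 2 * ∑ p : F × F, ((M₁ p * M₂ p : ℕ) : ℤ) +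
          ∑ p : F × F, ((M₂ p * M₂ p : ℕ) : ℤ) := by
      rw [Finset.mul_sum, ← Finset.sum_sub_distrib, ← Finset.sum_add_distrib]
      refine Finset.sum_congr rfl fun p _ => ?_
      push_cast
      ring
    rw [h1, ← Nat.cast_sum, ← Nat.cast_sum, ← Nat.cast_sum, e12, e22]
    ring
  have hz := (Finset.sum_eq_zero_iff_of_nonneg (fun p _ => sq_nonneg ((M₁ p : ℤ) - M₂ p))).mp hsum
    (t, c) (Finset.mem_univ _)
  have : (M₁ (t, c) : ℤ) = M₂ (t, c) := by
    have := pow_eq_zero_iff (two_ne_zero) |>.mp hz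
    linarith
  exact_mod_cast this

end

end Cfsg.Agent.Lib.Helper7
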