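import Mathlib
import Cfsg.Agent.Lib.Helper7.Planes

set_option autoImplicit false
set_option linter.unusedSectionVars false
set_option linter.unusedVariables false

namespace Cfsg.Agent.Lib.Helper7

open Finset QuadraticMap

section
variable {F : Type*} [Field F]

/-- the binary form `z₀² + a z₀ z₁ + b z₁²` -/
noncomputable def QBin (a b : F) : QuadraticForm F (Fin 2 → F) :=
  QuadraticMap.proj 0 0 + a • QuadraticMap.proj 0 1 + b • QuadraticMap.proj 1 1

lemma QBin_apply (a b : F) (z : Fin 2 → F) :
    QBin a b z = z 0 ^ 2 + a * z 0 * z 1 + b * z 1 ^ 2 := by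
  simp [QBin, pow_two, mul_assoc]

lemma polar_QBin (a b : F) (u x : Fin 2 → F) :
    polar (QBin a b) u x = 2 * u 0 * x 0 + a * (u 0 * x 1 + x 0 * u 1) + 2 * b * u 1 * x 1 := by
  simp only [polar, QBin_apply, Pi.add_apply]
  ring

end

section
variable {F : Type*} [Field F] [Fintype F] {a b : F}

lemma two_eq_zero_ringChar (h2 : (2 : F) = 0) : ringChar F = 2 := by
  have hd : ringChar F ∣ 2 := ringChar.dvd (by exact_mod_cast h2)
  have hp : (ringChar F).Prime := CharP.char_is_prime F (ringChar F)
  exact (Nat.prime_dvd_prime_iff_eq hp Nat.prime_two).mp hd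

/-- in characteristic two an anisotropic binary form has `a ≠ 0` -/
lemma bin_a_ne_zero (hab : ∀ z₁ z₂ : F, z₁ ^ 2 + a * z₁ * z₂ + b * z₂ ^ 2 = 0 → z₁ = 0 ∧ z₂ = 0)
    (h2 : (2 : F) = 0) : a ≠ 0 := by
  intro ha
  obtain ⟨s, hs⟩ := FiniteField.isSquare_of_char_two (two_eq_zero_ringChar h2) b
  have := (hab s 1 (by rw [ha, hs]; linear_combination (s * s) * h2)).2
  exact one_ne_zero this

/-- the polar form of an anisotropic binary form is nondegenerate -/
lemma bin_nondeg (hab : ∀ z₁ z₂ : F, z₁ ^ 2 + a * z₁ * z₂ + b * z₂ ^ 2 = 0 → z₁ = 0 ∧ z₂ = 0)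
    (u₀ u₁ : F) (h0 : 2 * u₀ + a * u₁ = 0) (h1 : a * u₀ + 2 * b * u₁ = 0) : u₀ = 0 ∧ u₁ = 0 := by
  by_cases h2 : (2 : F) = 0
  · have ha := bin_a_ne_zero hab h2
    rw [h2] at h0 h1
    constructor
    · have : a * u₀ = 0 := by linear_combination h1
      rcases mul_eq_zero.mp this with h | h
      · exact absurd h ha
      · exact h
    · have : a * u₁ = 0 := by linear_combination h0
      rcases mul_eq_zero.mp this with h | h
      · exact absurd h ha
      · exact h
  · apply hab
    have : (2 : F) * (u₀ ^ 2 + a * u₀ * u₁ + b * u₁ ^ 2) = 0 := by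
      linear_combination u₀ * h0 + u₁ * h1
    rcases mul_eq_zero.mp this with h | h
    · exact absurd h h2
    · exact h

lemma QBin_nondeg (hab : ∀ z₁ z₂ : F, z₁ ^ 2 + a * z₁ * z₂ + b * z₂ ^ 2 = 0 → z₁ = 0 ∧ z₂ = 0)
    (u : Fin 2 → F) (hu : ∀ v, polar (QBin a b) u v = 0) : u = 0 := by
  classical
  have h0 := hu (Pi.single 0 1)
  have h1 := hu (Pi.single 1 1)
  rw [polar_QBin] at h0 h1
  simp at h0 h1
  obtain ⟨e0, e1⟩ := bin_nondeg hab (u 0) (u 1) (by linear_combination h0) (by linear_combination h1)
  funext i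
  fin_cases i
  · exact e0
  · exact e1

lemma QBin_card_zero (hab : ∀ z₁ z₂ : F, z₁ ^ 2 + a * z₁ * z₂ + b * z₂ ^ 2 = 0 → z₁ = 0 ∧ z₂ = 0) :
    Nat.card {z : Fin 2 → F // QBin a b z = 0} = 1 := by
  rw [Nat.card_eq_one_iff_unique]
  refine ⟨⟨?_⟩, ⟨⟨0, QuadraticMap.map_zero _⟩⟩⟩
  rintro ⟨w, hw⟩ ⟨w', hw'⟩
  rw [QBin_apply] at hw hw'
  obtain ⟨h0, h1⟩ := hab (w 0) (w 1) hw
  obtain ⟨h0', h1'⟩ := hab (w' 0) (w' 1) hw'
  apply Subtype.ext
  ext j
  fin_cases j
  · simp [h0, h0']
  · simp [h1, h1']

lemma card_fin2_fun : Fintype.card (Fin 2 → F) = Fintype.card F ^ 2 := by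
  rw [Fintype.card_fun, Fintype.card_fin]

/-- number of pairs with equal values -/
lemma QBin_card_pairs (hab : ∀ z₁ z₂ : F, z₁ ^ 2 + a * z₁ * z₂ + b * z₂ ^ 2 = 0 → z₁ = 0 ∧ z₂ = 0) :
    Nat.card {p : (Fin 2 → F) × (Fin 2 → F) // QBin a b p.1 = QBin a b p.2} =
      Fintype.card F ^ 2 + (Fintype.card F ^ 2 - 1) * Fintype.card F := by
  classical
  have e1 : {p : (Fin 2 → F) × (Fin 2 → F) // QBin a b p.1 = QBin a b p.2} ≃
      {p : (Fin 2 → F) × (Fin 2 → F) // QBin a b (p.2 + p.1) = QBin a b p.2} :=
    { toFun := fun p => ⟨(p.1.1 - p.1.2, p.1.2), by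
        show QBin a b (p.1.2 + (p.1.1 - p.1.2)) = QBin a b p.1.2
        rw [add_sub_cancel]
        exact p.2⟩
      invFun := fun p => ⟨(p.1.2 + p.1.1, p.1.2), p.2⟩
      left_inv := fun p => Subtype.ext (Prod.ext (by simp) rfl)
      right_inv := fun p => Subtype.ext (Prod.ext (by simp) rfl) }
  rw [Nat.card_congr e1, Nat.card_congr (Equiv.subtypeProdEquivSigmaSubtype
    (fun (d w : Fin 2 → F) => QBin a b (w + d) = QBin a b w)), Nat.card_sigma]
  have key : ∀ d : Fin 2 → F, Nat.card {w : Fin 2 → F // QBin a b (w + d) = QBin a b w} =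
      if d = 0 then Fintype.card F ^ 2 else Fintype.card F := by
    intro d
    split_ifs with hd
    · subst hd
      rw [Nat.card_congr (Equiv.subtypeUnivEquiv (fun w => by rw [add_zero])),
        Nat.card_eq_fintype_card, card_fin2_fun]
    · let x : Fin 2 → F := ![2 * d 0 + a * d 1, a * d 0 + 2 * b * d 1]
      have hx : x ≠ 0 := by
        intro hx0
        have h0 : 2 * d 0 + a * d 1 = 0 := by
          have := congrFun hx0 0
          simpa [x] using this
        have h1 : a * d 0 + 2 * b * d 1 = 0 := by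
          have := congrFun hx0 1
          simpa [x] using this
        obtain ⟨e0, e1⟩ := bin_nondeg hab (d 0) (d 1) h0 h1
        apply hd
        funext i
        fin_cases i
        · exact e0
        · exact e1
      have := card_dot_fiber 2 x hx (- QBin a b d)
      rw [Nat.card_eq_fintype_card]
      have e2 : {w : Fin 2 → F // QBin a b (w + d) = QBin a b w} ≃
          {y : Fin 2 → F // ∑ i, x i * y i = - QBin a b d} :=
        Equiv.subtypeEquivRight (fun w => by
          rw [QuadraticMap.map_add (QBin a b), polar_QBin, Fin.sum_univ_two, QBin_apply]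
          simp only [x, Matrix.cons_val_zero, Matrix.cons_val_one]
          constructor
          · intro h; linear_combination h
          · intro h; linear_combination h)
      rw [Fintype.card_congr e2, this]
      simp
  simp only [key]
  rw [Finset.sum_ite, Finset.sum_const, Finset.sum_const, smul_eq_mul, smul_eq_mul]
  have h1 : (Finset.univ.filter (fun d : Fin 2 → F => d = 0)).card = 1 := by
    rw [Finset.filter_eq' Finset.univ (0 : Fin 2 → F)]
    simp
  have h2 : (Finset.univ.filter (fun d : Fin 2 → F => ¬ d = 0)).card = Fintype.card F ^ 2 - 1 := by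
    rw [Finset.filter_not, Finset.card_sdiff_of_subset (Finset.filter_subset _ _), h1,
      Finset.card_univ, card_fin2_fun]
  rw [h1, h2, one_mul]

/-- an anisotropic binary form takes every nonzero value exactly `q + 1` times -/
lemma QBin_card_ne_zero
    (hab : ∀ z₁ z₂ : F, z₁ ^ 2 + a * z₁ * z₂ + b * z₂ ^ 2 = 0 → z₁ = 0 ∧ z₂ = 0)
    (c : F) (hc : c ≠ 0) :
    Nat.card {z : Fin 2 → F // QBin a b z = c} = Fintype.card F + 1 := by
  classical
  set q := Fintype.card F with hq
  have hq1 : 1 ≤ q := Fintype.card_pos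
  set N : F → ℕ := fun c => Nat.card {z : Fin 2 → F // QBin a b z = c} with hN
  have hN0 : N 0 = 1 := QBin_card_zero hab
  -- sum of N
  have hs1 : ∑ c : F, N c = q ^ 2 := by
    have := card_eq_sum_fiber' (fun _ : Fin 2 → F => True) (fun z => QBin a b z)
    rw [Nat.card_congr (Equiv.subtypeUnivEquiv (fun _ => trivial)), Nat.card_eq_fintype_card,
      card_fin2_fun] at this
    rw [this]
    refine Finset.sum_congr rfl fun c _ => ?_
    exact Nat.card_congr (Equiv.subtypeEquivRight (fun z => by simp))
  -- sum of squares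
  have hs2 : ∑ c : F, N c * N c = q ^ 2 + (q ^ 2 - 1) * q := by
    rw [← QBin_card_pairs hab,
      card_eq_sum_fiber' (fun p : (Fin 2 → F) × (Fin 2 → F) => QBin a b p.1 = QBin a b p.2)
        (fun p => QBin a b p.1)]
    refine Finset.sum_congr rfl fun c _ => ?_
    rw [← Nat.card_prod]
    apply Nat.card_congr
    exact
      { toFun := fun y => ⟨(y.1.1, y.2.1), y.1.2.trans y.2.2.symm, y.1.2⟩
        invFun := fun x => (⟨x.1.1, x.2.2⟩, ⟨x.1.2, x.2.1.symm.trans x.2.2⟩)
        left_inv := fun y => rfl
        right_inv := fun x => rfl }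
  rw [← Finset.add_sum_erase Finset.univ _ (Finset.mem_univ (0 : F)), hN0] at hs1 hs2
  have hq2 : 1 ≤ q ^ 2 := Nat.one_le_pow _ _ hq1
  have hs1' : (∑ c ∈ Finset.univ.erase (0 : F), (N c : ℤ)) = (q : ℤ) ^ 2 - 1 := by
    have := congrArg (Nat.cast : ℕ → ℤ) hs1
    push_cast at this
    linarith
  have hs2' : (∑ c ∈ Finset.univ.erase (0 : F), (N c : ℤ) * N c) =
      (q : ℤ) ^ 2 + ((q : ℤ) ^ 2 - 1) * q - 1 := by
    have := congrArg (Nat.cast : ℕ → ℤ) hs2
    push_cast [Nat.cast_sub hq2] at this
    linarith
  have hcard : ((Finset.univ.erase (0 : F)).card : ℤ) = (q : ℤ) - 1 := by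
    rw [Finset.card_erase_of_mem (Finset.mem_univ _), Finset.card_univ, Nat.cast_sub hq1]
    simp
  have hvar : ∑ c ∈ Finset.univ.erase (0 : F), ((N c : ℤ) - (q + 1)) ^ 2 = 0 := by
    have h1 : ∑ c ∈ Finset.univ.erase (0 : F), ((N c : ℤ) - (q + 1)) ^ 2 =
        ∑ c ∈ Finset.univ.erase (0 : F), (N c : ℤ) * N c -
          2 * ((q : ℤ) + 1) * ∑ c ∈ Finset.univ.erase (0 : F), (N c : ℤ) +
          ((Finset.univ.erase (0 : F)).card : ℤ) * ((q : ℤ) + 1) ^ 2 := by
      rw [Finset.mul_sum, ← Finset.sum_sub_distrib, Finset.card_eq_sum_ones, Nat.cast_sum,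
        Finset.sum_mul, ← Finset.sum_add_distrib]
      refine Finset.sum_congr rfl fun c _ => ?_
      push_cast
      ring
    rw [h1, hs1', hs2', hcard]
    ring
  have hz := (Finset.sum_eq_zero_iff_of_nonneg
    (fun c _ => sq_nonneg ((N c : ℤ) - (q + 1)))).mp hvar c
    (Finset.mem_erase.mpr ⟨hc, Finset.mem_univ _⟩)
  have : (N c : ℤ) = q + 1 := by
    have := pow_eq_zero_iff (two_ne_zero) |>.mp hz
    linarith
  exact_mod_cast this

lemma QBin_isAnisoPlane
    (hab : ∀ z₁ z₂ : F, z₁ ^ 2 + a * z₁ * z₂ + b * z₂ ^ 2 = 0 → z₁ = 0 ∧ z₂ = 0) :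
    IsAnisoPlane (QBin a b) :=
  ⟨QBin_nondeg hab, card_fin2_fun, QBin_card_zero hab, QBin_card_ne_zero hab⟩

/-- in the standard plane there are exactly two vectors `w` with `polar e₀ w = a`, `Q w = b` -/
lemma QBin_card_second
    (hab : ∀ z₁ z₂ : F, z₁ ^ 2 + a * z₁ * z₂ + b * z₂ ^ 2 = 0 → z₁ = 0 ∧ z₂ = 0) :
    Nat.card {w : Fin 2 → F // polar (QBin a b) (Pi.single 0 1) w = a ∧ QBin a b w = b} = 2 := by
  classical
  rw [Nat.card_eq_fintype_card, Fintype.card_subtype]
  have hset : Finset.univ.filter (fun w : Fin 2 → F =>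
      polar (QBin a b) (Pi.single 0 1) w = a ∧ QBin a b w = b) = {![0, 1], ![a, -1]} := by
    ext w
    simp only [Finset.mem_filter, Finset.mem_univ, true_and, Finset.mem_insert,
      Finset.mem_singleton, polar_QBin, QBin_apply]
    simp only [Pi.single_eq_same, Fin.isValue, ne_eq, one_ne_zero, not_false_eq_true,
      Pi.single_eq_of_ne, mul_one, mul_zero, add_zero, zero_mul]
    constructor
    · rintro ⟨h1, h2⟩
      have key : (1 - w 1 ^ 2) * (a ^ 2 - 4 * b) = 0 := by
        linear_combination 4 * h2 + (-(2 * w 0) - a * w 1 - a) * h1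
      by_cases h2' : (2 : F) = 0
      · have ha := bin_a_ne_zero hab h2'
        have hw1 : w 1 = 1 := by
          have : a * (w 1 - 1) = 0 := by linear_combination h1 - w 0 * h2'
          rcases mul_eq_zero.mp this with h | h
          · exact absurd h ha
          · exact sub_eq_zero.mp h
        have hw0 : w 0 * (w 0 + a) = 0 := by
          rw [hw1] at h2
          linear_combination h2
        rcases mul_eq_zero.mp hw0 with h | h
        · left
          funext i
          fin_cases i
          · simpa using h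
          · simpa using hw1
        · right
          funext i
          fin_cases i
          · have : w 0 = a := by linear_combination h - a * h2'
            simpa using this
          · have : w 1 = -1 := by rw [hw1]; linear_combination h2'
            simpa using this
      · have hdisc : a ^ 2 - 4 * b ≠ 0 := by
          intro hd
          have := (hab a (-2) (by linear_combination (-1 : F) * hd)).2
          apply h2'
          linear_combination -this
        have hw1 : (1 - w 1) * (1 + w 1) = 0 := by
          rcases mul_eq_zero.mp key with h | h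
          · linear_combination h
          · exact absurd h hdisc
        rcases mul_eq_zero.mp hw1 with h | h
        · left
          have hw1' : w 1 = 1 := by linear_combination -h
          have hw0 : w 0 = 0 := by
            have : (2 : F) * w 0 = 0 := by rw [hw1'] at h1; linear_combination h1
            rcases mul_eq_zero.mp this with h' | h'
            · exact absurd h' h2'
            · exact h'
          funext i
          fin_cases i
          · simpa using hw0
          · simpa using hw1'
        · right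
          have hw1' : w 1 = -1 := by linear_combination h
          have hw0 : w 0 = a := by
            have : (2 : F) * (w 0 - a) = 0 := by rw [hw1'] at h1; linear_combination h1
            rcases mul_eq_zero.mp this with h' | h'
            · exact absurd h' h2'
            · exact sub_eq_zero.mp h'
          funext i
          fin_cases i
          · simpa using hw0
          · simpa using hw1'
    · rintro (rfl | rfl)
      · simp
      · refine ⟨?_, ?_⟩
        · simp
          ring
        · simp
          ring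
  rw [hset, Finset.card_pair]
  intro heq
  have h0 : (0 : F) = a := by
    have := congrFun heq 0
    simpa using this
  have h1 : (1 : F) = -1 := by
    have := congrFun heq 1
    simpa using this
  have h2 : (2 : F) = 0 := by linear_combination h1
  exact bin_a_ne_zero hab h2 h0.symm

end

end Cfsg.Agent.Lib.Helper7
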