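import Mathlib
import Cfsg.Agent.Lib.Helper7.HypFrame
import Cfsg.Agent.Lib.Helper7.IsoCols
import Cfsg.Agent.Lib.Helper51.HypPairs
import Cfsg.Agent.S0289

set_option autoImplicit false
set_option linter.unusedSectionVars false
set_option linter.unusedVariables false

namespace Cfsg.Agent.Lib.Helper7

open QuadraticMap Cfsg.Agent.Lib.Helper51

lemma plus_arith (q A B W N P t : ℕ) (hq : 2 ≤ q) (hA : 1 ≤ A) (hB : 1 ≤ B)
    (ht : q * t = (A - 1) * A)
    (c1 : A ^ 2 * (B ^ 2 * q ^ 2) = A ^ 2 * W)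
    (c2 : A ^ 2 * B ^ 2 * q + A * B * q - A * B = A * N + t * W)
    (c3 : P * q ^ 2 = (N - 1) * W) : P = (B * q - 1) * (B + 1) * B ^ 2 := by
  have hW : W = B ^ 2 * q ^ 2 := by
    have hA2 : 0 < A ^ 2 := by positivity
    exact (Nat.eq_of_mul_eq_mul_left hA2 c1).symm
  subst hW
  have hle : A * B ≤ A ^ 2 * B ^ 2 * q + A * B * q :=
    le_trans (Nat.le_mul_of_pos_right _ (by omega)) (Nat.le_add_left _ _)
  have c2' : ((A : ℤ) ^ 2 * B ^ 2 * q + A * B * q - A * B) = A * N + t * (B ^ 2 * q ^ 2) := by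
    have := congrArg (Nat.cast : ℕ → ℤ) c2
    push_cast [Nat.cast_sub hle] at this
    exact this
  have ht' : (q : ℤ) * t = (A - 1) * A := by
    have := congrArg (Nat.cast : ℕ → ℤ) ht
    push_cast [Nat.cast_sub hA] at this
    exact this
  have hqA : (q : ℤ) * A ≠ 0 := by positivity
  have hN : (N : ℤ) = B ^ 2 * q + B * q - B := by
    apply mul_left_cancel₀ hqA
    linear_combination (-(q : ℤ)) * c2' - (B : ℤ) ^ 2 * q ^ 2 * ht'
  have hN1 : 1 ≤ N := by
    have : (1 : ℤ) ≤ N := by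
      rw [hN]
      have h1 : (1 : ℤ) ≤ B := by exact_mod_cast hB
      have h2 : (2 : ℤ) ≤ q := by exact_mod_cast hq
      nlinarith
    exact_mod_cast this
  have c3' : (P : ℤ) * q ^ 2 = (N - 1) * (B ^ 2 * q ^ 2) := by
    have := congrArg (Nat.cast : ℕ → ℤ) c3
    push_cast [Nat.cast_sub hN1] at this
    exact this
  have hq2 : (q : ℤ) ^ 2 ≠ 0 := by positivity
  have hBq : 1 ≤ B * q := by nlinarith
  have goal : (P : ℤ) = ((B * q - 1) * (B + 1) * B ^ 2 : ℕ) := by
    push_cast [Nat.cast_sub hBq]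
    apply mul_right_cancel₀ hq2
    rw [c3', hN]
    ring
  exact_mod_cast goal

/-- `q * ((q^k - 1) * q^(k-1)) = (q^k - 1) * q^k` with truncated subtraction -/
lemma pow_pred_arith (q k : ℕ) : q * ((q ^ k - 1) * q ^ (k - 1)) = (q ^ k - 1) * q ^ k := by
  rcases k with _ | k
  · simp
  · simp only [Nat.add_sub_cancel]
    ring

section
variable {F : Type*} [Field F] [Fintype F]

lemma QPlus_nondeg (m : ℕ) (u : Fin m ⊕ Fin m → F)
    (hu : ∀ v, polar (QPlus m F) u v = 0) : u = 0 := by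
  classical
  funext c
  rcases c with i | i
  · have := hu (Pi.single (Sum.inr i) 1)
    rw [polar_QPlus] at this
    simpa [Pi.single_apply] using this
  · have := hu (Pi.single (Sum.inl i) 1)
    rw [polar_QPlus] at this
    simpa [Pi.single_apply] using this

lemma isQCol_plus_iff (m : ℕ) (b : (Fin m ⊕ Fin m) → (Fin m ⊕ Fin m) → F) :
    IsQCol (QPlus m F) b ↔
      IsHyp (QPlus m F) (fun i => b (Sum.inl i)) (fun i => b (Sum.inr i)) := by
  classical
  constructor
  · intro hb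
    refine ⟨fun i => ?_, fun i => ?_, fun i j => ?_, fun i j => ?_, fun i j => ?_⟩
    · rw [hb.Q_col, QPlus_apply]
      simp [Pi.single_apply]
    · rw [hb.Q_col, QPlus_apply]
      simp [Pi.single_apply]
    · rw [hb.polar_col, polar_QPlus]
      simp [Pi.single_apply, eq_comm]
    · rw [hb.polar_col, polar_QPlus]
      simp [Pi.single_apply]
    · rw [hb.polar_col, polar_QPlus]
      simp [Pi.single_apply]
  · intro h v
    have hsum : ∑ c, v c • b c =
        hvec (fun i => b (Sum.inl i)) (fun i => b (Sum.inr i)) (fun i => v (Sum.inl i))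
          (fun i => v (Sum.inr i)) := by
      rw [Fintype.sum_sum_type]
      unfold hvec
      rw [Finset.sum_add_distrib]
    rw [hsum, Q_hvec h, QPlus_apply]

lemma card_plus_fun (m : ℕ) : Nat.card (Fin m ⊕ Fin m → F) = Fintype.card F ^ (2 * m) := by
  rw [Nat.card_eq_fintype_card, Fintype.card_fun, Fintype.card_sum, Fintype.card_fin, two_mul]

/-- the number of hyperbolic pairs in the perp of a `k`-frame of the plus type space of rank
`k + j + 1` -/
lemma card_plus_pairs {q : ℕ} (hF : Fintype.card F = q) (k j : ℕ)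
    (e f : Fin k → (Fin (k + j + 1) ⊕ Fin (k + j + 1) → F))
    (h : IsHyp (QPlus (k + j + 1) F) e f) :
    Nat.card {p : (Fin (k + j + 1) ⊕ Fin (k + j + 1) → F) × (Fin (k + j + 1) ⊕ Fin (k + j + 1) → F) //
      Perp (QPlus (k + j + 1) F) e f p.1 ∧ Perp (QPlus (k + j + 1) F) e f p.2 ∧
      QPlus (k + j + 1) F p.1 = 0 ∧ QPlus (k + j + 1) F p.2 = 0 ∧
      polar (QPlus (k + j + 1) F) p.1 p.2 = 1} =
    (q ^ (j + 1) - 1) * (q ^ j + 1) * q ^ (2 * j) := by
  classical
  have hq : 2 ≤ q := by rw [← hF]; exact Fintype.one_lt_card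
  have c1 := card_eq_perp h
  have c2 := card_fiber_eq h 0
  have c3 := card_pairs h (QPlus_nondeg (k + j + 1))
  rw [card_plus_fun, hF] at c1
  have hN : Nat.card {v : Fin (k + j + 1) ⊕ Fin (k + j + 1) → F // QPlus (k + j + 1) F v = 0} =
      q ^ (2 * (k + j + 1) - 1) + q ^ (k + j + 1) - q ^ (k + j + 1 - 1) := by
    have := Cfsg.Agent.S0289.result hF (k + j + 1) (by omega)
    rw [← this]
    simp only [coe_QPlus]
  rw [hN, hF] at c2
  rw [hF] at c3
  have key := plus_arith q (q ^ k) (q ^ j) _ _ _ ((q ^ k - 1) * q ^ (k - 1)) hq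
    (Nat.one_le_pow _ _ (by omega)) (Nat.one_le_pow _ _ (by omega)) (pow_pred_arith q k)
    (by rw [show (q ^ k) ^ 2 = q ^ (2 * k) by ring, ← c1]; ring)
    (by
      rw [← mul_assoc ((q ^ k - 1)) (q ^ (k - 1))] at c2
      rw [← c2]
      have e1 : q ^ (2 * (k + j + 1) - 1) = (q ^ k) ^ 2 * (q ^ j) ^ 2 * q := by
        have : 2 * (k + j + 1) - 1 = 2 * k + 2 * j + 1 := by omega
        rw [this]; ring
      have e2 : q ^ (k + j + 1) = q ^ k * q ^ j * q := by ring
      have e3 : q ^ (k + j + 1 - 1) = q ^ k * q ^ j := by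
        rw [Nat.add_sub_cancel]; ring
      rw [e1, e2, e3])
    c3
  rw [key]
  ring

/-- number of hyperbolic `k`-frames in the plus type space of rank `m`, `k ≤ m` -/
lemma card_plus_frames {q : ℕ} (hF : Fintype.card F = q) (m k : ℕ) (hk : k ≤ m) :
    Nat.card {p : (Fin k → (Fin m ⊕ Fin m → F)) × (Fin k → (Fin m ⊕ Fin m → F)) //
      IsHyp (QPlus m F) p.1 p.2} =
    ∏ i ∈ Finset.range k, (q ^ (m - i) - 1) * (q ^ (m - i - 1) + 1) * q ^ (2 * (m - i - 1)) := by
  induction k with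
  | zero => simp [card_frames_zero]
  | succ k ih =>
    obtain ⟨j, rfl⟩ : ∃ j, m = k + j + 1 := ⟨m - k - 1, by omega⟩
    rw [card_frames_succ k _ (fun e f h => card_plus_pairs hF k j e f h), ih (by omega),
      Finset.prod_range_succ]
    congr 2
    · congr 2
      · congr 1; omega
      · congr 2; omega
    · congr 1; omega

lemma sq_sub_one_nat (a : ℕ) (ha : 1 ≤ a) : a ^ 2 - 1 = (a - 1) * (a + 1) := by
  obtain ⟨c, rfl⟩ : ∃ c, a = c + 1 := ⟨a - 1, by omega⟩
  have : (c + 1) ^ 2 = c * (c + 1 + 1) + 1 := by ring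
  rw [this]
  simp

lemma plus_prod_formula (q : ℕ) (hq : 1 ≤ q) (n : ℕ) :
    ∏ i ∈ Finset.range (n + 1), (q ^ (i + 1) - 1) * (q ^ i + 1) * q ^ (2 * i) =
      2 * q ^ ((n + 1) * n) * (q ^ (n + 1) - 1) * ∏ i ∈ Finset.range n, (q ^ (2 * (i + 1)) - 1) := by
  induction n with
  | zero => simp; ring
  | succ n ih =>
    rw [Finset.prod_range_succ, ih, Finset.prod_range_succ]
    have h1 : q ^ (2 * (n + 1)) - 1 = (q ^ (n + 1) - 1) * (q ^ (n + 1) + 1) := by
      rw [mul_comm 2 (n + 1), pow_mul]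
      exact sq_sub_one_nat _ (Nat.one_le_pow _ _ hq)
    rw [h1]
    have h2 : q ^ ((n + 1 + 1) * (n + 1)) = q ^ ((n + 1) * n) * q ^ (2 * (n + 1)) := by
      rw [← pow_add]; congr 1; ring
    rw [h2]
    ring

theorem card_GOPlus {q : ℕ} (hF : Fintype.card F = q) (m : ℕ) (hm : 1 ≤ m) :
    Nat.card (Cfsg.isometryGroup F (Cfsg.quadFormPlus m F)) =
      2 * q ^ (m * (m - 1)) * (q ^ m - 1) * ∏ i ∈ Finset.range (m - 1), (q ^ (2 * (i + 1)) - 1) := by
  classical
  have hq : 1 ≤ q := by rw [← hF]; exact Fintype.card_pos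
  rw [← coe_QPlus, card_isometryGroup_eq (QPlus_nondeg m)]
  have e1 : {b : (Fin m ⊕ Fin m) → (Fin m ⊕ Fin m) → F // IsQCol (QPlus m F) b} ≃
      {p : (Fin m → (Fin m ⊕ Fin m → F)) × (Fin m → (Fin m ⊕ Fin m → F)) //
        IsHyp (QPlus m F) p.1 p.2} :=
    (Equiv.sumArrowEquivProdArrow (Fin m) (Fin m) (Fin m ⊕ Fin m → F)).subtypeEquiv
      (fun b => isQCol_plus_iff m b)
  rw [Nat.card_congr e1, card_plus_frames hF m m le_rfl]
  obtain ⟨n, rfl⟩ : ∃ n, m = n + 1 := ⟨m - 1, by omega⟩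
  rw [← Finset.prod_range_reflect]
  simp only [Nat.add_sub_cancel]
  rw [← plus_prod_formula q hq n]
  refine Finset.prod_congr rfl fun i hi => ?_
  rw [Finset.mem_range] at hi
  have e1 : n + 1 - (n - i) = i + 1 := by omega
  rw [e1, Nat.add_sub_cancel]

end

end Cfsg.Agent.Lib.Helper7
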