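import Mathlib
import Cfsg.Agent.Lib.Helper7.GOPlusOrder
import Cfsg.Agent.Lib.Helper7.BinForm

set_option autoImplicit false
set_option linter.unusedSectionVars false
set_option linter.unusedVariables false

namespace Cfsg.Agent.Lib.Helper7

open QuadraticMap Cfsg.Agent.Lib.Helper51

lemma minus_arith (q A B W N P t : ℕ) (hq : 2 ≤ q) (hA : 1 ≤ A) (hB : 1 ≤ B)
    (ht : q * t = (A - 1) * A)
    (c1 : A ^ 2 * (B ^ 2 * q ^ 4) = A ^ 2 * W)
    (c2 : A * B * q + (A * B * q - 1) * (A * B * q ^ 2) = A * N + t * W)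
    (c3 : P * q ^ 2 = (N - 1) * W) :
    P = (B * q ^ 2 + 1) * (B * q - 1) * (B ^ 2 * q ^ 2) := by
  have hW : W = B ^ 2 * q ^ 4 := by
    have hA2 : 0 < A ^ 2 := by positivity
    exact (Nat.eq_of_mul_eq_mul_left hA2 c1).symm
  subst hW
  have hABq : 1 ≤ A * B * q := by
    have : 0 < A * B * q := by positivity
    omega
  have c2' : ((A : ℤ) * B * q + (A * B * q - 1) * (A * B * q ^ 2)) =
      A * N + t * (B ^ 2 * q ^ 4) := by
    have := congrArg (Nat.cast : ℕ → ℤ) c2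
    push_cast [Nat.cast_sub hABq] at this
    exact this
  have ht' : (q : ℤ) * t = (A - 1) * A := by
    have := congrArg (Nat.cast : ℕ → ℤ) ht
    push_cast [Nat.cast_sub hA] at this
    exact this
  have hqA : (q : ℤ) * A ≠ 0 := by positivity
  have hN : (N : ℤ) = B ^ 2 * q ^ 3 + B * q - B * q ^ 2 := by
    apply mul_left_cancel₀ hqA
    linear_combination (-(q : ℤ)) * c2' - (B : ℤ) ^ 2 * q ^ 4 * ht'
  have hB1 : (1 : ℤ) ≤ B := by exact_mod_cast hB
  have hq2' : (2 : ℤ) ≤ q := by exact_mod_cast hq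
  have hBq' : (2 : ℤ) ≤ B * q := by nlinarith
  have hN1 : 1 ≤ N := by
    have h3 : (N : ℤ) - 1 = (B * q ^ 2 + 1) * (B * q - 1) := by rw [hN]; ring
    have h4 : (0 : ℤ) < (B * q ^ 2 + 1) * (B * q - 1) := by
      apply mul_pos
      · positivity
      · linarith
    have : (1 : ℤ) ≤ N := by linarith
    exact_mod_cast this
  have c3' : (P : ℤ) * q ^ 2 = (N - 1) * (B ^ 2 * q ^ 4) := by
    have := congrArg (Nat.cast : ℕ → ℤ) c3
    push_cast [Nat.cast_sub hN1] at this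
    exact this
  have hq2 : (q : ℤ) ^ 2 ≠ 0 := by positivity
  have hBq : 1 ≤ B * q := by
    have : (1 : ℤ) ≤ ((B * q : ℕ) : ℤ) := by push_cast; linarith
    exact_mod_cast this
  have goal : (P : ℤ) = ((B * q ^ 2 + 1) * (B * q - 1) * (B ^ 2 * q ^ 2) : ℕ) := by
    push_cast [Nat.cast_sub hBq]
    apply mul_right_cancel₀ hq2
    rw [c3', hN]
    ring
  exact_mod_cast goal

section abstract_plane
variable {F : Type*} [Field F] [Fintype F] {V : Type*} [AddCommGroup V] [Module F V] [Fintype V]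

/-- the perp of a frame as a submodule -/
def perpSub (Q : QuadraticForm F V) {k : ℕ} (e f : Fin k → V) : Submodule F V where
  carrier := {w | Perp Q e f w}
  add_mem' := fun h h' => Perp.add h h'
  zero_mem' := Perp.zero
  smul_mem' := fun a _ h => Perp.smul h a

variable {Q : QuadraticForm F V}

lemma mem_perpSub {k : ℕ} {e f : Fin k → V} (w : V) : w ∈ perpSub Q e f ↔ Perp Q e f w := Iff.rfl

/-- in the anisotropic plane `S = ⟨e, f⟩^⊥`, the joint distribution of `(polar u v, Q v)` is that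
of any model anisotropic plane -/
lemma card_plane_second {k : ℕ} {e f : Fin k → V} (h : IsHyp Q e f)
    (hnd : ∀ u : V, (∀ v, polar Q u v = 0) → u = 0)
    (hcard : Nat.card {w : V // Perp Q e f w} = Fintype.card F ^ 2)
    (h0 : Nat.card {w : V // Perp Q e f w ∧ Q w = 0} = 1)
    (h1 : ∀ c : F, c ≠ 0 → Nat.card {w : V // Perp Q e f w ∧ Q w = c} = Fintype.card F + 1)
    {U₂ : Type*} [AddCommGroup U₂] [Module F U₂] [Fintype U₂] {Q₂ : QuadraticForm F U₂}
    (h₂ : IsAnisoPlane Q₂) (u₂ : U₂) (hu₂ : Q₂ u₂ = 1)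
    (u : V) (hu : Perp Q e f u) (hQu : Q u = 1) (t c : F) :
    Nat.card {v : V // Perp Q e f v ∧ Q v = c ∧ polar Q u v = t} =
      Nat.card {v : U₂ // polar Q₂ u₂ v = t ∧ Q₂ v = c} := by
  classical
  letI : Fintype (perpSub Q e f) := Fintype.ofFinite _
  obtain ⟨Qr, hQr⟩ : ∃ Qr : QuadraticForm F (perpSub Q e f), Qr = Q.comp (perpSub Q e f).subtype :=
    ⟨_, rfl⟩
  have hQr_apply : ∀ w : perpSub Q e f, Qr w = Q w.1 := by
    intro w; rw [hQr]; rfl
  have hpol : ∀ w w' : perpSub Q e f, polar Qr w w' = polar Q w.1 w'.1 := by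
    intro w w'
    simp only [polar, hQr_apply]
    rfl
  have hcnt : ∀ c : F, Nat.card {v : perpSub Q e f // Qr v = c} =
      Nat.card {w : V // Perp Q e f w ∧ Q w = c} := by
    intro c
    apply Nat.card_congr
    exact
      { toFun := fun v => ⟨v.1.1, v.1.2, by rw [← hQr_apply]; exact v.2⟩
        invFun := fun w => ⟨⟨w.1, w.2.1⟩, by rw [hQr_apply]; exact w.2.2⟩
        left_inv := fun v => rfl
        right_inv := fun w => rfl }
  have hS : IsAnisoPlane Qr := by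
    refine ⟨?_, ?_, ?_, ?_⟩
    · intro w hw
      apply Subtype.ext
      apply hnd
      intro v
      have hv := (decomp h).symm_apply_apply v
      rw [← hv]
      show polar Q w.1 (((decomp h) v).2.1.1 + hvec e f ((decomp h) v).1 ((decomp h) v).2.2) = 0
      rw [polar_add_right, perp_polar_hvec h w.2, add_zero]
      have := hw ⟨((decomp h) v).2.1.1, ((decomp h) v).2.1.2⟩
      rw [hpol] at this
      exact this
    · rw [← hcard, ← Nat.card_eq_fintype_card]
      exact Nat.card_congr (Equiv.subtypeEquivRight (fun w => Iff.rfl))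
    · rw [hcnt, h0]
    · intro c hc
      rw [hcnt, h1 c hc]
  rw [← plane_M_eq hS h₂ ⟨u, hu⟩ u₂ (by rw [hQr_apply]; exact hQu) hu₂ t c]
  apply Nat.card_congr
  exact
    { toFun := fun v => ⟨⟨v.1, v.2.1⟩, by rw [hpol]; exact v.2.2.2, by rw [hQr_apply]; exact v.2.2.1⟩
      invFun := fun w => ⟨w.1.1, w.1.2, by rw [← hQr_apply]; exact w.2.2, by
        have := w.2.1
        rw [hpol] at this
        exact this⟩
      left_inv := fun v => rfl
      right_inv := fun w => rfl }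

/-- the number of pairs `(u, v)` in the anisotropic plane `⟨e, f⟩^⊥` with the Gram data of the
standard basis of the binary form -/
lemma card_plane_pairs {k : ℕ} {e f : Fin k → V} (h : IsHyp Q e f)
    (hnd : ∀ u : V, (∀ v, polar Q u v = 0) → u = 0)
    (hcard : Nat.card {w : V // Perp Q e f w} = Fintype.card F ^ 2)
    (h0 : Nat.card {w : V // Perp Q e f w ∧ Q w = 0} = 1)
    (h1 : ∀ c : F, c ≠ 0 → Nat.card {w : V // Perp Q e f w ∧ Q w = c} = Fintype.card F + 1)
    (a b : F) (hab : ∀ z₁ z₂ : F, z₁ ^ 2 + a * z₁ * z₂ + b * z₂ ^ 2 = 0 → z₁ = 0 ∧ z₂ = 0) :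
    Nat.card {x : V × V // (Perp Q e f x.1 ∧ Q x.1 = 1) ∧
        (Perp Q e f x.2 ∧ Q x.2 = b ∧ polar Q x.1 x.2 = a)} = (Fintype.card F + 1) * 2 := by
  classical
  rw [card_subtype_prod_const (A := V) (B := V) (fun u => Perp Q e f u ∧ Q u = 1)
    (fun u v => Perp Q e f v ∧ Q v = b ∧ polar Q u v = a) 2 ?_, h1 1 one_ne_zero]
  rintro u ⟨hu, hQu⟩
  rw [card_plane_second h hnd hcard h0 h1 (QBin_isAnisoPlane hab) (Pi.single 0 1)
    (by rw [QBin_apply]; simp) u hu hQu a b]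
  exact QBin_card_second hab

end abstract_plane

section
variable {F : Type*} [Field F] [Fintype F]

lemma QMinus_nondeg (n : ℕ) (a b : F)
    (hab : ∀ z₁ z₂ : F, z₁ ^ 2 + a * z₁ * z₂ + b * z₂ ^ 2 = 0 → z₁ = 0 ∧ z₂ = 0)
    (u : (Fin n ⊕ Fin n) ⊕ Fin 2 → F)
    (hu : ∀ v, polar (QMinus n F a b) u v = 0) : u = 0 := by
  classical
  have e0 : u (Sum.inr 0) = 0 ∧ u (Sum.inr 1) = 0 := by
    have h0 := hu (Pi.single (Sum.inr 0) 1)
    have h1 := hu (Pi.single (Sum.inr 1) 1)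
    rw [polar_QMinus] at h0 h1
    simp [Pi.single_apply] at h0 h1
    exact bin_nondeg hab _ _ (by linear_combination h0) (by linear_combination h1)
  funext c
  rcases c with (i | i) | i
  · have := hu (Pi.single (Sum.inl (Sum.inr i)) 1)
    rw [polar_QMinus] at this
    simpa [Pi.single_apply] using this
  · have := hu (Pi.single (Sum.inl (Sum.inl i)) 1)
    rw [polar_QMinus] at this
    simpa [Pi.single_apply] using this
  · fin_cases i
    · exact e0.1
    · exact e0.2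

lemma isQCol_minus_iff (n : ℕ) (a b : F)
    (c : ((Fin n ⊕ Fin n) ⊕ Fin 2) → ((Fin n ⊕ Fin n) ⊕ Fin 2) → F) :
    IsQCol (QMinus n F a b) c ↔
      IsHyp (QMinus n F a b) (fun i => c (Sum.inl (Sum.inl i))) (fun i => c (Sum.inl (Sum.inr i))) ∧
      ((Perp (QMinus n F a b) (fun i => c (Sum.inl (Sum.inl i))) (fun i => c (Sum.inl (Sum.inr i)))
          (c (Sum.inr 0)) ∧ QMinus n F a b (c (Sum.inr 0)) = 1) ∧
        (Perp (QMinus n F a b) (fun i => c (Sum.inl (Sum.inl i)))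
          (fun i => c (Sum.inl (Sum.inr i))) (c (Sum.inr 1)) ∧
          QMinus n F a b (c (Sum.inr 1)) = b ∧
          polar (QMinus n F a b) (c (Sum.inr 0)) (c (Sum.inr 1)) = a)) := by
  classical
  constructor
  · intro hb
    refine ⟨⟨fun i => ?_, fun i => ?_, fun i j => ?_, fun i j => ?_, fun i j => ?_⟩,
      ⟨⟨fun i => ?_, fun i => ?_⟩, ?_⟩, ⟨fun i => ?_, fun i => ?_⟩, ?_, ?_⟩
    · rw [hb.Q_col, QMinus_apply]
      simp [Pi.single_apply]
    · rw [hb.Q_col, QMinus_apply]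
      simp [Pi.single_apply]
    · rw [hb.polar_col, polar_QMinus]
      simp [Pi.single_apply, eq_comm]
    · rw [hb.polar_col, polar_QMinus]
      simp [Pi.single_apply]
    · rw [hb.polar_col, polar_QMinus]
      simp [Pi.single_apply]
    · rw [hb.polar_col, polar_QMinus]
      simp [Pi.single_apply]
    · rw [hb.polar_col, polar_QMinus]
      simp [Pi.single_apply]
    · rw [hb.Q_col, QMinus_apply]
      simp [Pi.single_apply]
    · rw [hb.polar_col, polar_QMinus]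
      simp [Pi.single_apply]
    · rw [hb.polar_col, polar_QMinus]
      simp [Pi.single_apply]
    · rw [hb.Q_col, QMinus_apply]
      simp [Pi.single_apply]
    · rw [hb.polar_col, polar_QMinus]
      simp [Pi.single_apply]
  · rintro ⟨h, ⟨hu, hQu⟩, hv, hQv, huv⟩ x
    have hsum : ∑ d, x d • c d = (x (Sum.inr 0) • c (Sum.inr 0) + x (Sum.inr 1) • c (Sum.inr 1)) +
        hvec (fun i => c (Sum.inl (Sum.inl i))) (fun i => c (Sum.inl (Sum.inr i)))
          (fun i => x (Sum.inl (Sum.inl i))) (fun i => x (Sum.inl (Sum.inr i))) := by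
      rw [Fintype.sum_sum_type, Fintype.sum_sum_type, Fin.sum_univ_two]
      unfold hvec
      rw [Finset.sum_add_distrib]
      abel
    rw [hsum, Q_add_hvec h ((hu.smul _).add (hv.smul _)), QuadraticMap.map_add (QMinus n F a b),
      QuadraticMap.map_smul, QuadraticMap.map_smul, polar_smul_left, polar_smul_right, hQu, hQv,
      huv, QMinus_apply]
    simp only [smul_eq_mul]
    ring

lemma card_minus_fun (n : ℕ) :
    Nat.card ((Fin n ⊕ Fin n) ⊕ Fin 2 → F) = Fintype.card F ^ (2 * n + 2) := by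
  rw [Nat.card_eq_fintype_card, Fintype.card_fun, Fintype.card_sum, Fintype.card_sum,
    Fintype.card_fin, Fintype.card_fin]
  congr 1
  ring

/-- value distribution of the minus type form -/
lemma card_minus_value (n : ℕ) (a b c : F) :
    Nat.card {v : (Fin n ⊕ Fin n) ⊕ Fin 2 → F // QMinus n F a b v = c} =
      Fintype.card F ^ n * Nat.card {z : Fin 2 → F // QBin a b z = c} +
        (Fintype.card F ^ n - 1) * (Fintype.card F ^ (n - 1) * Fintype.card F ^ 2) := by
  classical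
  let eqv : ((Fin n ⊕ Fin n) ⊕ Fin 2 → F) ≃ (Fin n → F) × (Fin 2 → F) × (Fin n → F) :=
    { toFun := fun v => (fun i => v (Sum.inl (Sum.inl i)), fun j => v (Sum.inr j),
        fun i => v (Sum.inl (Sum.inr i)))
      invFun := fun p => Sum.elim (Sum.elim p.1 p.2.2) p.2.1
      left_inv := by intro v; ext ((i | i) | i) <;> rfl
      right_inv := by intro p; rfl }
  have hcongr : Nat.card {v : (Fin n ⊕ Fin n) ⊕ Fin 2 → F // QMinus n F a b v = c} =
      Nat.card {p : (Fin n → F) × (Fin 2 → F) × (Fin n → F) //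
        ∑ i, p.1 i * p.2.2 i + (fun w : Fin 2 → F => QBin a b w - c) p.2.1 = 0} := by
    apply Nat.card_congr
    refine eqv.subtypeEquiv ?_
    intro v
    rw [QMinus_apply]
    show _ ↔ (∑ i, v (Sum.inl (Sum.inl i)) * v (Sum.inl (Sum.inr i))) +
      (QBin a b (fun j => v (Sum.inr j)) - c) = 0
    rw [QBin_apply]
    constructor
    · intro hh; linear_combination hh
    · intro hh; linear_combination hh
  rw [hcongr, card_hyperbolic_add n (fun w : Fin 2 → F => QBin a b w - c), card_fin2_fun]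
  congr 2
  exact Nat.card_congr (Equiv.subtypeEquivRight (fun w => sub_eq_zero))

/-- the number of hyperbolic pairs in the perp of a `k`-frame of the minus type space of Witt
index `k + j + 1` -/
lemma card_minus_pairs {q : ℕ} (hF : Fintype.card F = q) (a b : F)
    (hab : ∀ z₁ z₂ : F, z₁ ^ 2 + a * z₁ * z₂ + b * z₂ ^ 2 = 0 → z₁ = 0 ∧ z₂ = 0) (k j : ℕ)
    (e f : Fin k → ((Fin (k + j + 1) ⊕ Fin (k + j + 1)) ⊕ Fin 2 → F))
    (h : IsHyp (QMinus (k + j + 1) F a b) e f) :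
    Nat.card {p : ((Fin (k + j + 1) ⊕ Fin (k + j + 1)) ⊕ Fin 2 → F) ×
        ((Fin (k + j + 1) ⊕ Fin (k + j + 1)) ⊕ Fin 2 → F) //
      Perp (QMinus (k + j + 1) F a b) e f p.1 ∧ Perp (QMinus (k + j + 1) F a b) e f p.2 ∧
      QMinus (k + j + 1) F a b p.1 = 0 ∧ QMinus (k + j + 1) F a b p.2 = 0 ∧
      polar (QMinus (k + j + 1) F a b) p.1 p.2 = 1} =
    (q ^ (j + 2) + 1) * (q ^ (j + 1) - 1) * q ^ (2 * (j + 1)) := by
  classical
  have hq : 2 ≤ q := by rw [← hF]; exact Fintype.one_lt_card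
  have c1 := card_eq_perp h
  have c2 := card_fiber_eq h 0
  have c3 := card_pairs h (QMinus_nondeg (k + j + 1) a b hab)
  rw [card_minus_fun, hF] at c1
  rw [card_minus_value, QBin_card_zero hab, hF] at c2
  rw [hF] at c3
  have key := minus_arith q (q ^ k) (q ^ j) _ _ _ ((q ^ k - 1) * q ^ (k - 1)) hq
    (Nat.one_le_pow _ _ (by omega)) (Nat.one_le_pow _ _ (by omega)) (pow_pred_arith q k)
    (by rw [show (q ^ k) ^ 2 = q ^ (2 * k) by ring, ← c1]; ring)
    (by
      rw [← mul_assoc ((q ^ k - 1)) (q ^ (k - 1))] at c2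
      rw [← c2]
      have e2 : q ^ (k + j + 1) = q ^ k * q ^ j * q := by ring
      have e3 : q ^ (k + j + 1 - 1) = q ^ k * q ^ j := by
        rw [Nat.add_sub_cancel]; ring
      rw [e2, e3]
      ring)
    c3
  rw [key]
  have e1 : q ^ j * q ^ 2 = q ^ (j + 2) := by ring
  have e2 : q ^ j * q = q ^ (j + 1) := by ring
  have e3 : (q ^ j) ^ 2 * q ^ 2 = q ^ (2 * (j + 1)) := by ring
  rw [e1, e2, e3]

/-- number of hyperbolic `k`-frames in the minus type space of Witt index `n`, `k ≤ n` -/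
lemma card_minus_frames {q : ℕ} (hF : Fintype.card F = q) (a b : F)
    (hab : ∀ z₁ z₂ : F, z₁ ^ 2 + a * z₁ * z₂ + b * z₂ ^ 2 = 0 → z₁ = 0 ∧ z₂ = 0)
    (n k : ℕ) (hk : k ≤ n) :
    Nat.card {p : (Fin k → ((Fin n ⊕ Fin n) ⊕ Fin 2 → F)) ×
        (Fin k → ((Fin n ⊕ Fin n) ⊕ Fin 2 → F)) // IsHyp (QMinus n F a b) p.1 p.2} =
    ∏ i ∈ Finset.range k, (q ^ (n - i + 1) + 1) * (q ^ (n - i) - 1) * q ^ (2 * (n - i)) := by
  induction k with
  | zero => simp [card_frames_zero]
  | succ k ih =>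
    obtain ⟨j, rfl⟩ : ∃ j, n = k + j + 1 := ⟨n - k - 1, by omega⟩
    rw [card_frames_succ k _ (fun e f h => card_minus_pairs hF a b hab k j e f h), ih (by omega),
      Finset.prod_range_succ]
    have e1 : k + j + 1 - k = j + 1 := by omega
    rw [e1]

/-- the perp of a full frame has `q^2` elements -/
lemma card_minus_perp {q : ℕ} (hF : Fintype.card F = q) (a b : F) (n : ℕ)
    (e f : Fin n → ((Fin n ⊕ Fin n) ⊕ Fin 2 → F)) (h : IsHyp (QMinus n F a b) e f) :
    Nat.card {w : (Fin n ⊕ Fin n) ⊕ Fin 2 → F // Perp (QMinus n F a b) e f w} = q ^ 2 := by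
  have hq : 1 ≤ q := by rw [← hF]; exact Fintype.card_pos
  have c1 := card_eq_perp h
  rw [card_minus_fun, hF] at c1
  have hpos : 0 < q ^ (2 * n) := by positivity
  apply Nat.eq_of_mul_eq_mul_left hpos
  rw [← c1]; ring

/-- the perp of a full frame has the value distribution of the binary form -/
lemma card_minus_perp_value {q : ℕ} (hF : Fintype.card F = q) (a b : F) (n : ℕ)
    (e f : Fin n → ((Fin n ⊕ Fin n) ⊕ Fin 2 → F)) (h : IsHyp (QMinus n F a b) e f) (c : F) :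
    Nat.card {w : (Fin n ⊕ Fin n) ⊕ Fin 2 → F // Perp (QMinus n F a b) e f w ∧
      QMinus n F a b w = c} = Nat.card {z : Fin 2 → F // QBin a b z = c} := by
  have hq : 1 ≤ q := by rw [← hF]; exact Fintype.card_pos
  have c2 := card_fiber_eq h c
  rw [card_minus_value, card_minus_perp hF a b n e f h, hF] at c2
  have hpos : 0 < q ^ n := by positivity
  have := Nat.add_right_cancel c2
  exact (Nat.eq_of_mul_eq_mul_left hpos this).symm

lemma minus_prod_formula (q : ℕ) (hq : 1 ≤ q) (n : ℕ) :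
    (∏ i ∈ Finset.range n, (q ^ (i + 2) + 1) * (q ^ (i + 1) - 1) * q ^ (2 * (i + 1))) *
        ((q + 1) * 2) =
      2 * q ^ ((n + 1) * n) * (q ^ (n + 1) + 1) * ∏ i ∈ Finset.range n, (q ^ (2 * (i + 1)) - 1) := by
  induction n with
  | zero => simp; ring
  | succ n ih =>
    rw [Finset.prod_range_succ, Finset.prod_range_succ]
    have h1 : q ^ (2 * (n + 1)) - 1 = (q ^ (n + 1) - 1) * (q ^ (n + 1) + 1) := by
      rw [mul_comm 2 (n + 1), pow_mul]
      exact sq_sub_one_nat _ (Nat.one_le_pow _ _ hq)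
    rw [h1]
    have h2 : q ^ ((n + 1 + 1) * (n + 1)) = q ^ ((n + 1) * n) * q ^ (2 * (n + 1)) := by
      rw [← pow_add]; congr 1; ring
    rw [h2]
    calc (∏ x ∈ Finset.range n, (q ^ (x + 2) + 1) * (q ^ (x + 1) - 1) * q ^ (2 * (x + 1))) *
          ((q ^ (n + 2) + 1) * (q ^ (n + 1) - 1) * q ^ (2 * (n + 1))) * ((q + 1) * 2)
        = ((∏ x ∈ Finset.range n, (q ^ (x + 2) + 1) * (q ^ (x + 1) - 1) * q ^ (2 * (x + 1))) *
          ((q + 1) * 2)) * ((q ^ (n + 2) + 1) * (q ^ (n + 1) - 1) * q ^ (2 * (n + 1))) := by ring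
      _ = _ := by rw [ih]; ring

theorem card_GOMinus {q : ℕ} (hF : Fintype.card F = q) (n : ℕ) (a b : F)
    (hab : ∀ z₁ z₂ : F, z₁ ^ 2 + a * z₁ * z₂ + b * z₂ ^ 2 = 0 → z₁ = 0 ∧ z₂ = 0) :
    Nat.card (Cfsg.isometryGroup F (Cfsg.quadFormMinus n F a b)) =
      2 * q ^ ((n + 1) * n) * (q ^ (n + 1) + 1) *
        ∏ i ∈ Finset.range n, (q ^ (2 * (i + 1)) - 1) := by
  classical
  have hq : 1 ≤ q := by rw [← hF]; exact Fintype.card_pos
  rw [← coe_QMinus, card_isometryGroup_eq (QMinus_nondeg n a b hab)]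
  let eqv : (((Fin n ⊕ Fin n) ⊕ Fin 2) → ((Fin n ⊕ Fin n) ⊕ Fin 2 → F)) ≃
      ((Fin n → ((Fin n ⊕ Fin n) ⊕ Fin 2 → F)) × (Fin n → ((Fin n ⊕ Fin n) ⊕ Fin 2 → F))) ×
        (((Fin n ⊕ Fin n) ⊕ Fin 2 → F) × ((Fin n ⊕ Fin n) ⊕ Fin 2 → F)) :=
    { toFun := fun c => ((fun i => c (Sum.inl (Sum.inl i)), fun i => c (Sum.inl (Sum.inr i))),
        (c (Sum.inr 0), c (Sum.inr 1)))
      invFun := fun x => Sum.elim (Sum.elim x.1.1 x.1.2) ![x.2.1, x.2.2]
      left_inv := by
        intro c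
        ext ((i | i) | i) : 1
        · rfl
        · rfl
        · fin_cases i <;> rfl
      right_inv := by intro x; rfl }
  have e1 : {c : ((Fin n ⊕ Fin n) ⊕ Fin 2) → ((Fin n ⊕ Fin n) ⊕ Fin 2) → F //
      IsQCol (QMinus n F a b) c} ≃
      {x : ((Fin n → ((Fin n ⊕ Fin n) ⊕ Fin 2 → F)) × (Fin n → ((Fin n ⊕ Fin n) ⊕ Fin 2 → F))) ×
        (((Fin n ⊕ Fin n) ⊕ Fin 2 → F) × ((Fin n ⊕ Fin n) ⊕ Fin 2 → F)) //
          IsHyp (QMinus n F a b) x.1.1 x.1.2 ∧
          ((Perp (QMinus n F a b) x.1.1 x.1.2 x.2.1 ∧ QMinus n F a b x.2.1 = 1) ∧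
            (Perp (QMinus n F a b) x.1.1 x.1.2 x.2.2 ∧ QMinus n F a b x.2.2 = b ∧
              polar (QMinus n F a b) x.2.1 x.2.2 = a))} :=
    eqv.subtypeEquiv (fun c => isQCol_minus_iff n a b c)
  rw [Nat.card_congr e1, card_subtype_prod_const
    (A := (Fin n → ((Fin n ⊕ Fin n) ⊕ Fin 2 → F)) × (Fin n → ((Fin n ⊕ Fin n) ⊕ Fin 2 → F)))
    (B := ((Fin n ⊕ Fin n) ⊕ Fin 2 → F) × ((Fin n ⊕ Fin n) ⊕ Fin 2 → F))
    (fun p => IsHyp (QMinus n F a b) p.1 p.2)
    (fun p x => (Perp (QMinus n F a b) p.1 p.2 x.1 ∧ QMinus n F a b x.1 = 1) ∧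
            (Perp (QMinus n F a b) p.1 p.2 x.2 ∧ QMinus n F a b x.2 = b ∧
              polar (QMinus n F a b) x.1 x.2 = a)) ((q + 1) * 2)
    (fun p hp => by
      rw [card_plane_pairs hp (QMinus_nondeg n a b hab)
        (by rw [card_minus_perp hF a b n p.1 p.2 hp, hF])
        (by rw [card_minus_perp_value hF a b n p.1 p.2 hp, QBin_card_zero hab])
        (fun c hc => by rw [card_minus_perp_value hF a b n p.1 p.2 hp, QBin_card_ne_zero hab c hc])
        a b hab, hF]),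
    card_minus_frames hF a b hab n n le_rfl, ← Finset.prod_range_reflect,
    ← minus_prod_formula q hq n]
  congr 1
  refine Finset.prod_congr rfl fun i hi => ?_
  rw [Finset.mem_range] at hi
  have e1 : n - (n - 1 - i) = i + 1 := by omega
  rw [e1]

end

end Cfsg.Agent.Lib.Helper7
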