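import Mathlib
import Cfsg.Agent.Lib.Helper7.GOPlusOrder
import Cfsg.Agent.S0291

set_option autoImplicit false
set_option linter.unusedSectionVars false
set_option linter.unusedVariables false

namespace Cfsg.Agent.Lib.Helper7

open QuadraticMap Cfsg.Agent.Lib.Helper51

lemma odd_arith (q A B W N P t : ℕ) (hq : 2 ≤ q) (hA : 1 ≤ A) (hB : 1 ≤ B)
    (ht : q * t = (A - 1) * A)
    (c1 : A ^ 2 * (B ^ 2 * q ^ 3) = A ^ 2 * W)
    (c2 : A ^ 2 * B ^ 2 * q ^ 2 = A * N + t * W)
    (c3 : P * q ^ 2 = (N - 1) * W) : P = (B ^ 2 * q ^ 2 - 1) * (B ^ 2 * q) := by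
  have hW : W = B ^ 2 * q ^ 3 := by
    have hA2 : 0 < A ^ 2 := by positivity
    exact (Nat.eq_of_mul_eq_mul_left hA2 c1).symm
  subst hW
  have c2' : ((A : ℤ) ^ 2 * B ^ 2 * q ^ 2) = A * N + t * (B ^ 2 * q ^ 3) := by
    have := congrArg (Nat.cast : ℕ → ℤ) c2
    push_cast at this
    exact this
  have ht' : (q : ℤ) * t = (A - 1) * A := by
    have := congrArg (Nat.cast : ℕ → ℤ) ht
    push_cast [Nat.cast_sub hA] at this
    exact this
  have hqA : (q : ℤ) * A ≠ 0 := by positivity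
  have hN : (N : ℤ) = B ^ 2 * q ^ 2 := by
    apply mul_left_cancel₀ hqA
    linear_combination (-(q : ℤ)) * c2' - (B : ℤ) ^ 2 * q ^ 3 * ht'
  have hN' : N = B ^ 2 * q ^ 2 := by exact_mod_cast hN
  have hN1 : 1 ≤ B ^ 2 * q ^ 2 := Nat.one_le_iff_ne_zero.mpr (by positivity)
  subst hN'
  have c3' : (P : ℤ) * q ^ 2 = ((B : ℤ) ^ 2 * q ^ 2 - 1) * (B ^ 2 * q ^ 3) := by
    have := congrArg (Nat.cast : ℕ → ℤ) c3
    push_cast [Nat.cast_sub hN1] at this
    exact this
  have hq2 : (q : ℤ) ^ 2 ≠ 0 := by positivity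
  have goal : (P : ℤ) = ((B ^ 2 * q ^ 2 - 1) * (B ^ 2 * q) : ℕ) := by
    push_cast [Nat.cast_sub hN1]
    apply mul_right_cancel₀ hq2
    rw [c3']
    ring
  exact_mod_cast goal

section
variable {F : Type*} [Field F] [Fintype F]

lemma two_ne_zero_of_odd_card {q : ℕ} (hF : Fintype.card F = q) (hodd : Odd q) : (2 : F) ≠ 0 := by
  have hchar : ringChar F ≠ 2 := by
    intro hc
    have := FiniteField.even_card_of_char_two hc
    rw [hF] at this
    rcases hodd with ⟨r, hr⟩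
    omega
  exact Ring.two_ne_zero hchar

lemma QOdd_nondeg (h2 : (2 : F) ≠ 0) (m : ℕ) (u : Unit ⊕ (Fin m ⊕ Fin m) → F)
    (hu : ∀ v, polar (QOdd m F) u v = 0) : u = 0 := by
  classical
  funext c
  rcases c with _ | i | i
  · have := hu (Pi.single (Sum.inl ()) 1)
    rw [polar_QOdd] at this
    simpa [Pi.single_apply, h2] using this
  · have := hu (Pi.single (Sum.inr (Sum.inr i)) 1)
    rw [polar_QOdd] at this
    simpa [Pi.single_apply] using this
  · have := hu (Pi.single (Sum.inr (Sum.inl i)) 1)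
    rw [polar_QOdd] at this
    simpa [Pi.single_apply] using this

lemma isQCol_odd_iff (m : ℕ)
    (b : (Unit ⊕ (Fin m ⊕ Fin m)) → (Unit ⊕ (Fin m ⊕ Fin m)) → F) :
    IsQCol (QOdd m F) b ↔
      IsHyp (QOdd m F) (fun i => b (Sum.inr (Sum.inl i))) (fun i => b (Sum.inr (Sum.inr i))) ∧
      (Perp (QOdd m F) (fun i => b (Sum.inr (Sum.inl i))) (fun i => b (Sum.inr (Sum.inr i)))
          (b (Sum.inl ())) ∧ QOdd m F (b (Sum.inl ())) = 1) := by
  classical
  constructor
  · intro hb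
    refine ⟨⟨fun i => ?_, fun i => ?_, fun i j => ?_, fun i j => ?_, fun i j => ?_⟩,
      ⟨fun i => ?_, fun i => ?_⟩, ?_⟩
    · rw [hb.Q_col, QOdd_apply]
      simp [Pi.single_apply]
    · rw [hb.Q_col, QOdd_apply]
      simp [Pi.single_apply]
    · rw [hb.polar_col, polar_QOdd]
      simp [Pi.single_apply, eq_comm]
    · rw [hb.polar_col, polar_QOdd]
      simp [Pi.single_apply]
    · rw [hb.polar_col, polar_QOdd]
      simp [Pi.single_apply]
    · rw [hb.polar_col, polar_QOdd]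
      simp [Pi.single_apply]
    · rw [hb.polar_col, polar_QOdd]
      simp [Pi.single_apply]
    · rw [hb.Q_col, QOdd_apply]
      simp [Pi.single_apply]
  · rintro ⟨h, hw, hq⟩ v
    have hsum : ∑ c, v c • b c = v (Sum.inl ()) • b (Sum.inl ()) +
        hvec (fun i => b (Sum.inr (Sum.inl i))) (fun i => b (Sum.inr (Sum.inr i)))
          (fun i => v (Sum.inr (Sum.inl i))) (fun i => v (Sum.inr (Sum.inr i))) := by
      rw [Fintype.sum_sum_type, Fintype.sum_sum_type]
      unfold hvec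
      rw [Finset.sum_add_distrib]
      simp
    rw [hsum, Q_add_hvec h (hw.smul _), QuadraticMap.map_smul, hq, QOdd_apply]
    simp [pow_two]

lemma card_odd_fun (m : ℕ) :
    Nat.card (Unit ⊕ (Fin m ⊕ Fin m) → F) = Fintype.card F ^ (2 * m + 1) := by
  rw [Nat.card_eq_fintype_card, Fintype.card_fun, Fintype.card_sum, Fintype.card_sum,
    Fintype.card_fin, Fintype.card_unit]
  congr 1
  ring

/-- the number of hyperbolic pairs in the perp of a `k`-frame of the odd type space of rank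
`k + j + 1` -/
lemma card_odd_pairs {q : ℕ} (hF : Fintype.card F = q) (hodd : Odd q) (k j : ℕ)
    (e f : Fin k → (Unit ⊕ (Fin (k + j + 1) ⊕ Fin (k + j + 1)) → F))
    (h : IsHyp (QOdd (k + j + 1) F) e f) :
    Nat.card {p : (Unit ⊕ (Fin (k + j + 1) ⊕ Fin (k + j + 1)) → F) ×
        (Unit ⊕ (Fin (k + j + 1) ⊕ Fin (k + j + 1)) → F) //
      Perp (QOdd (k + j + 1) F) e f p.1 ∧ Perp (QOdd (k + j + 1) F) e f p.2 ∧
      QOdd (k + j + 1) F p.1 = 0 ∧ QOdd (k + j + 1) F p.2 = 0 ∧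
      polar (QOdd (k + j + 1) F) p.1 p.2 = 1} =
    (q ^ (2 * (j + 1)) - 1) * q ^ (2 * j + 1) := by
  classical
  have hq : 2 ≤ q := by rw [← hF]; exact Fintype.one_lt_card
  have h2 : (2 : F) ≠ 0 := two_ne_zero_of_odd_card hF hodd
  have c1 := card_eq_perp h
  have c2 := card_fiber_eq h 0
  have c3 := card_pairs h (QOdd_nondeg h2 (k + j + 1))
  rw [card_odd_fun, hF] at c1
  have hN : Nat.card {v : Unit ⊕ (Fin (k + j + 1) ⊕ Fin (k + j + 1)) → F //
      QOdd (k + j + 1) F v = 0} = q ^ (2 * (k + j + 1)) := by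
    have := Cfsg.Agent.S0291.result hF hodd (k + j + 1)
    rw [← this]
    simp only [coe_QOdd]
  rw [hN, hF] at c2
  rw [hF] at c3
  have key := odd_arith q (q ^ k) (q ^ j) _ _ _ ((q ^ k - 1) * q ^ (k - 1)) hq
    (Nat.one_le_pow _ _ (by omega)) (Nat.one_le_pow _ _ (by omega)) (pow_pred_arith q k)
    (by rw [show (q ^ k) ^ 2 = q ^ (2 * k) by ring, ← c1]; ring)
    (by
      rw [← mul_assoc ((q ^ k - 1)) (q ^ (k - 1))] at c2
      rw [← c2]
      ring)
    c3
  rw [key]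
  have e1 : (q ^ j) ^ 2 * q ^ 2 = q ^ (2 * (j + 1)) := by ring
  have e2 : (q ^ j) ^ 2 * q = q ^ (2 * j + 1) := by ring
  rw [e1, e2]

/-- number of hyperbolic `k`-frames in the odd type space of rank `m`, `k ≤ m` -/
lemma card_odd_frames {q : ℕ} (hF : Fintype.card F = q) (hodd : Odd q) (m k : ℕ) (hk : k ≤ m) :
    Nat.card {p : (Fin k → (Unit ⊕ (Fin m ⊕ Fin m) → F)) ×
        (Fin k → (Unit ⊕ (Fin m ⊕ Fin m) → F)) // IsHyp (QOdd m F) p.1 p.2} =
    ∏ i ∈ Finset.range k, (q ^ (2 * (m - i)) - 1) * q ^ (2 * (m - i) - 1) := by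
  induction k with
  | zero => simp [card_frames_zero]
  | succ k ih =>
    obtain ⟨j, rfl⟩ : ∃ j, m = k + j + 1 := ⟨m - k - 1, by omega⟩
    rw [card_frames_succ k _ (fun e f h => card_odd_pairs hF hodd k j e f h), ih (by omega),
      Finset.prod_range_succ]
    congr 2
    · congr 2; omega
    · congr 1; omega

/-- the number of vectors of norm one orthogonal to a full frame -/
lemma card_odd_perp_one {q : ℕ} (hF : Fintype.card F = q) (hodd : Odd q) (m : ℕ)
    (e f : Fin m → (Unit ⊕ (Fin m ⊕ Fin m) → F)) (h : IsHyp (QOdd m F) e f) :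
    Nat.card {w : Unit ⊕ (Fin m ⊕ Fin m) → F // Perp (QOdd m F) e f w ∧ QOdd m F w = 1} = 2 := by
  classical
  have hq : 1 ≤ q := by rw [← hF]; exact Fintype.card_pos
  have h2 : (2 : F) ≠ 0 := two_ne_zero_of_odd_card hF hodd
  have c1 := card_eq_perp h
  have c2 := card_fiber_eq h 1
  rw [card_odd_fun, hF] at c1
  have hW : Nat.card {w : Unit ⊕ (Fin m ⊕ Fin m) → F // Perp (QOdd m F) e f w} = q := by
    have hpos : 0 < q ^ (2 * m) := by positivity
    apply Nat.eq_of_mul_eq_mul_left hpos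
    rw [← c1]; ring
  rw [hW, hF] at c2
  -- the concrete count
  let eqv : (Unit ⊕ (Fin m ⊕ Fin m) → F) ≃ (Fin m → F) × F × (Fin m → F) :=
    { toFun := fun v => (fun i => v (Sum.inr (Sum.inl i)), v (Sum.inl ()),
        fun i => v (Sum.inr (Sum.inr i)))
      invFun := fun p => Sum.elim (fun _ => p.2.1) (Sum.elim p.1 p.2.2)
      left_inv := by intro v; ext (i | i | i) <;> rfl
      right_inv := by intro p; rfl }
  have hcongr : Nat.card {v : Unit ⊕ (Fin m ⊕ Fin m) → F // QOdd m F v = 1} =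
      Nat.card {p : (Fin m → F) × F × (Fin m → F) //
        ∑ i, p.1 i * p.2.2 i + (fun w : F => w ^ 2 - 1) p.2.1 = 0} := by
    apply Nat.card_congr
    refine eqv.subtypeEquiv ?_
    intro v
    rw [QOdd_apply]
    show _ ↔ (∑ i, v (Sum.inr (Sum.inl i)) * v (Sum.inr (Sum.inr i))) +
      (v (Sum.inl ()) ^ 2 - 1) = 0
    constructor
    · intro hh; linear_combination hh
    · intro hh; linear_combination hh
  rw [hcongr, card_hyperbolic_add m (fun w : F => w ^ 2 - 1), hF] at c2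
  have hz : Nat.card {w : F // (fun w : F => w ^ 2 - 1) w = 0} = 2 := by
    rw [Nat.card_eq_fintype_card, Fintype.card_subtype]
    have : Finset.univ.filter (fun w : F => w ^ 2 - 1 = 0) = {1, -1} := by
      ext x
      simp only [Finset.mem_filter, Finset.mem_univ, true_and, Finset.mem_insert,
        Finset.mem_singleton]
      constructor
      · intro hx
        have : (x - 1) * (x + 1) = 0 := by linear_combination hx
        rcases mul_eq_zero.mp this with h' | h'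
        · left; exact sub_eq_zero.mp h'
        · right; exact eq_neg_of_add_eq_zero_left h'
      · rintro (rfl | rfl) <;> ring
    rw [this, Finset.card_pair]
    intro h11
    apply h2
    linear_combination h11
  rw [hz] at c2
  have hpos : 0 < q ^ m := by positivity
  have := Nat.add_right_cancel c2
  exact (Nat.eq_of_mul_eq_mul_left hpos this).symm

lemma odd_prod_formula (q : ℕ) (hq : 1 ≤ q) (m : ℕ) :
    ∏ i ∈ Finset.range m, (q ^ (2 * (i + 1)) - 1) * q ^ (2 * (i + 1) - 1) =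
      q ^ (m ^ 2) * ∏ i ∈ Finset.range m, (q ^ (2 * (i + 1)) - 1) := by
  induction m with
  | zero => simp
  | succ n ih =>
    rw [Finset.prod_range_succ, ih, Finset.prod_range_succ]
    have h2 : q ^ ((n + 1) ^ 2) = q ^ (n ^ 2) * q ^ (2 * (n + 1) - 1) := by
      rw [← pow_add]; congr 1
      have : 2 * (n + 1) - 1 = 2 * n + 1 := by omega
      rw [this]; ring
    rw [h2]
    ring

theorem card_GOOdd {q : ℕ} (hF : Fintype.card F = q) (hodd : Odd q) (m : ℕ) :
    Nat.card (Cfsg.isometryGroup F (Cfsg.quadFormOdd m F)) =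
      2 * q ^ (m ^ 2) * ∏ i ∈ Finset.range m, (q ^ (2 * (i + 1)) - 1) := by
  classical
  have hq : 1 ≤ q := by rw [← hF]; exact Fintype.card_pos
  have h2 : (2 : F) ≠ 0 := two_ne_zero_of_odd_card hF hodd
  rw [← coe_QOdd, card_isometryGroup_eq (QOdd_nondeg h2 m)]
  let eqv : ((Unit ⊕ (Fin m ⊕ Fin m)) → (Unit ⊕ (Fin m ⊕ Fin m) → F)) ≃
      ((Fin m → (Unit ⊕ (Fin m ⊕ Fin m) → F)) × (Fin m → (Unit ⊕ (Fin m ⊕ Fin m) → F))) ×
        (Unit ⊕ (Fin m ⊕ Fin m) → F) :=
    { toFun := fun b => ((fun i => b (Sum.inr (Sum.inl i)), fun i => b (Sum.inr (Sum.inr i))),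
        b (Sum.inl ()))
      invFun := fun x => Sum.elim (fun _ => x.2) (Sum.elim x.1.1 x.1.2)
      left_inv := by intro b; ext (i | i | i) <;> rfl
      right_inv := by intro x; rfl }
  have e1 : {b : (Unit ⊕ (Fin m ⊕ Fin m)) → (Unit ⊕ (Fin m ⊕ Fin m)) → F //
      IsQCol (QOdd m F) b} ≃
      {x : ((Fin m → (Unit ⊕ (Fin m ⊕ Fin m) → F)) × (Fin m → (Unit ⊕ (Fin m ⊕ Fin m) → F))) ×
        (Unit ⊕ (Fin m ⊕ Fin m) → F) // IsHyp (QOdd m F) x.1.1 x.1.2 ∧
          (Perp (QOdd m F) x.1.1 x.1.2 x.2 ∧ QOdd m F x.2 = 1)} :=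
    eqv.subtypeEquiv (fun b => isQCol_odd_iff m b)
  rw [Nat.card_congr e1, card_subtype_prod_const
    (A := (Fin m → (Unit ⊕ (Fin m ⊕ Fin m) → F)) × (Fin m → (Unit ⊕ (Fin m ⊕ Fin m) → F)))
    (B := (Unit ⊕ (Fin m ⊕ Fin m) → F))
    (fun a => IsHyp (QOdd m F) a.1 a.2)
    (fun a w => Perp (QOdd m F) a.1 a.2 w ∧ QOdd m F w = 1) 2
    (fun a ha => card_odd_perp_one hF hodd m a.1 a.2 ha),
    card_odd_frames hF hodd m m le_rfl, ← Finset.prod_range_reflect]
  have : ∏ j ∈ Finset.range m, (q ^ (2 * (m - (m - 1 - j))) - 1) * q ^ (2 * (m - (m - 1 - j)) - 1) =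
      ∏ i ∈ Finset.range m, (q ^ (2 * (i + 1)) - 1) * q ^ (2 * (i + 1) - 1) := by
    refine Finset.prod_congr rfl fun i hi => ?_
    rw [Finset.mem_range] at hi
    have e1 : m - (m - 1 - i) = i + 1 := by omega
    rw [e1]
  rw [this, odd_prod_formula q hq m]
  ring

end

end Cfsg.Agent.Lib.Helper7
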