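import Mathlib
import Cfsg.Agent.Lib.Helper7.OmegaCenter
import Cfsg.Agent.Lib.Helper7.GOMinusOrder
import Cfsg.Agent.Lib.Helper7.GOOddOrder
import Cfsg.Agent.S0790
import Cfsg.Agent.S0791

set_option autoImplicit false
set_option linter.unusedSectionVars false
set_option linter.unusedVariables false

namespace Cfsg.Agent.Lib.Helper7

open QuadraticMap Cfsg.Agent.Lib.Helper51

lemma gcd_four (n : ℕ) :
    Nat.gcd 4 n = if n % 4 = 0 then 4 else if n % 4 = 2 then 2 else 1 := by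
  rw [Nat.gcd_rec]
  have h4 : n % 4 < 4 := Nat.mod_lt _ (by norm_num)
  interval_cases n % 4 <;> simp

section
variable {F : Type*} [Field F] [Fintype F]

lemma neg_one_matrix_eq_one {ι : Type} [Fintype ι] [DecidableEq ι] (h2 : (2 : F) = 0) :
    (-1 : Matrix ι ι F) = 1 := by
  have : (-1 : F) = 1 := by linear_combination (-1 : F) * h2
  rw [← neg_one_smul F (1 : Matrix ι ι F), this, one_smul]

lemma even_card_of_two_eq_zero {q : ℕ} (hF : Fintype.card F = q) (h2 : (2 : F) = 0) :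
    q % 2 = 0 := by
  rw [← hF]
  exact FiniteField.even_card_of_char_two (two_eq_zero_ringChar h2)

lemma odd_card_of_two_ne_zero {q : ℕ} (hF : Fintype.card F = q) (h2 : (2 : F) ≠ 0) :
    Odd q := by
  rw [← hF, Nat.odd_iff]
  apply FiniteField.odd_card_of_char_ne_two
  intro hc
  apply h2
  have := CharP.cast_eq_zero F (ringChar F)
  rw [hc] at this
  exact_mod_cast this

/-- isometries centralising `Ω⁺` are `±1` -/
lemma centralizer_plus (m : ℕ) (hm : 3 ≤ m) (z : Cfsg.isometryGroup F ⇑(QPlus m F))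
    (hz : ∀ g ∈ commutator (Cfsg.isometryGroup F ⇑(QPlus m F)), z * g = g * z) :
    ((z : Matrix.GeneralLinearGroup (Fin m ⊕ Fin m) F) : Matrix (Fin m ⊕ Fin m) (Fin m ⊕ Fin m) F) = 1 ∨
    ((z : Matrix.GeneralLinearGroup (Fin m ⊕ Fin m) F) : Matrix (Fin m ⊕ Fin m) (Fin m ⊕ Fin m) F) = -1 := by
  have hyp := (isQCol_plus_iff m (fun c => Pi.single c 1)).mp (isQCol_single (QPlus m F))
  obtain ⟨lam, hE, hF', -, hlam⟩ := centralizer_frame (QPlus m F) (QPlus_nondeg m)
    (Or.inr (by rw [Fintype.card_sum, Fintype.card_fin]; omega)) z hz hm _ _ hyp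
  apply matrix_eq_one_or_neg_one _ lam hlam
  rintro (i | i)
  · exact hE i
  · exact hF' i

/-- isometries centralising `Ω` in odd dimension are `±1` -/
lemma centralizer_odd (h2 : (2 : F) ≠ 0) (m : ℕ) (hm : 3 ≤ m)
    (z : Cfsg.isometryGroup F ⇑(QOdd m F))
    (hz : ∀ g ∈ commutator (Cfsg.isometryGroup F ⇑(QOdd m F)), z * g = g * z) :
    ((z : Matrix.GeneralLinearGroup (Unit ⊕ (Fin m ⊕ Fin m)) F) :
      Matrix (Unit ⊕ (Fin m ⊕ Fin m)) (Unit ⊕ (Fin m ⊕ Fin m)) F) = 1 ∨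
    ((z : Matrix.GeneralLinearGroup (Unit ⊕ (Fin m ⊕ Fin m)) F) :
      Matrix (Unit ⊕ (Fin m ⊕ Fin m)) (Unit ⊕ (Fin m ⊕ Fin m)) F) = -1 := by
  obtain ⟨hyp, hperp, hQd⟩ :=
    (isQCol_odd_iff m (fun c => Pi.single c 1)).mp (isQCol_single (QOdd m F))
  obtain ⟨lam, hE, hF', hD, hlam⟩ := centralizer_frame (QOdd m F) (QOdd_nondeg h2 m)
    (Or.inr (by rw [Fintype.card_sum, Fintype.card_sum, Fintype.card_fin, Fintype.card_unit]; omega))
    z hz hm _ _ hyp
  apply matrix_eq_one_or_neg_one _ lam hlam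
  rintro (i | i | i)
  · exact hD _ hperp (by rw [hQd]; exact one_ne_zero)
  · exact hE i
  · exact hF' i

/-- isometries centralising `Ω⁻` are `±1` -/
lemma centralizer_minus (n : ℕ) (hn : 3 ≤ n) (a b : F)
    (hab : ∀ z₁ z₂ : F, z₁ ^ 2 + a * z₁ * z₂ + b * z₂ ^ 2 = 0 → z₁ = 0 ∧ z₂ = 0)
    (z : Cfsg.isometryGroup F ⇑(QMinus n F a b))
    (hz : ∀ g ∈ commutator (Cfsg.isometryGroup F ⇑(QMinus n F a b)), z * g = g * z) :
    ((z : Matrix.GeneralLinearGroup ((Fin n ⊕ Fin n) ⊕ Fin 2) F) :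
      Matrix ((Fin n ⊕ Fin n) ⊕ Fin 2) ((Fin n ⊕ Fin n) ⊕ Fin 2) F) = 1 ∨
    ((z : Matrix.GeneralLinearGroup ((Fin n ⊕ Fin n) ⊕ Fin 2) F) :
      Matrix ((Fin n ⊕ Fin n) ⊕ Fin 2) ((Fin n ⊕ Fin n) ⊕ Fin 2) F) = -1 := by
  obtain ⟨hyp, ⟨hp0, hQ0⟩, hp1, hQ1, -⟩ :=
    (isQCol_minus_iff n a b (fun c => Pi.single c 1)).mp (isQCol_single (QMinus n F a b))
  have hb : b ≠ 0 := by
    intro hb0
    have := (hab 0 1 (by rw [hb0]; ring)).2
    exact one_ne_zero this
  obtain ⟨lam, hE, hF', hD, hlam⟩ := centralizer_frame (QMinus n F a b) (QMinus_nondeg n a b hab)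
    (Or.inr (by rw [Fintype.card_sum, Fintype.card_sum, Fintype.card_fin, Fintype.card_fin]; omega))
    z hz hn _ _ hyp
  have hd0 := hD _ hp0 (by rw [hQ0]; exact one_ne_zero)
  have hd1 := hD _ hp1 (by rw [hQ1]; exact hb)
  apply matrix_eq_one_or_neg_one _ lam hlam
  rintro ((i | i) | i)
  · exact hE i
  · exact hF' i
  · fin_cases i
    · exact hd0
    · exact hd1

theorem card_POmegaPlus {q : ℕ} (hF : Fintype.card F = q) (m : ℕ) (hm : 4 ≤ m) :
    Nat.gcd 4 (q ^ m - 1) * Nat.card (Cfsg.POmega F (Cfsg.quadFormPlus m F)) =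
      q ^ (m * (m - 1)) * (q ^ m - 1) * ∏ i ∈ Finset.range (m - 1), (q ^ (2 * (i + 1)) - 1) := by
  classical
  have hGO := card_GOPlus hF m (by omega)
  have hq1 : 1 ≤ q := by rw [← hF]; exact Fintype.card_pos
  have hN1 : 1 ≤ q ^ m := Nat.one_le_pow _ _ hq1
  by_cases h2 : (2 : F) = 0
  · have hq2 := even_card_of_two_eq_zero hF h2
    have hN2 : q ^ m % 2 = 0 := by
      rw [Nat.pow_mod, hq2, zero_pow (by omega), Nat.zero_mod]
    rw [← coe_QPlus] at hGO ⊢
    have hnd := QPlus_nondeg (F := F) m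
    have hQ := polarBilin_nondegenerate_of (QPlus m F) hnd
    have hcard4 : Fintype.card F ≠ 2 ∨ Fintype.card (Fin m ⊕ Fin m) ≠ 4 :=
      Or.inr (by rw [Fintype.card_sum, Fintype.card_fin]; omega)
    have hZ := fun z hz => centralizer_plus (F := F) m (by omega) z hz
    have hmul := card_isometryGroup_eq_mul (QPlus m F)
    rw [hGO] at hmul
    have : Nonempty (Fin m ⊕ Fin m) := ⟨Sum.inl ⟨0, by omega⟩⟩
    have hidx := index_commutator_two (QPlus m F) h2 hQ hcard4
    have hcen := card_center_omega_eq_one (QPlus m F) hZ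
      (fun g _ hg => by rw [hg]; exact neg_one_matrix_eq_one h2)
    rw [hidx, hcen, mul_one] at hmul
    have hgcd : Nat.gcd 4 (q ^ m - 1) = 1 := by
      rw [gcd_four]
      have : (q ^ m - 1) % 4 = 1 ∨ (q ^ m - 1) % 4 = 3 := by omega
      rcases this with h | h <;> simp [h]
    rw [hgcd, one_mul]
    have hmul' : 2 * (q ^ (m * (m - 1)) * (q ^ m - 1) *
        ∏ i ∈ Finset.range (m - 1), (q ^ (2 * (i + 1)) - 1)) =
        2 * Nat.card (Cfsg.POmega F ⇑(QPlus m F)) := by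
      rw [← hmul]; ring
    exact (Nat.eq_of_mul_eq_mul_left (by norm_num) hmul').symm
  · have hodd := odd_card_of_two_ne_zero hF h2
    have hNodd : q ^ m % 2 = 1 := Nat.odd_iff.mp (hodd.pow)
    have h790 := Cfsg.Agent.S0790.result hF hodd m (by omega)
    rw [← coe_QPlus] at hGO h790 ⊢
    have hnd := QPlus_nondeg (F := F) m
    have hQ := polarBilin_nondegenerate_of (QPlus m F) hnd
    have hcard4 : Fintype.card F ≠ 2 ∨ Fintype.card (Fin m ⊕ Fin m) ≠ 4 :=
      Or.inr (by rw [Fintype.card_sum, Fintype.card_fin]; omega)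
    have hZ := fun z hz => centralizer_plus (F := F) m (by omega) z hz
    have hmul := card_isometryGroup_eq_mul (QPlus m F)
    rw [hGO] at hmul
    have : Nonempty (Fin m ⊕ Fin m) := ⟨Sum.inl ⟨0, by omega⟩⟩
    have hidx := index_commutator_eq_four (QPlus m F) h2 hQ
      (by rw [Fintype.card_sum, Fintype.card_fin]; omega) (hall_of_finite (QPlus m F) hQ hcard4)
    rw [hidx] at hmul
    by_cases hq4 : q ^ m % 4 = 1
    · have hcen := card_center_omega_eq_two (QPlus m F) h2 hZ (h790.mpr hq4)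
      rw [hcen] at hmul
      have hgcd : Nat.gcd 4 (q ^ m - 1) = 4 := by
        rw [gcd_four]
        have : (q ^ m - 1) % 4 = 0 := by omega
        simp [this]
      rw [hgcd]
      have hmul' : 2 * (q ^ (m * (m - 1)) * (q ^ m - 1) *
          ∏ i ∈ Finset.range (m - 1), (q ^ (2 * (i + 1)) - 1)) =
          2 * (4 * Nat.card (Cfsg.POmega F ⇑(QPlus m F))) := by
        rw [← mul_assoc, ← mul_assoc, hmul]; ring
      exact (Nat.eq_of_mul_eq_mul_left (by norm_num) hmul').symm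
    · have hcen := card_center_omega_eq_one (QPlus m F) hZ
        (fun g hg hgm => absurd (h790.mp ⟨g, hg, hgm⟩) hq4)
      rw [hcen, mul_one] at hmul
      have hgcd : Nat.gcd 4 (q ^ m - 1) = 2 := by
        rw [gcd_four]
        have : (q ^ m - 1) % 4 = 2 := by omega
        simp [this]
      rw [hgcd]
      have hmul' : 2 * (q ^ (m * (m - 1)) * (q ^ m - 1) *
          ∏ i ∈ Finset.range (m - 1), (q ^ (2 * (i + 1)) - 1)) =
          2 * (2 * Nat.card (Cfsg.POmega F ⇑(QPlus m F))) := by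
        rw [← mul_assoc, ← mul_assoc, hmul]; ring
      exact (Nat.eq_of_mul_eq_mul_left (by norm_num) hmul').symm

theorem card_POmegaMinus {q : ℕ} (hF : Fintype.card F = q) (n : ℕ) (hn : 3 ≤ n) (a b : F)
    (hab : ∀ z₁ z₂ : F, z₁ ^ 2 + a * z₁ * z₂ + b * z₂ ^ 2 = 0 → z₁ = 0 ∧ z₂ = 0) :
    Nat.gcd 4 (q ^ (n + 1) + 1) * Nat.card (Cfsg.POmega F (Cfsg.quadFormMinus n F a b)) =
      q ^ ((n + 1) * n) * (q ^ (n + 1) + 1) *
        ∏ i ∈ Finset.range n, (q ^ (2 * (i + 1)) - 1) := by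
  classical
  have hGO := card_GOMinus hF n a b hab
  have hq1 : 1 ≤ q := by rw [← hF]; exact Fintype.card_pos
  have hN1 : 1 ≤ q ^ (n + 1) := Nat.one_le_pow _ _ hq1
  have hnd := QMinus_nondeg (F := F) n a b hab
  have hQ := polarBilin_nondegenerate_of (QMinus n F a b) hnd
  have hcard4 : Fintype.card F ≠ 2 ∨ Fintype.card ((Fin n ⊕ Fin n) ⊕ Fin 2) ≠ 4 :=
    Or.inr (by rw [Fintype.card_sum, Fintype.card_sum, Fintype.card_fin, Fintype.card_fin]; omega)
  have hZ := fun z hz => centralizer_minus (F := F) n hn a b hab z hz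
  have hmul := card_isometryGroup_eq_mul (QMinus n F a b)
  have : Nonempty ((Fin n ⊕ Fin n) ⊕ Fin 2) := ⟨Sum.inr 0⟩
  by_cases h2 : (2 : F) = 0
  · have hq2 := even_card_of_two_eq_zero hF h2
    have hN2 : q ^ (n + 1) % 2 = 0 := by
      rw [Nat.pow_mod, hq2, zero_pow (by omega), Nat.zero_mod]
    rw [← coe_QMinus] at hGO ⊢
    rw [hGO] at hmul
    have hidx := index_commutator_two (QMinus n F a b) h2 hQ hcard4
    have hcen := card_center_omega_eq_one (QMinus n F a b) hZ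
      (fun g _ hg => by rw [hg]; exact neg_one_matrix_eq_one h2)
    rw [hidx, hcen, mul_one] at hmul
    have hgcd : Nat.gcd 4 (q ^ (n + 1) + 1) = 1 := by
      rw [gcd_four]
      have : (q ^ (n + 1) + 1) % 4 = 1 ∨ (q ^ (n + 1) + 1) % 4 = 3 := by omega
      rcases this with h | h <;> simp [h]
    rw [hgcd, one_mul]
    have hmul' : 2 * (q ^ ((n + 1) * n) * (q ^ (n + 1) + 1) *
        ∏ i ∈ Finset.range n, (q ^ (2 * (i + 1)) - 1)) =
        2 * Nat.card (Cfsg.POmega F ⇑(QMinus n F a b)) := by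
      rw [← hmul]; ring
    exact (Nat.eq_of_mul_eq_mul_left (by norm_num) hmul').symm
  · have hodd := odd_card_of_two_ne_zero hF h2
    have hNodd : q ^ (n + 1) % 2 = 1 := Nat.odd_iff.mp (hodd.pow)
    have h791 := Cfsg.Agent.S0791.aux (by rw [hF]; exact hodd) n a b hab
    rw [hF] at h791
    rw [← coe_QMinus] at hGO h791 ⊢
    rw [hGO] at hmul
    have hidx := index_commutator_eq_four (QMinus n F a b) h2 hQ
      (by rw [Fintype.card_sum, Fintype.card_sum, Fintype.card_fin, Fintype.card_fin]; omega)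
      (hall_of_finite (QMinus n F a b) hQ hcard4)
    rw [hidx] at hmul
    by_cases hq4 : q ^ (n + 1) % 4 = 3
    · have hcen := card_center_omega_eq_two (QMinus n F a b) h2 hZ (h791.mpr hq4)
      rw [hcen] at hmul
      have hgcd : Nat.gcd 4 (q ^ (n + 1) + 1) = 4 := by
        rw [gcd_four]
        have : (q ^ (n + 1) + 1) % 4 = 0 := by omega
        simp [this]
      rw [hgcd]
      have hmul' : 2 * (q ^ ((n + 1) * n) * (q ^ (n + 1) + 1) *
          ∏ i ∈ Finset.range n, (q ^ (2 * (i + 1)) - 1)) =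
          2 * (4 * Nat.card (Cfsg.POmega F ⇑(QMinus n F a b))) := by
        rw [← mul_assoc, ← mul_assoc, hmul]; ring
      exact (Nat.eq_of_mul_eq_mul_left (by norm_num) hmul').symm
    · have hcen := card_center_omega_eq_one (QMinus n F a b) hZ
        (fun g hg hgm => absurd (h791.mp ⟨g, hg, hgm⟩) hq4)
      rw [hcen, mul_one] at hmul
      have hgcd : Nat.gcd 4 (q ^ (n + 1) + 1) = 2 := by
        rw [gcd_four]
        have : (q ^ (n + 1) + 1) % 4 = 2 := by omega
        simp [this]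
      rw [hgcd]
      have hmul' : 2 * (q ^ ((n + 1) * n) * (q ^ (n + 1) + 1) *
          ∏ i ∈ Finset.range n, (q ^ (2 * (i + 1)) - 1)) =
          2 * (2 * Nat.card (Cfsg.POmega F ⇑(QMinus n F a b))) := by
        rw [← mul_assoc, ← mul_assoc, hmul]; ring
      exact (Nat.eq_of_mul_eq_mul_left (by norm_num) hmul').symm

theorem card_POmegaOdd {q : ℕ} (hF : Fintype.card F = q) (hodd : Odd q) (m : ℕ) (hm : 3 ≤ m) :
    2 * Nat.card (Cfsg.POmega F (Cfsg.quadFormOdd m F)) =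
      q ^ (m ^ 2) * ∏ i ∈ Finset.range m, (q ^ (2 * (i + 1)) - 1) := by
  classical
  have hGO := card_GOOdd hF hodd m
  have h2 : (2 : F) ≠ 0 := two_ne_zero_of_odd_card hF hodd
  have hnd := QOdd_nondeg (F := F) h2 m
  have hQ := polarBilin_nondegenerate_of (QOdd m F) hnd
  have hcard : Fintype.card (Unit ⊕ (Fin m ⊕ Fin m)) = 1 + (m + m) := by
    rw [Fintype.card_sum, Fintype.card_sum, Fintype.card_fin, Fintype.card_unit]
  have hcard4 : Fintype.card F ≠ 2 ∨ Fintype.card (Unit ⊕ (Fin m ⊕ Fin m)) ≠ 4 :=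
    Or.inr (by rw [hcard]; omega)
  have hZ := fun z hz => centralizer_odd (F := F) h2 m hm z hz
  have hmul := card_isometryGroup_eq_mul (QOdd m F)
  rw [← coe_QOdd] at hGO ⊢
  rw [hGO] at hmul
  have hidx := index_commutator_eq_four (QOdd m F) h2 hQ (by rw [hcard]; omega)
    (hall_of_finite (QOdd m F) hQ hcard4)
  have hcen := card_center_omega_eq_one (QOdd m F) hZ (fun g hg hgm => by
    exfalso
    have hdet := det_eq_one_of_mem_commutator (QOdd m F) g hg
    rw [hgm, Matrix.det_neg, Matrix.det_one, hcard, mul_one,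
      Odd.neg_one_pow ⟨m, by ring⟩] at hdet
    apply h2
    linear_combination (-1 : F) * hdet)
  rw [hidx, hcen, mul_one] at hmul
  have hmul' : 2 * (q ^ (m ^ 2) * ∏ i ∈ Finset.range m, (q ^ (2 * (i + 1)) - 1)) =
      2 * (2 * Nat.card (Cfsg.POmega F ⇑(QOdd m F))) := by
    rw [← mul_assoc, hmul]; ring
  exact (Nat.eq_of_mul_eq_mul_left (by norm_num) hmul').symm

end

end Cfsg.Agent.Lib.Helper7
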