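import Cfsg.Agent.Lib.Helper7.AffPTab

/-! Generated kernel checks (closure part 0) of a Schreier-Sims certificate (AffP). -/

set_option autoImplicit false
set_option maxRecDepth 1000000

namespace Cfsg.Agent.Lib.Helper7.AffP

open Cfsg.Agent.Lib.Helper7.Sims

theorem hclose1_0 : closeS ap9 64 t0 U1 [(0, U1), (1, U2), (2, U3), (16, U4), (32, U5)] = true := by decide +kernel
theorem hclose1_1 : closeS ap9 64 t1 U1 [(0, U1), (1, U2), (2, U3), (16, U4), (32, U5)] = true := by decide +kernel
theorem hclose1_2 : closeS ap9 64 t2 U1 [(0, U1), (1, U2), (2, U3), (16, U4), (32, U5)] = true := by decide +kernel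
theorem hclose1_3 : closeS ap9 64 t3 U1 [(0, U1), (1, U2), (2, U3), (16, U4), (32, U5)] = true := by decide +kernel
theorem hclose1_4 : closeS ap9 64 t4 U1 [(0, U1), (1, U2), (2, U3), (16, U4), (32, U5)] = true := by decide +kernel
theorem hclose1_5 : closeS ap9 64 t5 U1 [(0, U1), (1, U2), (2, U3), (16, U4), (32, U5)] = true := by decide +kernel
theorem hclose1_6 : closeS ap9 64 t6 U1 [(0, U1), (1, U2), (2, U3), (16, U4), (32, U5)] = true := by decide +kernel
theorem hclose1_7 : closeS ap9 64 t7 U1 [(0, U1), (1, U2), (2, U3), (16, U4), (32, U5)] = true := by decide +kernel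
theorem hclose1_8 : closeS ap9 64 t66 U1 [(0, U1), (1, U2), (2, U3), (16, U4), (32, U5)] = true := by decide +kernel
theorem hclose1_9 : closeS ap9 64 t99 U1 [(0, U1), (1, U2), (2, U3), (16, U4), (32, U5)] = true := by decide +kernel
theorem hclose1_10 : closeS ap9 64 t100 U1 [(0, U1), (1, U2), (2, U3), (16, U4), (32, U5)] = true := by decide +kernel
theorem hclose1_11 : closeS ap9 64 t101 U1 [(0, U1), (1, U2), (2, U3), (16, U4), (32, U5)] = true := by decide +kernel
theorem hclose1_12 : closeS ap9 64 t102 U1 [(0, U1), (1, U2), (2, U3), (16, U4), (32, U5)] = true := by decide +kernel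
theorem hclose1_13 : closeS ap9 64 t116 U1 [(0, U1), (1, U2), (2, U3), (16, U4), (32, U5)] = true := by decide +kernel
theorem hclose1_14 : closeS ap9 64 t117 U1 [(0, U1), (1, U2), (2, U3), (16, U4), (32, U5)] = true := by decide +kernel
theorem hclose1_15 : closeS ap9 64 t118 U1 [(0, U1), (1, U2), (2, U3), (16, U4), (32, U5)] = true := by decide +kernel
theorem hclose1_16 : closeS ap9 64 t119 U1 [(0, U1), (1, U2), (2, U3), (16, U4), (32, U5)] = true := by decide +kernel
theorem hclose2_0 : closeS ap9 64 t66 U2 [(1, U2), (2, U3), (16, U4), (32, U5)] = true := by decide +kernel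
theorem hclose2_1 : closeS ap9 64 t6 U2 [(1, U2), (2, U3), (16, U4), (32, U5)] = true := by decide +kernel
theorem hclose2_2 : closeS ap9 64 t99 U2 [(1, U2), (2, U3), (16, U4), (32, U5)] = true := by decide +kernel
theorem hclose2_3 : closeS ap9 64 t100 U2 [(1, U2), (2, U3), (16, U4), (32, U5)] = true := by decide +kernel
theorem hclose2_4 : closeS ap9 64 t101 U2 [(1, U2), (2, U3), (16, U4), (32, U5)] = true := by decide +kernel
theorem hclose2_5 : closeS ap9 64 t102 U2 [(1, U2), (2, U3), (16, U4), (32, U5)] = true := by decide +kernel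
theorem hclose2_6 : closeS ap9 64 t116 U2 [(1, U2), (2, U3), (16, U4), (32, U5)] = true := by decide +kernel
theorem hclose2_7 : closeS ap9 64 t117 U2 [(1, U2), (2, U3), (16, U4), (32, U5)] = true := by decide +kernel
theorem hclose2_8 : closeS ap9 64 t118 U2 [(1, U2), (2, U3), (16, U4), (32, U5)] = true := by decide +kernel
theorem hclose2_9 : closeS ap9 64 t119 U2 [(1, U2), (2, U3), (16, U4), (32, U5)] = true := by decide +kernel
theorem hclose3_0 : closeS ap9 64 t99 U3 [(2, U3), (16, U4), (32, U5)] = true := by decide +kernel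
theorem hclose3_1 : closeS ap9 64 t100 U3 [(2, U3), (16, U4), (32, U5)] = true := by decide +kernel
theorem hclose3_2 : closeS ap9 64 t101 U3 [(2, U3), (16, U4), (32, U5)] = true := by decide +kernel
theorem hclose3_3 : closeS ap9 64 t102 U3 [(2, U3), (16, U4), (32, U5)] = true := by decide +kernel
theorem hclose3_4 : closeS ap9 64 t116 U3 [(2, U3), (16, U4), (32, U5)] = true := by decide +kernel
theorem hclose3_5 : closeS ap9 64 t117 U3 [(2, U3), (16, U4), (32, U5)] = true := by decide +kernel
theorem hclose3_6 : closeS ap9 64 t118 U3 [(2, U3), (16, U4), (32, U5)] = true := by decide +kernel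
theorem hclose3_7 : closeS ap9 64 t119 U3 [(2, U3), (16, U4), (32, U5)] = true := by decide +kernel
theorem hclose4_0 : closeS ap9 64 t116 U4 [(16, U4), (32, U5)] = true := by decide +kernel
theorem hclose4_1 : closeS ap9 64 t117 U4 [(16, U4), (32, U5)] = true := by decide +kernel
theorem hclose4_2 : closeS ap9 64 t118 U4 [(16, U4), (32, U5)] = true := by decide +kernel
theorem hclose4_3 : closeS ap9 64 t119 U4 [(16, U4), (32, U5)] = true := by decide +kernel
theorem hclose5_0 : closeS ap9 64 t116 U5 [(32, U5)] = true := by decide +kernel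
theorem hclose5_1 : closeS ap9 64 t118 U5 [(32, U5)] = true := by decide +kernel

end Cfsg.Agent.Lib.Helper7.AffP
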