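import Mathlib
import Cfsg.Prelude.Def_GeometricClasses
import Cfsg.Prelude.Def_LieClassical
import Cfsg.Agent.Lib.Helper71.Asch5
import Cfsg.Agent.Lib.Helper82.ASB8UNITS
import Cfsg.Agent.Lib.Helper44.BADDefs

/-! Project BAD (helper44; sub-project of helper49's SUG = S5663), piece EMIN (helper7):
`E = 3^{1+4}` is minimal among the non-scalar subgroups normalised by `H'`. -/

set_option autoImplicit false

namespace Cfsg.Agent.Lib.Helper44.BAD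

open Matrix Cfsg.Geo Cfsg.Agent.Lib.Helper71.Asch
open scoped Kronecker

variable {n : ℕ} {F : Type*} [Field F] [Fintype F] {q : ℕ}

/-- the unit with matrix `tmat e P a b` for invertible `a`, `b` -/
def EMIN_mk (e : Fin n ≃ Fin 3 × Fin 3) (P : GL (Fin n) F) (a a' b b' : Matrix (Fin 3) (Fin 3) F)
    (h1 : a * a' = 1) (h2 : a' * a = 1) (h3 : b * b' = 1) (h4 : b' * b = 1) : GL (Fin n) F :=
  ⟨tmat e P a b, tmat e P a' b',
    by rw [Cfsg.Agent.Lib.Helper82.ASB8UNITS.tmat_mul, h1, h3,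
      Cfsg.Agent.Lib.Helper82.ASB8UNITS.tmat_one],
    by rw [Cfsg.Agent.Lib.Helper82.ASB8UNITS.tmat_mul, h2, h4,
      Cfsg.Agent.Lib.Helper82.ASB8UNITS.tmat_one]⟩

theorem EMIN_mk_val (e : Fin n ≃ Fin 3 × Fin 3) (P : GL (Fin n) F)
    (a a' b b' : Matrix (Fin 3) (Fin 3) F)
    (h1 : a * a' = 1) (h2 : a' * a = 1) (h3 : b * b' = 1) (h4 : b' * b = 1) :
    (EMIN_mk e P a a' b b' h1 h2 h3 h4).1 = tmat e P a b := rfl

theorem EMIN_unitary_inv (g : Matrix (Fin 3) (Fin 3) F) (hg : g ∈ bU F 2) :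
    ∃ g' : Matrix (Fin 3) (Fin 3) F, g * g' = 1 ∧ g' * g = 1 := by
  have h : gᵀ * g.map (fun x : F => x ^ 2) = 1 := hg
  refine ⟨(g.map (fun x : F => x ^ 2))ᵀ, ?_, ?_⟩
  · have h2 : g.map (fun x : F => x ^ 2) * gᵀ = 1 := mul_eq_one_comm.mp h
    have h3 := congrArg Matrix.transpose h2
    rw [Matrix.transpose_mul, Matrix.transpose_transpose, Matrix.transpose_one] at h3
    exact h3
  · have h3 := congrArg Matrix.transpose h
    rw [Matrix.transpose_mul, Matrix.transpose_transpose, Matrix.transpose_one] at h3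
    exact h3

theorem EMIN_tmat_scal (e : Fin n ≃ Fin 3 × Fin 3) (P : GL (Fin n) F) (c c' : F) :
    tmat e P (c • (1 : Matrix (Fin 3) (Fin 3) F)) (c' • (1 : Matrix (Fin 3) (Fin 3) F)) =
      (c * c') • (1 : Matrix (Fin n) (Fin n) F) := by
  unfold tmat
  have h2 : Matrix.reindex e.symm e.symm ((c • (1 : Matrix (Fin 3) (Fin 3) F)) ⊗ₖ
      (c' • (1 : Matrix (Fin 3) (Fin 3) F))) = (c * c') • (1 : Matrix (Fin n) (Fin n) F) := by
    rw [Matrix.smul_kronecker, Matrix.kronecker_smul, Matrix.one_kronecker_one, smul_smul]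
    ext i j
    simp [Matrix.reindex_apply, Matrix.one_apply]
  rw [h2, Matrix.mul_smul, Matrix.smul_mul, mul_one,
    Cfsg.Agent.Lib.Helper82.ASB8UNITS.mul_inv_val]

/-- EMIN: `E` is a minimal non-scalar subgroup normalised by `H'`. -/
theorem EMIN (e : Fin n ≃ Fin 3 × Fin 3) (P : GL (Fin n) F) (E H' : Subgroup (GL (Fin n) F))
    (hE : EIs e P E) (hS : SMULp F) (haux : SAUXp F) (htr : STRANSp F)
    (hH1 : ∀ g : GL (Fin n) F, ∀ a ∈ bU F 2, g.1 = tmat e P a 1 → g ∈ H')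
    (s : GL (Fin n) F) (hs : s ∈ H')
    (hsw : ∀ a b : Matrix (Fin 3) (Fin 3) F, s.1 * tmat e P a b = tmat e P b a * s.1)
    (L' : Subgroup (GL (Fin n) F)) (hL' : L' ≤ E) (hN : Nrm H' L') :
    L' ≤ scalars (Fin n) F ∨ L' = E := by
  classical
  by_cases hsc : L' ≤ scalars (Fin n) F
  · exact Or.inl hsc
  right
  obtain ⟨hS1, hSmul, hSinv⟩ := hS
  obtain ⟨-, hsq, hprod⟩ := haux
  obtain ⟨x, hxL, hxs⟩ := SetLike.not_le_iff_exists.mp hsc
  obtain ⟨a0, ha0, b0, hb0, hx⟩ := (hE x).1 (hL' hxL)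
  have tm := @Cfsg.Agent.Lib.Helper82.ASB8UNITS.tmat_mul F _ n 3 3 e P
  have step0 : ∃ y ∈ L', ∃ a ∈ bS F, ∃ b ∈ bS F, ¬ bScal a ∧ y.1 = tmat e P a b := by
    by_cases ha : bScal a0
    · by_cases hb : bScal b0
      · exfalso
        obtain ⟨c, hc⟩ := ha
        obtain ⟨c', hc'⟩ := hb
        apply hxs
        rw [mem_scalars_iff]
        have hcne : c ≠ 0 := by
          rintro rfl
          obtain ⟨a', -, h1, -⟩ := hSinv a0 ha0
          rw [hc, zero_smul, zero_mul] at h1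
          exact zero_ne_one h1
        have hcne' : c' ≠ 0 := by
          rintro rfl
          obtain ⟨b', -, h1, -⟩ := hSinv b0 hb0
          rw [hc', zero_smul, zero_mul] at h1
          exact zero_ne_one h1
        refine ⟨Units.mk0 (c * c') (mul_ne_zero hcne hcne'), ?_⟩
        rw [hx, hc, hc', EMIN_tmat_scal]
        rfl
      · refine ⟨s * x * s⁻¹, hN s hs x hxL, b0, hb0, a0, ha0, hb, ?_⟩
        have h1 : (s * x).1 = tmat e P b0 a0 * s.1 := by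
          rw [Units.val_mul, hx, hsw]
        have h2 : (s * x * s⁻¹).1 * s.1 = tmat e P b0 a0 * s.1 := by
          rw [← Units.val_mul, inv_mul_cancel_right]; exact h1
        have h3 : (s * x * s⁻¹).1 * s.1 * (s⁻¹ : GL (Fin n) F).1 =
            tmat e P b0 a0 * s.1 * (s⁻¹ : GL (Fin n) F).1 := by rw [h2]
        rw [Matrix.mul_assoc, Matrix.mul_assoc, Cfsg.Agent.Lib.Helper82.ASB8UNITS.mul_inv_val,
          Matrix.mul_one, Matrix.mul_one] at h3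
        exact h3
    · exact ⟨x, hxL, a0, ha0, b0, hb0, ha, hx⟩
  obtain ⟨y, hyL, a, ha, b, hb, hna, hy⟩ := step0
  obtain ⟨a', ha', haa', ha'a⟩ := hSinv a ha
  have one_inv : (1 : Matrix (Fin 3) (Fin 3) F) * 1 = 1 := mul_one 1
  obtain ⟨A1, hA1v⟩ : ∃ A1 : GL (Fin n) F, A1.1 = tmat e P a 1 :=
    ⟨EMIN_mk e P a a' 1 1 haa' ha'a one_inv one_inv, rfl⟩
  have hA1 : A1 ∈ L' := by
    obtain ⟨g, hg, hga⟩ := htr a ha (a * a) (hSmul a ha a ha) hna (hsq a ha hna)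
    obtain ⟨g', hgg', hg'g⟩ := EMIN_unitary_inv g hg
    obtain ⟨γ, hγv⟩ : ∃ γ : GL (Fin n) F, γ.1 = tmat e P g 1 :=
      ⟨EMIN_mk e P g g' 1 1 hgg' hg'g one_inv one_inv, rfl⟩
    have hγ : γ ∈ H' := hH1 γ g hg hγv
    have hy' : γ * y * γ⁻¹ ∈ L' := hN γ hγ y hyL
    have h1 : A1 * y * γ = γ * y := by
      apply Units.ext
      rw [Units.val_mul, Units.val_mul, Units.val_mul, hA1v, hγv, hy]
      simp only [tm, one_mul, mul_one]
      rw [hga]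
    have h2 : A1 = γ * y * γ⁻¹ * y⁻¹ := by
      rw [← h1]; group
    rw [h2]
    exact L'.mul_mem hy' (L'.inv_mem hyL)
  have K1 : ∀ M ∈ bS F, ¬ bScal M → ∀ u : GL (Fin n) F, u.1 = tmat e P M 1 → u ∈ L' := by
    intro M hM hMns u hu
    obtain ⟨g, hg, hgM⟩ := htr a ha M hM hna hMns
    obtain ⟨g', hgg', hg'g⟩ := EMIN_unitary_inv g hg
    obtain ⟨γ, hγv⟩ : ∃ γ : GL (Fin n) F, γ.1 = tmat e P g 1 :=
      ⟨EMIN_mk e P g g' 1 1 hgg' hg'g one_inv one_inv, rfl⟩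
    have hγ : γ ∈ H' := hH1 γ g hg hγv
    have h1 : γ * A1 * γ⁻¹ ∈ L' := hN γ hγ A1 hA1
    have h2 : u * γ = γ * A1 := by
      apply Units.ext
      rw [Units.val_mul, Units.val_mul, hA1v, hγv, hu]
      simp only [tm, mul_one]
      rw [hgM]
    have h3 : u = γ * A1 * γ⁻¹ := by
      rw [← h2]; group
    rw [h3]; exact h1
  have K2 : ∀ M ∈ bS F, ∀ u : GL (Fin n) F, u.1 = tmat e P M 1 → u ∈ L' := by
    intro M hM u hu
    obtain ⟨M1, hM1, M2, hM2, hns1, hns2, hprod'⟩ := hprod M hM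
    obtain ⟨M1', -, h11, h12⟩ := hSinv M1 hM1
    obtain ⟨M2', -, h21, h22⟩ := hSinv M2 hM2
    obtain ⟨u1, hu1⟩ : ∃ u1 : GL (Fin n) F, u1.1 = tmat e P M1 1 :=
      ⟨EMIN_mk e P M1 M1' 1 1 h11 h12 one_inv one_inv, rfl⟩
    obtain ⟨u2, hu2⟩ : ∃ u2 : GL (Fin n) F, u2.1 = tmat e P M2 1 :=
      ⟨EMIN_mk e P M2 M2' 1 1 h21 h22 one_inv one_inv, rfl⟩
    have h3 : u = u1 * u2 := by
      apply Units.ext
      rw [Units.val_mul, hu1, hu2, hu, tm, mul_one, hprod']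
    rw [h3]
    exact L'.mul_mem (K1 M1 hM1 hns1 u1 hu1) (K1 M2 hM2 hns2 u2 hu2)
  have K3 : ∀ M ∈ bS F, ∀ u : GL (Fin n) F, u.1 = tmat e P 1 M → u ∈ L' := by
    intro M hM u hu
    obtain ⟨M', -, h1, h2⟩ := hSinv M hM
    obtain ⟨u', hu'v⟩ : ∃ u' : GL (Fin n) F, u'.1 = tmat e P M 1 :=
      ⟨EMIN_mk e P M M' 1 1 h1 h2 one_inv one_inv, rfl⟩
    have hu' : u' ∈ L' := K2 M hM u' hu'v
    have h3 : s * u = u' * s := by
      apply Units.ext
      rw [Units.val_mul, Units.val_mul, hu, hu'v, hsw]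
    have h4 : s⁻¹ * u' * s⁻¹⁻¹ ∈ L' := hN s⁻¹ (H'.inv_mem hs) u' hu'
    have h5 : u = s⁻¹ * u' * s⁻¹⁻¹ := by
      have h6 : u = s⁻¹ * (s * u) := by group
      rw [h6, h3]; group
    rw [h5]; exact h4
  apply le_antisymm hL'
  intro g hg
  obtain ⟨a1, ha1, b1, hb1, hg1⟩ := (hE g).1 hg
  obtain ⟨a1', -, h1, h2⟩ := hSinv a1 ha1
  obtain ⟨b1', -, h3, h4⟩ := hSinv b1 hb1
  obtain ⟨u1, hu1⟩ : ∃ u1 : GL (Fin n) F, u1.1 = tmat e P a1 1 :=
    ⟨EMIN_mk e P a1 a1' 1 1 h1 h2 one_inv one_inv, rfl⟩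
  obtain ⟨u2, hu2⟩ : ∃ u2 : GL (Fin n) F, u2.1 = tmat e P 1 b1 :=
    ⟨EMIN_mk e P 1 1 b1 b1' one_inv one_inv h3 h4, rfl⟩
  have h5 : g = u1 * u2 := by
    apply Units.ext
    rw [Units.val_mul, hu1, hu2, hg1, tm, mul_one, one_mul]
  rw [h5]
  exact L'.mul_mem (K2 a1 ha1 u1 hu1) (K3 b1 hb1 u2 hu2)

end Cfsg.Agent.Lib.Helper44.BAD
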