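import Cfsg.Agent.Lib.Helper7.MzPTab

/-! Generated kernel checks (part A) of the certificate (MzP). -/

set_option autoImplicit false
set_option maxRecDepth 1000000

namespace Cfsg.Agent.Lib.Helper7.MzP

open Cfsg.Agent.Lib.Helper7.Sims

theorem hinv : zipAll (invChk ap9 400) S0 S0i = true := by decide +kernel
theorem hderive : derive ap9 400 S0 stepsL = true := by decide +kernel
theorem hmem : Sn1.all (fun T => memB T S0 || memB T (stepsL.map (fun s => s.1))) = true := by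
  decide +kernel
theorem hsub : S0.all (fun T => memB T Sn1) = true := by decide +kernel
theorem htree1 : treeGo ap9 400 Sn1 [] U1 = true := by decide +kernel
theorem hid1 : U1.any (isIdT ap9 400) = true := by decide +kernel
theorem hnest1 : Sn2.all (fun T => memB T Sn1) = true := by decide +kernel
theorem hnd1 : nodupB (U1.map (fun T => ap9 T 0)) = true := by decide +kernel
theorem hfx1 : ([⟨2, Sn2, U2⟩, ⟨48, Sn3, U3⟩, ⟨55, Sn4, U4⟩, ⟨62, Sn5, U5⟩, ⟨83, Sn6, U6⟩, ⟨328, Sn7, U7⟩, ⟨331, Sn8, U8⟩, ⟨334, Sn9, U9⟩, ⟨337, Sn10, U10⟩, ⟨340, Sn11, U11⟩, ⟨343, Sn12, U12⟩, ⟨346, Sn13, U13⟩, ⟨349, Sn14, U14⟩, ⟨352, Sn15, U15⟩, ⟨355, Sn16, U16⟩, ⟨361, Sn17, U17⟩, ⟨364, Sn18, U18⟩] : List Lvl).all (fun l' => l'.U.all (fun T => Nat.beq (ap9 T 0) 0)) = true := by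
  decide +kernel
theorem htree2 : treeGo ap9 400 Sn2 [] U2 = true := by decide +kernel
theorem hid2 : U2.any (isIdT ap9 400) = true := by decide +kernel
theorem hnest2 : Sn3.all (fun T => memB T Sn2) = true := by decide +kernel
theorem hnd2 : nodupB (U2.map (fun T => ap9 T 2)) = true := by decide +kernel
theorem hfx2 : ([⟨48, Sn3, U3⟩, ⟨55, Sn4, U4⟩, ⟨62, Sn5, U5⟩, ⟨83, Sn6, U6⟩, ⟨328, Sn7, U7⟩, ⟨331, Sn8, U8⟩, ⟨334, Sn9, U9⟩, ⟨337, Sn10, U10⟩, ⟨340, Sn11, U11⟩, ⟨343, Sn12, U12⟩, ⟨346, Sn13, U13⟩, ⟨349, Sn14, U14⟩, ⟨352, Sn15, U15⟩, ⟨355, Sn16, U16⟩, ⟨361, Sn17, U17⟩, ⟨364, Sn18, U18⟩] : List Lvl).all (fun l' => l'.U.all (fun T => Nat.beq (ap9 T 2) 2)) = true := by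
  decide +kernel
theorem htree3 : treeGo ap9 400 Sn3 [] U3 = true := by decide +kernel
theorem hid3 : U3.any (isIdT ap9 400) = true := by decide +kernel
theorem hnest3 : Sn4.all (fun T => memB T Sn3) = true := by decide +kernel
theorem hnd3 : nodupB (U3.map (fun T => ap9 T 48)) = true := by decide +kernel
theorem hfx3 : ([⟨55, Sn4, U4⟩, ⟨62, Sn5, U5⟩, ⟨83, Sn6, U6⟩, ⟨328, Sn7, U7⟩, ⟨331, Sn8, U8⟩, ⟨334, Sn9, U9⟩, ⟨337, Sn10, U10⟩, ⟨340, Sn11, U11⟩, ⟨343, Sn12, U12⟩, ⟨346, Sn13, U13⟩, ⟨349, Sn14, U14⟩, ⟨352, Sn15, U15⟩, ⟨355, Sn16, U16⟩, ⟨361, Sn17, U17⟩, ⟨364, Sn18, U18⟩] : List Lvl).all (fun l' => l'.U.all (fun T => Nat.beq (ap9 T 48) 48)) = true := by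
  decide +kernel
theorem htree4 : treeGo ap9 400 Sn4 [] U4 = true := by decide +kernel
theorem hid4 : U4.any (isIdT ap9 400) = true := by decide +kernel
theorem hnest4 : Sn5.all (fun T => memB T Sn4) = true := by decide +kernel
theorem hnd4 : nodupB (U4.map (fun T => ap9 T 55)) = true := by decide +kernel
theorem hfx4 : ([⟨62, Sn5, U5⟩, ⟨83, Sn6, U6⟩, ⟨328, Sn7, U7⟩, ⟨331, Sn8, U8⟩, ⟨334, Sn9, U9⟩, ⟨337, Sn10, U10⟩, ⟨340, Sn11, U11⟩, ⟨343, Sn12, U12⟩, ⟨346, Sn13, U13⟩, ⟨349, Sn14, U14⟩, ⟨352, Sn15, U15⟩, ⟨355, Sn16, U16⟩, ⟨361, Sn17, U17⟩, ⟨364, Sn18, U18⟩] : List Lvl).all (fun l' => l'.U.all (fun T => Nat.beq (ap9 T 55) 55)) = true := by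
  decide +kernel
theorem htree5 : treeGo ap9 400 Sn5 [] U5 = true := by decide +kernel
theorem hid5 : U5.any (isIdT ap9 400) = true := by decide +kernel
theorem hnest5 : Sn6.all (fun T => memB T Sn5) = true := by decide +kernel
theorem hnd5 : nodupB (U5.map (fun T => ap9 T 62)) = true := by decide +kernel
theorem hfx5 : ([⟨83, Sn6, U6⟩, ⟨328, Sn7, U7⟩, ⟨331, Sn8, U8⟩, ⟨334, Sn9, U9⟩, ⟨337, Sn10, U10⟩, ⟨340, Sn11, U11⟩, ⟨343, Sn12, U12⟩, ⟨346, Sn13, U13⟩, ⟨349, Sn14, U14⟩, ⟨352, Sn15, U15⟩, ⟨355, Sn16, U16⟩, ⟨361, Sn17, U17⟩, ⟨364, Sn18, U18⟩] : List Lvl).all (fun l' => l'.U.all (fun T => Nat.beq (ap9 T 62) 62)) = true := by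
  decide +kernel
theorem htree6 : treeGo ap9 400 Sn6 [] U6 = true := by decide +kernel
theorem hid6 : U6.any (isIdT ap9 400) = true := by decide +kernel
theorem hnest6 : Sn7.all (fun T => memB T Sn6) = true := by decide +kernel
theorem hnd6 : nodupB (U6.map (fun T => ap9 T 83)) = true := by decide +kernel
theorem hfx6 : ([⟨328, Sn7, U7⟩, ⟨331, Sn8, U8⟩, ⟨334, Sn9, U9⟩, ⟨337, Sn10, U10⟩, ⟨340, Sn11, U11⟩, ⟨343, Sn12, U12⟩, ⟨346, Sn13, U13⟩, ⟨349, Sn14, U14⟩, ⟨352, Sn15, U15⟩, ⟨355, Sn16, U16⟩, ⟨361, Sn17, U17⟩, ⟨364, Sn18, U18⟩] : List Lvl).all (fun l' => l'.U.all (fun T => Nat.beq (ap9 T 83) 83)) = true := by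
  decide +kernel
theorem htree7 : treeGo ap9 400 Sn7 [] U7 = true := by decide +kernel
theorem hid7 : U7.any (isIdT ap9 400) = true := by decide +kernel
theorem hnest7 : Sn8.all (fun T => memB T Sn7) = true := by decide +kernel
theorem hnd7 : nodupB (U7.map (fun T => ap9 T 328)) = true := by decide +kernel
theorem hfx7 : ([⟨331, Sn8, U8⟩, ⟨334, Sn9, U9⟩, ⟨337, Sn10, U10⟩, ⟨340, Sn11, U11⟩, ⟨343, Sn12, U12⟩, ⟨346, Sn13, U13⟩, ⟨349, Sn14, U14⟩, ⟨352, Sn15, U15⟩, ⟨355, Sn16, U16⟩, ⟨361, Sn17, U17⟩, ⟨364, Sn18, U18⟩] : List Lvl).all (fun l' => l'.U.all (fun T => Nat.beq (ap9 T 328) 328)) = true := by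
  decide +kernel
theorem htree8 : treeGo ap9 400 Sn8 [] U8 = true := by decide +kernel
theorem hid8 : U8.any (isIdT ap9 400) = true := by decide +kernel
theorem hnest8 : Sn9.all (fun T => memB T Sn8) = true := by decide +kernel
theorem hnd8 : nodupB (U8.map (fun T => ap9 T 331)) = true := by decide +kernel
theorem hfx8 : ([⟨334, Sn9, U9⟩, ⟨337, Sn10, U10⟩, ⟨340, Sn11, U11⟩, ⟨343, Sn12, U12⟩, ⟨346, Sn13, U13⟩, ⟨349, Sn14, U14⟩, ⟨352, Sn15, U15⟩, ⟨355, Sn16, U16⟩, ⟨361, Sn17, U17⟩, ⟨364, Sn18, U18⟩] : List Lvl).all (fun l' => l'.U.all (fun T => Nat.beq (ap9 T 331) 331)) = true := by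
  decide +kernel
theorem htree9 : treeGo ap9 400 Sn9 [] U9 = true := by decide +kernel
theorem hid9 : U9.any (isIdT ap9 400) = true := by decide +kernel
theorem hnest9 : Sn10.all (fun T => memB T Sn9) = true := by decide +kernel
theorem hnd9 : nodupB (U9.map (fun T => ap9 T 334)) = true := by decide +kernel
theorem hfx9 : ([⟨337, Sn10, U10⟩, ⟨340, Sn11, U11⟩, ⟨343, Sn12, U12⟩, ⟨346, Sn13, U13⟩, ⟨349, Sn14, U14⟩, ⟨352, Sn15, U15⟩, ⟨355, Sn16, U16⟩, ⟨361, Sn17, U17⟩, ⟨364, Sn18, U18⟩] : List Lvl).all (fun l' => l'.U.all (fun T => Nat.beq (ap9 T 334) 334)) = true := by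
  decide +kernel
theorem htree10 : treeGo ap9 400 Sn10 [] U10 = true := by decide +kernel
theorem hid10 : U10.any (isIdT ap9 400) = true := by decide +kernel
theorem hnest10 : Sn11.all (fun T => memB T Sn10) = true := by decide +kernel
theorem hnd10 : nodupB (U10.map (fun T => ap9 T 337)) = true := by decide +kernel
theorem hfx10 : ([⟨340, Sn11, U11⟩, ⟨343, Sn12, U12⟩, ⟨346, Sn13, U13⟩, ⟨349, Sn14, U14⟩, ⟨352, Sn15, U15⟩, ⟨355, Sn16, U16⟩, ⟨361, Sn17, U17⟩, ⟨364, Sn18, U18⟩] : List Lvl).all (fun l' => l'.U.all (fun T => Nat.beq (ap9 T 337) 337)) = true := by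
  decide +kernel
theorem htree11 : treeGo ap9 400 Sn11 [] U11 = true := by decide +kernel
theorem hid11 : U11.any (isIdT ap9 400) = true := by decide +kernel
theorem hnest11 : Sn12.all (fun T => memB T Sn11) = true := by decide +kernel
theorem hnd11 : nodupB (U11.map (fun T => ap9 T 340)) = true := by decide +kernel
theorem hfx11 : ([⟨343, Sn12, U12⟩, ⟨346, Sn13, U13⟩, ⟨349, Sn14, U14⟩, ⟨352, Sn15, U15⟩, ⟨355, Sn16, U16⟩, ⟨361, Sn17, U17⟩, ⟨364, Sn18, U18⟩] : List Lvl).all (fun l' => l'.U.all (fun T => Nat.beq (ap9 T 340) 340)) = true := by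
  decide +kernel
theorem htree12 : treeGo ap9 400 Sn12 [] U12 = true := by decide +kernel
theorem hid12 : U12.any (isIdT ap9 400) = true := by decide +kernel
theorem hnest12 : Sn13.all (fun T => memB T Sn12) = true := by decide +kernel
theorem hnd12 : nodupB (U12.map (fun T => ap9 T 343)) = true := by decide +kernel
theorem hfx12 : ([⟨346, Sn13, U13⟩, ⟨349, Sn14, U14⟩, ⟨352, Sn15, U15⟩, ⟨355, Sn16, U16⟩, ⟨361, Sn17, U17⟩, ⟨364, Sn18, U18⟩] : List Lvl).all (fun l' => l'.U.all (fun T => Nat.beq (ap9 T 343) 343)) = true := by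
  decide +kernel
theorem htree13 : treeGo ap9 400 Sn13 [] U13 = true := by decide +kernel
theorem hid13 : U13.any (isIdT ap9 400) = true := by decide +kernel
theorem hnest13 : Sn14.all (fun T => memB T Sn13) = true := by decide +kernel
theorem hnd13 : nodupB (U13.map (fun T => ap9 T 346)) = true := by decide +kernel
theorem hfx13 : ([⟨349, Sn14, U14⟩, ⟨352, Sn15, U15⟩, ⟨355, Sn16, U16⟩, ⟨361, Sn17, U17⟩, ⟨364, Sn18, U18⟩] : List Lvl).all (fun l' => l'.U.all (fun T => Nat.beq (ap9 T 346) 346)) = true := by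
  decide +kernel
theorem htree14 : treeGo ap9 400 Sn14 [] U14 = true := by decide +kernel
theorem hid14 : U14.any (isIdT ap9 400) = true := by decide +kernel
theorem hnest14 : Sn15.all (fun T => memB T Sn14) = true := by decide +kernel
theorem hnd14 : nodupB (U14.map (fun T => ap9 T 349)) = true := by decide +kernel
theorem hfx14 : ([⟨352, Sn15, U15⟩, ⟨355, Sn16, U16⟩, ⟨361, Sn17, U17⟩, ⟨364, Sn18, U18⟩] : List Lvl).all (fun l' => l'.U.all (fun T => Nat.beq (ap9 T 349) 349)) = true := by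
  decide +kernel
theorem htree15 : treeGo ap9 400 Sn15 [] U15 = true := by decide +kernel
theorem hid15 : U15.any (isIdT ap9 400) = true := by decide +kernel
theorem hnest15 : Sn16.all (fun T => memB T Sn15) = true := by decide +kernel
theorem hnd15 : nodupB (U15.map (fun T => ap9 T 352)) = true := by decide +kernel
theorem hfx15 : ([⟨355, Sn16, U16⟩, ⟨361, Sn17, U17⟩, ⟨364, Sn18, U18⟩] : List Lvl).all (fun l' => l'.U.all (fun T => Nat.beq (ap9 T 352) 352)) = true := by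
  decide +kernel
theorem htree16 : treeGo ap9 400 Sn16 [] U16 = true := by decide +kernel
theorem hid16 : U16.any (isIdT ap9 400) = true := by decide +kernel
theorem hnest16 : Sn17.all (fun T => memB T Sn16) = true := by decide +kernel
theorem hnd16 : nodupB (U16.map (fun T => ap9 T 355)) = true := by decide +kernel
theorem hfx16 : ([⟨361, Sn17, U17⟩, ⟨364, Sn18, U18⟩] : List Lvl).all (fun l' => l'.U.all (fun T => Nat.beq (ap9 T 355) 355)) = true := by
  decide +kernel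
theorem htree17 : treeGo ap9 400 Sn17 [] U17 = true := by decide +kernel
theorem hid17 : U17.any (isIdT ap9 400) = true := by decide +kernel
theorem hnest17 : Sn18.all (fun T => memB T Sn17) = true := by decide +kernel
theorem hnd17 : nodupB (U17.map (fun T => ap9 T 361)) = true := by decide +kernel
theorem hfx17 : ([⟨364, Sn18, U18⟩] : List Lvl).all (fun l' => l'.U.all (fun T => Nat.beq (ap9 T 361) 361)) = true := by
  decide +kernel
theorem htree18 : treeGo ap9 400 Sn18 [] U18 = true := by decide +kernel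
theorem hid18 : U18.any (isIdT ap9 400) = true := by decide +kernel
theorem hnd18 : nodupB (U18.map (fun T => ap9 T 364)) = true := by decide +kernel
theorem hfx18 : ([] : List Lvl).all (fun l' => l'.U.all (fun T => Nat.beq (ap9 T 364) 364)) = true := by
  decide +kernel
theorem hVtree1 : treeGo ap9 400 SV1 [] U3 = true := by decide +kernel
theorem hVnest1 : SV2.all (fun T => memB T SV1) = true := by decide +kernel
theorem hVfx1 : ([⟨55, SV2, U4⟩, ⟨62, SV3, U5⟩, ⟨83, SV4, U6⟩] : List Lvl).all (fun l' => l'.U.all (fun T => Nat.beq (ap9 T 48) 48)) = true := by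
  decide +kernel
theorem hVtree2 : treeGo ap9 400 SV2 [] U4 = true := by decide +kernel
theorem hVnest2 : SV3.all (fun T => memB T SV2) = true := by decide +kernel
theorem hVfx2 : ([⟨62, SV3, U5⟩, ⟨83, SV4, U6⟩] : List Lvl).all (fun l' => l'.U.all (fun T => Nat.beq (ap9 T 55) 55)) = true := by
  decide +kernel
theorem hVtree3 : treeGo ap9 400 SV3 [] U5 = true := by decide +kernel
theorem hVnest3 : SV4.all (fun T => memB T SV3) = true := by decide +kernel
theorem hVfx3 : ([⟨83, SV4, U6⟩] : List Lvl).all (fun l' => l'.U.all (fun T => Nat.beq (ap9 T 62) 62)) = true := by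
  decide +kernel
theorem hVtree4 : treeGo ap9 400 SV4 [] U6 = true := by decide +kernel
theorem hVfx4 : ([] : List Lvl).all (fun l' => l'.U.all (fun T => Nat.beq (ap9 T 83) 83)) = true := by
  decide +kernel
theorem hw8 : w8.all (fun T => memB T Sn1) = true := by decide +kernel
theorem hwit8 : witChk 400 8 [2] [0, 2, 48, 55, 62, 83, 328, 331, 334, 337, 340, 343, 346, 349, 352, 355, 361, 364] (evalChain ap9 w8) = true := by decide +kernel
theorem hps8 : ∀ p ∈ List.range (8 + 1), p.Prime → p ∣ 8 → p ∈ [2] := by decide +kernel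
theorem hw9 : w9.all (fun T => memB T Sn1) = true := by decide +kernel
theorem hwit9 : witChk 400 9 [3] [0, 2, 48, 55, 62, 83, 328, 331, 334, 337, 340, 343, 346, 349, 352, 355, 361, 364] (evalChain ap9 w9) = true := by decide +kernel
theorem hps9 : ∀ p ∈ List.range (9 + 1), p.Prime → p ∣ 9 → p ∈ [3] := by decide +kernel
theorem hw10 : w10.all (fun T => memB T Sn1) = true := by decide +kernel
theorem hwit10 : witChk 400 10 [2, 5] [0, 2, 48, 55, 62, 83, 328, 331, 334, 337, 340, 343, 346, 349, 352, 355, 361, 364] (evalChain ap9 w10) = true := by decide +kernel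
theorem hps10 : ∀ p ∈ List.range (10 + 1), p.Prime → p ∣ 10 → p ∈ [2, 5] := by decide +kernel
theorem hw12 : w12.all (fun T => memB T Sn1) = true := by decide +kernel
theorem hwit12 : witChk 400 12 [2, 3] [0, 2, 48, 55, 62, 83, 328, 331, 334, 337, 340, 343, 346, 349, 352, 355, 361, 364] (evalChain ap9 w12) = true := by decide +kernel
theorem hps12 : ∀ p ∈ List.range (12 + 1), p.Prime → p ∣ 12 → p ∈ [2, 3] := by decide +kernel
theorem hw15 : w15.all (fun T => memB T Sn1) = true := by decide +kernel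
theorem hwit15 : witChk 400 15 [3, 5] [0, 2, 48, 55, 62, 83, 328, 331, 334, 337, 340, 343, 346, 349, 352, 355, 361, 364] (evalChain ap9 w15) = true := by decide +kernel
theorem hps15 : ∀ p ∈ List.range (15 + 1), p.Prime → p ∣ 15 → p ∈ [3, 5] := by decide +kernel
theorem hw21 : w21.all (fun T => memB T Sn1) = true := by decide +kernel
theorem hwit21 : witChk 400 21 [3, 7] [0, 2, 48, 55, 62, 83, 328, 331, 334, 337, 340, 343, 346, 349, 352, 355, 361, 364] (evalChain ap9 w21) = true := by decide +kernel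
theorem hps21 : ∀ p ∈ List.range (21 + 1), p.Prime → p ∣ 21 → p ∈ [3, 7] := by decide +kernel
theorem hcardL : cardL Lvs = 306237561840 := by decide +kernel

end Cfsg.Agent.Lib.Helper7.MzP
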