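import Cfsg.Agent.Lib.Helper7.MzPTab

/-! Generated kernel checks (closure part 0) of the certificate (MzP). -/

set_option autoImplicit false
set_option maxRecDepth 1000000

namespace Cfsg.Agent.Lib.Helper7.MzP

open Cfsg.Agent.Lib.Helper7.Sims

theorem hclose1_1 : closeS ap9 400 t1 U1 [(0, U1), (2, U2), (48, U3), (55, U4), (62, U5), (83, U6), (328, U7), (331, U8), (334, U9), (337, U10), (340, U11), (343, U12), (346, U13), (349, U14), (352, U15), (355, U16), (361, U17), (364, U18)] = true := by decide +kernel
theorem hclose1_3 : closeS ap9 400 t3 U1 [(0, U1), (2, U2), (48, U3), (55, U4), (62, U5), (83, U6), (328, U7), (331, U8), (334, U9), (337, U10), (340, U11), (343, U12), (346, U13), (349, U14), (352, U15), (355, U16), (361, U17), (364, U18)] = true := by decide +kernel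
theorem hclose1_5 : closeS ap9 400 t5 U1 [(0, U1), (2, U2), (48, U3), (55, U4), (62, U5), (83, U6), (328, U7), (331, U8), (334, U9), (337, U10), (340, U11), (343, U12), (346, U13), (349, U14), (352, U15), (355, U16), (361, U17), (364, U18)] = true := by decide +kernel
theorem hclose1_7 : closeS ap9 400 t7 U1 [(0, U1), (2, U2), (48, U3), (55, U4), (62, U5), (83, U6), (328, U7), (331, U8), (334, U9), (337, U10), (340, U11), (343, U12), (346, U13), (349, U14), (352, U15), (355, U16), (361, U17), (364, U18)] = true := by decide +kernel
theorem hclose1_9 : closeS ap9 400 t9 U1 [(0, U1), (2, U2), (48, U3), (55, U4), (62, U5), (83, U6), (328, U7), (331, U8), (334, U9), (337, U10), (340, U11), (343, U12), (346, U13), (349, U14), (352, U15), (355, U16), (361, U17), (364, U18)] = true := by decide +kernel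
theorem hclose1_11 : closeS ap9 400 t11 U1 [(0, U1), (2, U2), (48, U3), (55, U4), (62, U5), (83, U6), (328, U7), (331, U8), (334, U9), (337, U10), (340, U11), (343, U12), (346, U13), (349, U14), (352, U15), (355, U16), (361, U17), (364, U18)] = true := by decide +kernel
theorem hclose1_13 : closeS ap9 400 t13 U1 [(0, U1), (2, U2), (48, U3), (55, U4), (62, U5), (83, U6), (328, U7), (331, U8), (334, U9), (337, U10), (340, U11), (343, U12), (346, U13), (349, U14), (352, U15), (355, U16), (361, U17), (364, U18)] = true := by decide +kernel
theorem hclose1_15 : closeS ap9 400 t15 U1 [(0, U1), (2, U2), (48, U3), (55, U4), (62, U5), (83, U6), (328, U7), (331, U8), (334, U9), (337, U10), (340, U11), (343, U12), (346, U13), (349, U14), (352, U15), (355, U16), (361, U17), (364, U18)] = true := by decide +kernel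
theorem hclose1_17 : closeS ap9 400 t17 U1 [(0, U1), (2, U2), (48, U3), (55, U4), (62, U5), (83, U6), (328, U7), (331, U8), (334, U9), (337, U10), (340, U11), (343, U12), (346, U13), (349, U14), (352, U15), (355, U16), (361, U17), (364, U18)] = true := by decide +kernel
theorem hclose1_19 : closeS ap9 400 t24 U1 [(0, U1), (2, U2), (48, U3), (55, U4), (62, U5), (83, U6), (328, U7), (331, U8), (334, U9), (337, U10), (340, U11), (343, U12), (346, U13), (349, U14), (352, U15), (355, U16), (361, U17), (364, U18)] = true := by decide +kernel
theorem hclose2_0 : closeS ap9 400 t24 U2 [(2, U2), (48, U3), (55, U4), (62, U5), (83, U6), (328, U7), (331, U8), (334, U9), (337, U10), (340, U11), (343, U12), (346, U13), (349, U14), (352, U15), (355, U16), (361, U17), (364, U18)] = true := by decide +kernel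
theorem hclose2_2 : closeS ap9 400 t4 U2 [(2, U2), (48, U3), (55, U4), (62, U5), (83, U6), (328, U7), (331, U8), (334, U9), (337, U10), (340, U11), (343, U12), (346, U13), (349, U14), (352, U15), (355, U16), (361, U17), (364, U18)] = true := by decide +kernel
theorem hclose2_4 : closeS ap9 400 t6 U2 [(2, U2), (48, U3), (55, U4), (62, U5), (83, U6), (328, U7), (331, U8), (334, U9), (337, U10), (340, U11), (343, U12), (346, U13), (349, U14), (352, U15), (355, U16), (361, U17), (364, U18)] = true := by decide +kernel
theorem hclose2_6 : closeS ap9 400 t8 U2 [(2, U2), (48, U3), (55, U4), (62, U5), (83, U6), (328, U7), (331, U8), (334, U9), (337, U10), (340, U11), (343, U12), (346, U13), (349, U14), (352, U15), (355, U16), (361, U17), (364, U18)] = true := by decide +kernel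
theorem hclose2_8 : closeS ap9 400 t10 U2 [(2, U2), (48, U3), (55, U4), (62, U5), (83, U6), (328, U7), (331, U8), (334, U9), (337, U10), (340, U11), (343, U12), (346, U13), (349, U14), (352, U15), (355, U16), (361, U17), (364, U18)] = true := by decide +kernel
theorem hclose2_10 : closeS ap9 400 t12 U2 [(2, U2), (48, U3), (55, U4), (62, U5), (83, U6), (328, U7), (331, U8), (334, U9), (337, U10), (340, U11), (343, U12), (346, U13), (349, U14), (352, U15), (355, U16), (361, U17), (364, U18)] = true := by decide +kernel
theorem hclose2_12 : closeS ap9 400 t14 U2 [(2, U2), (48, U3), (55, U4), (62, U5), (83, U6), (328, U7), (331, U8), (334, U9), (337, U10), (340, U11), (343, U12), (346, U13), (349, U14), (352, U15), (355, U16), (361, U17), (364, U18)] = true := by decide +kernel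
theorem hclose2_14 : closeS ap9 400 t16 U2 [(2, U2), (48, U3), (55, U4), (62, U5), (83, U6), (328, U7), (331, U8), (334, U9), (337, U10), (340, U11), (343, U12), (346, U13), (349, U14), (352, U15), (355, U16), (361, U17), (364, U18)] = true := by decide +kernel
theorem hclose2_16 : closeS ap9 400 t18 U2 [(2, U2), (48, U3), (55, U4), (62, U5), (83, U6), (328, U7), (331, U8), (334, U9), (337, U10), (340, U11), (343, U12), (346, U13), (349, U14), (352, U15), (355, U16), (361, U17), (364, U18)] = true := by decide +kernel
theorem hclose3_1 : closeS ap9 400 t4 U3 [(48, U3), (55, U4), (62, U5), (83, U6), (328, U7), (331, U8), (334, U9), (337, U10), (340, U11), (343, U12), (346, U13), (349, U14), (352, U15), (355, U16), (361, U17), (364, U18)] = true := by decide +kernel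
theorem hclose3_3 : closeS ap9 400 t6 U3 [(48, U3), (55, U4), (62, U5), (83, U6), (328, U7), (331, U8), (334, U9), (337, U10), (340, U11), (343, U12), (346, U13), (349, U14), (352, U15), (355, U16), (361, U17), (364, U18)] = true := by decide +kernel
theorem hclose3_5 : closeS ap9 400 t8 U3 [(48, U3), (55, U4), (62, U5), (83, U6), (328, U7), (331, U8), (334, U9), (337, U10), (340, U11), (343, U12), (346, U13), (349, U14), (352, U15), (355, U16), (361, U17), (364, U18)] = true := by decide +kernel
theorem hclose3_7 : closeS ap9 400 t10 U3 [(48, U3), (55, U4), (62, U5), (83, U6), (328, U7), (331, U8), (334, U9), (337, U10), (340, U11), (343, U12), (346, U13), (349, U14), (352, U15), (355, U16), (361, U17), (364, U18)] = true := by decide +kernel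
theorem hclose3_9 : closeS ap9 400 t12 U3 [(48, U3), (55, U4), (62, U5), (83, U6), (328, U7), (331, U8), (334, U9), (337, U10), (340, U11), (343, U12), (346, U13), (349, U14), (352, U15), (355, U16), (361, U17), (364, U18)] = true := by decide +kernel
theorem hclose3_11 : closeS ap9 400 t14 U3 [(48, U3), (55, U4), (62, U5), (83, U6), (328, U7), (331, U8), (334, U9), (337, U10), (340, U11), (343, U12), (346, U13), (349, U14), (352, U15), (355, U16), (361, U17), (364, U18)] = true := by decide +kernel
theorem hclose3_13 : closeS ap9 400 t16 U3 [(48, U3), (55, U4), (62, U5), (83, U6), (328, U7), (331, U8), (334, U9), (337, U10), (340, U11), (343, U12), (346, U13), (349, U14), (352, U15), (355, U16), (361, U17), (364, U18)] = true := by decide +kernel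
theorem hclose3_15 : closeS ap9 400 t18 U3 [(48, U3), (55, U4), (62, U5), (83, U6), (328, U7), (331, U8), (334, U9), (337, U10), (340, U11), (343, U12), (346, U13), (349, U14), (352, U15), (355, U16), (361, U17), (364, U18)] = true := by decide +kernel
theorem hclose4_0 : closeS ap9 400 t4 U4 [(55, U4), (62, U5), (83, U6), (328, U7), (331, U8), (334, U9), (337, U10), (340, U11), (343, U12), (346, U13), (349, U14), (352, U15), (355, U16), (361, U17), (364, U18)] = true := by decide +kernel
theorem hclose4_2 : closeS ap9 400 t6 U4 [(55, U4), (62, U5), (83, U6), (328, U7), (331, U8), (334, U9), (337, U10), (340, U11), (343, U12), (346, U13), (349, U14), (352, U15), (355, U16), (361, U17), (364, U18)] = true := by decide +kernel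
theorem hclose4_4 : closeS ap9 400 t8 U4 [(55, U4), (62, U5), (83, U6), (328, U7), (331, U8), (334, U9), (337, U10), (340, U11), (343, U12), (346, U13), (349, U14), (352, U15), (355, U16), (361, U17), (364, U18)] = true := by decide +kernel
theorem hclose4_6 : closeS ap9 400 t10 U4 [(55, U4), (62, U5), (83, U6), (328, U7), (331, U8), (334, U9), (337, U10), (340, U11), (343, U12), (346, U13), (349, U14), (352, U15), (355, U16), (361, U17), (364, U18)] = true := by decide +kernel
theorem hclose4_8 : closeS ap9 400 t12 U4 [(55, U4), (62, U5), (83, U6), (328, U7), (331, U8), (334, U9), (337, U10), (340, U11), (343, U12), (346, U13), (349, U14), (352, U15), (355, U16), (361, U17), (364, U18)] = true := by decide +kernel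
theorem hclose4_10 : closeS ap9 400 t14 U4 [(55, U4), (62, U5), (83, U6), (328, U7), (331, U8), (334, U9), (337, U10), (340, U11), (343, U12), (346, U13), (349, U14), (352, U15), (355, U16), (361, U17), (364, U18)] = true := by decide +kernel
theorem hclose4_12 : closeS ap9 400 t16 U4 [(55, U4), (62, U5), (83, U6), (328, U7), (331, U8), (334, U9), (337, U10), (340, U11), (343, U12), (346, U13), (349, U14), (352, U15), (355, U16), (361, U17), (364, U18)] = true := by decide +kernel
theorem hclose4_14 : closeS ap9 400 t18 U4 [(55, U4), (62, U5), (83, U6), (328, U7), (331, U8), (334, U9), (337, U10), (340, U11), (343, U12), (346, U13), (349, U14), (352, U15), (355, U16), (361, U17), (364, U18)] = true := by decide +kernel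
theorem hclose5_1 : closeS ap9 400 t6 U5 [(62, U5), (83, U6), (328, U7), (331, U8), (334, U9), (337, U10), (340, U11), (343, U12), (346, U13), (349, U14), (352, U15), (355, U16), (361, U17), (364, U18)] = true := by decide +kernel
theorem hclose5_3 : closeS ap9 400 t8 U5 [(62, U5), (83, U6), (328, U7), (331, U8), (334, U9), (337, U10), (340, U11), (343, U12), (346, U13), (349, U14), (352, U15), (355, U16), (361, U17), (364, U18)] = true := by decide +kernel
theorem hclose5_5 : closeS ap9 400 t10 U5 [(62, U5), (83, U6), (328, U7), (331, U8), (334, U9), (337, U10), (340, U11), (343, U12), (346, U13), (349, U14), (352, U15), (355, U16), (361, U17), (364, U18)] = true := by decide +kernel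
theorem hclose5_7 : closeS ap9 400 t12 U5 [(62, U5), (83, U6), (328, U7), (331, U8), (334, U9), (337, U10), (340, U11), (343, U12), (346, U13), (349, U14), (352, U15), (355, U16), (361, U17), (364, U18)] = true := by decide +kernel
theorem hclose5_9 : closeS ap9 400 t14 U5 [(62, U5), (83, U6), (328, U7), (331, U8), (334, U9), (337, U10), (340, U11), (343, U12), (346, U13), (349, U14), (352, U15), (355, U16), (361, U17), (364, U18)] = true := by decide +kernel
theorem hclose5_11 : closeS ap9 400 t16 U5 [(62, U5), (83, U6), (328, U7), (331, U8), (334, U9), (337, U10), (340, U11), (343, U12), (346, U13), (349, U14), (352, U15), (355, U16), (361, U17), (364, U18)] = true := by decide +kernel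
theorem hclose6_1 : closeS ap9 400 t7 U6 [(83, U6), (328, U7), (331, U8), (334, U9), (337, U10), (340, U11), (343, U12), (346, U13), (349, U14), (352, U15), (355, U16), (361, U17), (364, U18)] = true := by decide +kernel
theorem hclose6_3 : closeS ap9 400 t9 U6 [(83, U6), (328, U7), (331, U8), (334, U9), (337, U10), (340, U11), (343, U12), (346, U13), (349, U14), (352, U15), (355, U16), (361, U17), (364, U18)] = true := by decide +kernel
theorem hclose6_5 : closeS ap9 400 t11 U6 [(83, U6), (328, U7), (331, U8), (334, U9), (337, U10), (340, U11), (343, U12), (346, U13), (349, U14), (352, U15), (355, U16), (361, U17), (364, U18)] = true := by decide +kernel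
theorem hclose6_7 : closeS ap9 400 t13 U6 [(83, U6), (328, U7), (331, U8), (334, U9), (337, U10), (340, U11), (343, U12), (346, U13), (349, U14), (352, U15), (355, U16), (361, U17), (364, U18)] = true := by decide +kernel
theorem hclose6_9 : closeS ap9 400 t15 U6 [(83, U6), (328, U7), (331, U8), (334, U9), (337, U10), (340, U11), (343, U12), (346, U13), (349, U14), (352, U15), (355, U16), (361, U17), (364, U18)] = true := by decide +kernel
theorem hclose6_11 : closeS ap9 400 t17 U6 [(83, U6), (328, U7), (331, U8), (334, U9), (337, U10), (340, U11), (343, U12), (346, U13), (349, U14), (352, U15), (355, U16), (361, U17), (364, U18)] = true := by decide +kernel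
theorem hclose6_12 : closeS ap9 400 t18 U6 [(83, U6), (328, U7), (331, U8), (334, U9), (337, U10), (340, U11), (343, U12), (346, U13), (349, U14), (352, U15), (355, U16), (361, U17), (364, U18)] = true := by decide +kernel
theorem hclose7_1 : closeS ap9 400 t8 U7 [(328, U7), (331, U8), (334, U9), (337, U10), (340, U11), (343, U12), (346, U13), (349, U14), (352, U15), (355, U16), (361, U17), (364, U18)] = true := by decide +kernel
theorem hclose7_3 : closeS ap9 400 t10 U7 [(328, U7), (331, U8), (334, U9), (337, U10), (340, U11), (343, U12), (346, U13), (349, U14), (352, U15), (355, U16), (361, U17), (364, U18)] = true := by decide +kernel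
theorem hclose7_5 : closeS ap9 400 t12 U7 [(328, U7), (331, U8), (334, U9), (337, U10), (340, U11), (343, U12), (346, U13), (349, U14), (352, U15), (355, U16), (361, U17), (364, U18)] = true := by decide +kernel
theorem hclose7_7 : closeS ap9 400 t14 U7 [(328, U7), (331, U8), (334, U9), (337, U10), (340, U11), (343, U12), (346, U13), (349, U14), (352, U15), (355, U16), (361, U17), (364, U18)] = true := by decide +kernel
theorem hclose7_9 : closeS ap9 400 t16 U7 [(328, U7), (331, U8), (334, U9), (337, U10), (340, U11), (343, U12), (346, U13), (349, U14), (352, U15), (355, U16), (361, U17), (364, U18)] = true := by decide +kernel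
theorem hclose8_0 : closeS ap9 400 t8 U8 [(331, U8), (334, U9), (337, U10), (340, U11), (343, U12), (346, U13), (349, U14), (352, U15), (355, U16), (361, U17), (364, U18)] = true := by decide +kernel
theorem hclose8_2 : closeS ap9 400 t10 U8 [(331, U8), (334, U9), (337, U10), (340, U11), (343, U12), (346, U13), (349, U14), (352, U15), (355, U16), (361, U17), (364, U18)] = true := by decide +kernel
theorem hclose8_4 : closeS ap9 400 t12 U8 [(331, U8), (334, U9), (337, U10), (340, U11), (343, U12), (346, U13), (349, U14), (352, U15), (355, U16), (361, U17), (364, U18)] = true := by decide +kernel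
theorem hclose8_6 : closeS ap9 400 t14 U8 [(331, U8), (334, U9), (337, U10), (340, U11), (343, U12), (346, U13), (349, U14), (352, U15), (355, U16), (361, U17), (364, U18)] = true := by decide +kernel
theorem hclose8_8 : closeS ap9 400 t16 U8 [(331, U8), (334, U9), (337, U10), (340, U11), (343, U12), (346, U13), (349, U14), (352, U15), (355, U16), (361, U17), (364, U18)] = true := by decide +kernel
theorem hclose8_10 : closeS ap9 400 t18 U8 [(331, U8), (334, U9), (337, U10), (340, U11), (343, U12), (346, U13), (349, U14), (352, U15), (355, U16), (361, U17), (364, U18)] = true := by decide +kernel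
theorem hclose9_0 : closeS ap9 400 t9 U9 [(334, U9), (337, U10), (340, U11), (343, U12), (346, U13), (349, U14), (352, U15), (355, U16), (361, U17), (364, U18)] = true := by decide +kernel
theorem hclose9_2 : closeS ap9 400 t11 U9 [(334, U9), (337, U10), (340, U11), (343, U12), (346, U13), (349, U14), (352, U15), (355, U16), (361, U17), (364, U18)] = true := by decide +kernel
theorem hclose9_4 : closeS ap9 400 t13 U9 [(334, U9), (337, U10), (340, U11), (343, U12), (346, U13), (349, U14), (352, U15), (355, U16), (361, U17), (364, U18)] = true := by decide +kernel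
theorem hclose9_6 : closeS ap9 400 t15 U9 [(334, U9), (337, U10), (340, U11), (343, U12), (346, U13), (349, U14), (352, U15), (355, U16), (361, U17), (364, U18)] = true := by decide +kernel
theorem hclose9_8 : closeS ap9 400 t17 U9 [(334, U9), (337, U10), (340, U11), (343, U12), (346, U13), (349, U14), (352, U15), (355, U16), (361, U17), (364, U18)] = true := by decide +kernel
theorem hclose10_1 : closeS ap9 400 t11 U10 [(337, U10), (340, U11), (343, U12), (346, U13), (349, U14), (352, U15), (355, U16), (361, U17), (364, U18)] = true := by decide +kernel
theorem hclose10_3 : closeS ap9 400 t13 U10 [(337, U10), (340, U11), (343, U12), (346, U13), (349, U14), (352, U15), (355, U16), (361, U17), (364, U18)] = true := by decide +kernel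
theorem hclose10_5 : closeS ap9 400 t15 U10 [(337, U10), (340, U11), (343, U12), (346, U13), (349, U14), (352, U15), (355, U16), (361, U17), (364, U18)] = true := by decide +kernel
theorem hclose10_7 : closeS ap9 400 t17 U10 [(337, U10), (340, U11), (343, U12), (346, U13), (349, U14), (352, U15), (355, U16), (361, U17), (364, U18)] = true := by decide +kernel
theorem hclose11_1 : closeS ap9 400 t12 U11 [(340, U11), (343, U12), (346, U13), (349, U14), (352, U15), (355, U16), (361, U17), (364, U18)] = true := by decide +kernel
theorem hclose11_3 : closeS ap9 400 t14 U11 [(340, U11), (343, U12), (346, U13), (349, U14), (352, U15), (355, U16), (361, U17), (364, U18)] = true := by decide +kernel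
theorem hclose11_5 : closeS ap9 400 t16 U11 [(340, U11), (343, U12), (346, U13), (349, U14), (352, U15), (355, U16), (361, U17), (364, U18)] = true := by decide +kernel
theorem hclose11_7 : closeS ap9 400 t18 U11 [(340, U11), (343, U12), (346, U13), (349, U14), (352, U15), (355, U16), (361, U17), (364, U18)] = true := by decide +kernel
theorem hclose12_0 : closeS ap9 400 t12 U12 [(343, U12), (346, U13), (349, U14), (352, U15), (355, U16), (361, U17), (364, U18)] = true := by decide +kernel
theorem hclose12_2 : closeS ap9 400 t14 U12 [(343, U12), (346, U13), (349, U14), (352, U15), (355, U16), (361, U17), (364, U18)] = true := by decide +kernel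
theorem hclose12_4 : closeS ap9 400 t16 U12 [(343, U12), (346, U13), (349, U14), (352, U15), (355, U16), (361, U17), (364, U18)] = true := by decide +kernel
theorem hclose12_6 : closeS ap9 400 t18 U12 [(343, U12), (346, U13), (349, U14), (352, U15), (355, U16), (361, U17), (364, U18)] = true := by decide +kernel
theorem hclose13_0 : closeS ap9 400 t13 U13 [(346, U13), (349, U14), (352, U15), (355, U16), (361, U17), (364, U18)] = true := by decide +kernel
theorem hclose13_2 : closeS ap9 400 t15 U13 [(346, U13), (349, U14), (352, U15), (355, U16), (361, U17), (364, U18)] = true := by decide +kernel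
theorem hclose13_4 : closeS ap9 400 t17 U13 [(346, U13), (349, U14), (352, U15), (355, U16), (361, U17), (364, U18)] = true := by decide +kernel
theorem hclose14_1 : closeS ap9 400 t15 U14 [(349, U14), (352, U15), (355, U16), (361, U17), (364, U18)] = true := by decide +kernel
theorem hclose14_3 : closeS ap9 400 t17 U14 [(349, U14), (352, U15), (355, U16), (361, U17), (364, U18)] = true := by decide +kernel
theorem hclose15_1 : closeS ap9 400 t16 U15 [(352, U15), (355, U16), (361, U17), (364, U18)] = true := by decide +kernel
theorem hclose15_3 : closeS ap9 400 t18 U15 [(352, U15), (355, U16), (361, U17), (364, U18)] = true := by decide +kernel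
theorem hclose16_0 : closeS ap9 400 t16 U16 [(355, U16), (361, U17), (364, U18)] = true := by decide +kernel
theorem hclose16_2 : closeS ap9 400 t18 U16 [(355, U16), (361, U17), (364, U18)] = true := by decide +kernel
theorem hclose17_0 : closeS ap9 400 t17 U17 [(361, U17), (364, U18)] = true := by decide +kernel

end Cfsg.Agent.Lib.Helper7.MzP
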