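import Cfsg.Agent.Lib.Helper7.MzPTab

/-! Generated kernel checks (closure part 1) of the certificate (MzP). -/

set_option autoImplicit false
set_option maxRecDepth 1000000

namespace Cfsg.Agent.Lib.Helper7.MzP

open Cfsg.Agent.Lib.Helper7.Sims

theorem hclose1_0 : closeS ap9 400 t0 U1 [(0, U1), (2, U2), (48, U3), (55, U4), (62, U5), (83, U6), (328, U7), (331, U8), (334, U9), (337, U10), (340, U11), (343, U12), (346, U13), (349, U14), (352, U15), (355, U16), (361, U17), (364, U18)] = true := by decide +kernel
theorem hclose1_2 : closeS ap9 400 t2 U1 [(0, U1), (2, U2), (48, U3), (55, U4), (62, U5), (83, U6), (328, U7), (331, U8), (334, U9), (337, U10), (340, U11), (343, U12), (346, U13), (349, U14), (352, U15), (355, U16), (361, U17), (364, U18)] = true := by decide +kernel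
theorem hclose1_4 : closeS ap9 400 t4 U1 [(0, U1), (2, U2), (48, U3), (55, U4), (62, U5), (83, U6), (328, U7), (331, U8), (334, U9), (337, U10), (340, U11), (343, U12), (346, U13), (349, U14), (352, U15), (355, U16), (361, U17), (364, U18)] = true := by decide +kernel
theorem hclose1_6 : closeS ap9 400 t6 U1 [(0, U1), (2, U2), (48, U3), (55, U4), (62, U5), (83, U6), (328, U7), (331, U8), (334, U9), (337, U10), (340, U11), (343, U12), (346, U13), (349, U14), (352, U15), (355, U16), (361, U17), (364, U18)] = true := by decide +kernel
theorem hclose1_8 : closeS ap9 400 t8 U1 [(0, U1), (2, U2), (48, U3), (55, U4), (62, U5), (83, U6), (328, U7), (331, U8), (334, U9), (337, U10), (340, U11), (343, U12), (346, U13), (349, U14), (352, U15), (355, U16), (361, U17), (364, U18)] = true := by decide +kernel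
theorem hclose1_10 : closeS ap9 400 t10 U1 [(0, U1), (2, U2), (48, U3), (55, U4), (62, U5), (83, U6), (328, U7), (331, U8), (334, U9), (337, U10), (340, U11), (343, U12), (346, U13), (349, U14), (352, U15), (355, U16), (361, U17), (364, U18)] = true := by decide +kernel
theorem hclose1_12 : closeS ap9 400 t12 U1 [(0, U1), (2, U2), (48, U3), (55, U4), (62, U5), (83, U6), (328, U7), (331, U8), (334, U9), (337, U10), (340, U11), (343, U12), (346, U13), (349, U14), (352, U15), (355, U16), (361, U17), (364, U18)] = true := by decide +kernel
theorem hclose1_14 : closeS ap9 400 t14 U1 [(0, U1), (2, U2), (48, U3), (55, U4), (62, U5), (83, U6), (328, U7), (331, U8), (334, U9), (337, U10), (340, U11), (343, U12), (346, U13), (349, U14), (352, U15), (355, U16), (361, U17), (364, U18)] = true := by decide +kernel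
theorem hclose1_16 : closeS ap9 400 t16 U1 [(0, U1), (2, U2), (48, U3), (55, U4), (62, U5), (83, U6), (328, U7), (331, U8), (334, U9), (337, U10), (340, U11), (343, U12), (346, U13), (349, U14), (352, U15), (355, U16), (361, U17), (364, U18)] = true := by decide +kernel
theorem hclose1_18 : closeS ap9 400 t18 U1 [(0, U1), (2, U2), (48, U3), (55, U4), (62, U5), (83, U6), (328, U7), (331, U8), (334, U9), (337, U10), (340, U11), (343, U12), (346, U13), (349, U14), (352, U15), (355, U16), (361, U17), (364, U18)] = true := by decide +kernel
theorem hclose2_1 : closeS ap9 400 t3 U2 [(2, U2), (48, U3), (55, U4), (62, U5), (83, U6), (328, U7), (331, U8), (334, U9), (337, U10), (340, U11), (343, U12), (346, U13), (349, U14), (352, U15), (355, U16), (361, U17), (364, U18)] = true := by decide +kernel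
theorem hclose2_3 : closeS ap9 400 t5 U2 [(2, U2), (48, U3), (55, U4), (62, U5), (83, U6), (328, U7), (331, U8), (334, U9), (337, U10), (340, U11), (343, U12), (346, U13), (349, U14), (352, U15), (355, U16), (361, U17), (364, U18)] = true := by decide +kernel
theorem hclose2_5 : closeS ap9 400 t7 U2 [(2, U2), (48, U3), (55, U4), (62, U5), (83, U6), (328, U7), (331, U8), (334, U9), (337, U10), (340, U11), (343, U12), (346, U13), (349, U14), (352, U15), (355, U16), (361, U17), (364, U18)] = true := by decide +kernel
theorem hclose2_7 : closeS ap9 400 t9 U2 [(2, U2), (48, U3), (55, U4), (62, U5), (83, U6), (328, U7), (331, U8), (334, U9), (337, U10), (340, U11), (343, U12), (346, U13), (349, U14), (352, U15), (355, U16), (361, U17), (364, U18)] = true := by decide +kernel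
theorem hclose2_9 : closeS ap9 400 t11 U2 [(2, U2), (48, U3), (55, U4), (62, U5), (83, U6), (328, U7), (331, U8), (334, U9), (337, U10), (340, U11), (343, U12), (346, U13), (349, U14), (352, U15), (355, U16), (361, U17), (364, U18)] = true := by decide +kernel
theorem hclose2_11 : closeS ap9 400 t13 U2 [(2, U2), (48, U3), (55, U4), (62, U5), (83, U6), (328, U7), (331, U8), (334, U9), (337, U10), (340, U11), (343, U12), (346, U13), (349, U14), (352, U15), (355, U16), (361, U17), (364, U18)] = true := by decide +kernel
theorem hclose2_13 : closeS ap9 400 t15 U2 [(2, U2), (48, U3), (55, U4), (62, U5), (83, U6), (328, U7), (331, U8), (334, U9), (337, U10), (340, U11), (343, U12), (346, U13), (349, U14), (352, U15), (355, U16), (361, U17), (364, U18)] = true := by decide +kernel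
theorem hclose2_15 : closeS ap9 400 t17 U2 [(2, U2), (48, U3), (55, U4), (62, U5), (83, U6), (328, U7), (331, U8), (334, U9), (337, U10), (340, U11), (343, U12), (346, U13), (349, U14), (352, U15), (355, U16), (361, U17), (364, U18)] = true := by decide +kernel
theorem hclose3_0 : closeS ap9 400 t3 U3 [(48, U3), (55, U4), (62, U5), (83, U6), (328, U7), (331, U8), (334, U9), (337, U10), (340, U11), (343, U12), (346, U13), (349, U14), (352, U15), (355, U16), (361, U17), (364, U18)] = true := by decide +kernel
theorem hclose3_2 : closeS ap9 400 t5 U3 [(48, U3), (55, U4), (62, U5), (83, U6), (328, U7), (331, U8), (334, U9), (337, U10), (340, U11), (343, U12), (346, U13), (349, U14), (352, U15), (355, U16), (361, U17), (364, U18)] = true := by decide +kernel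
theorem hclose3_4 : closeS ap9 400 t7 U3 [(48, U3), (55, U4), (62, U5), (83, U6), (328, U7), (331, U8), (334, U9), (337, U10), (340, U11), (343, U12), (346, U13), (349, U14), (352, U15), (355, U16), (361, U17), (364, U18)] = true := by decide +kernel
theorem hclose3_6 : closeS ap9 400 t9 U3 [(48, U3), (55, U4), (62, U5), (83, U6), (328, U7), (331, U8), (334, U9), (337, U10), (340, U11), (343, U12), (346, U13), (349, U14), (352, U15), (355, U16), (361, U17), (364, U18)] = true := by decide +kernel
theorem hclose3_8 : closeS ap9 400 t11 U3 [(48, U3), (55, U4), (62, U5), (83, U6), (328, U7), (331, U8), (334, U9), (337, U10), (340, U11), (343, U12), (346, U13), (349, U14), (352, U15), (355, U16), (361, U17), (364, U18)] = true := by decide +kernel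
theorem hclose3_10 : closeS ap9 400 t13 U3 [(48, U3), (55, U4), (62, U5), (83, U6), (328, U7), (331, U8), (334, U9), (337, U10), (340, U11), (343, U12), (346, U13), (349, U14), (352, U15), (355, U16), (361, U17), (364, U18)] = true := by decide +kernel
theorem hclose3_12 : closeS ap9 400 t15 U3 [(48, U3), (55, U4), (62, U5), (83, U6), (328, U7), (331, U8), (334, U9), (337, U10), (340, U11), (343, U12), (346, U13), (349, U14), (352, U15), (355, U16), (361, U17), (364, U18)] = true := by decide +kernel
theorem hclose3_14 : closeS ap9 400 t17 U3 [(48, U3), (55, U4), (62, U5), (83, U6), (328, U7), (331, U8), (334, U9), (337, U10), (340, U11), (343, U12), (346, U13), (349, U14), (352, U15), (355, U16), (361, U17), (364, U18)] = true := by decide +kernel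
theorem hclose4_1 : closeS ap9 400 t5 U4 [(55, U4), (62, U5), (83, U6), (328, U7), (331, U8), (334, U9), (337, U10), (340, U11), (343, U12), (346, U13), (349, U14), (352, U15), (355, U16), (361, U17), (364, U18)] = true := by decide +kernel
theorem hclose4_3 : closeS ap9 400 t7 U4 [(55, U4), (62, U5), (83, U6), (328, U7), (331, U8), (334, U9), (337, U10), (340, U11), (343, U12), (346, U13), (349, U14), (352, U15), (355, U16), (361, U17), (364, U18)] = true := by decide +kernel
theorem hclose4_5 : closeS ap9 400 t9 U4 [(55, U4), (62, U5), (83, U6), (328, U7), (331, U8), (334, U9), (337, U10), (340, U11), (343, U12), (346, U13), (349, U14), (352, U15), (355, U16), (361, U17), (364, U18)] = true := by decide +kernel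
theorem hclose4_7 : closeS ap9 400 t11 U4 [(55, U4), (62, U5), (83, U6), (328, U7), (331, U8), (334, U9), (337, U10), (340, U11), (343, U12), (346, U13), (349, U14), (352, U15), (355, U16), (361, U17), (364, U18)] = true := by decide +kernel
theorem hclose4_9 : closeS ap9 400 t13 U4 [(55, U4), (62, U5), (83, U6), (328, U7), (331, U8), (334, U9), (337, U10), (340, U11), (343, U12), (346, U13), (349, U14), (352, U15), (355, U16), (361, U17), (364, U18)] = true := by decide +kernel
theorem hclose4_11 : closeS ap9 400 t15 U4 [(55, U4), (62, U5), (83, U6), (328, U7), (331, U8), (334, U9), (337, U10), (340, U11), (343, U12), (346, U13), (349, U14), (352, U15), (355, U16), (361, U17), (364, U18)] = true := by decide +kernel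
theorem hclose4_13 : closeS ap9 400 t17 U4 [(55, U4), (62, U5), (83, U6), (328, U7), (331, U8), (334, U9), (337, U10), (340, U11), (343, U12), (346, U13), (349, U14), (352, U15), (355, U16), (361, U17), (364, U18)] = true := by decide +kernel
theorem hclose5_0 : closeS ap9 400 t5 U5 [(62, U5), (83, U6), (328, U7), (331, U8), (334, U9), (337, U10), (340, U11), (343, U12), (346, U13), (349, U14), (352, U15), (355, U16), (361, U17), (364, U18)] = true := by decide +kernel
theorem hclose5_2 : closeS ap9 400 t7 U5 [(62, U5), (83, U6), (328, U7), (331, U8), (334, U9), (337, U10), (340, U11), (343, U12), (346, U13), (349, U14), (352, U15), (355, U16), (361, U17), (364, U18)] = true := by decide +kernel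
theorem hclose5_4 : closeS ap9 400 t9 U5 [(62, U5), (83, U6), (328, U7), (331, U8), (334, U9), (337, U10), (340, U11), (343, U12), (346, U13), (349, U14), (352, U15), (355, U16), (361, U17), (364, U18)] = true := by decide +kernel
theorem hclose5_6 : closeS ap9 400 t11 U5 [(62, U5), (83, U6), (328, U7), (331, U8), (334, U9), (337, U10), (340, U11), (343, U12), (346, U13), (349, U14), (352, U15), (355, U16), (361, U17), (364, U18)] = true := by decide +kernel
theorem hclose5_8 : closeS ap9 400 t13 U5 [(62, U5), (83, U6), (328, U7), (331, U8), (334, U9), (337, U10), (340, U11), (343, U12), (346, U13), (349, U14), (352, U15), (355, U16), (361, U17), (364, U18)] = true := by decide +kernel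
theorem hclose5_10 : closeS ap9 400 t15 U5 [(62, U5), (83, U6), (328, U7), (331, U8), (334, U9), (337, U10), (340, U11), (343, U12), (346, U13), (349, U14), (352, U15), (355, U16), (361, U17), (364, U18)] = true := by decide +kernel
theorem hclose5_12 : closeS ap9 400 t17 U5 [(62, U5), (83, U6), (328, U7), (331, U8), (334, U9), (337, U10), (340, U11), (343, U12), (346, U13), (349, U14), (352, U15), (355, U16), (361, U17), (364, U18)] = true := by decide +kernel
theorem hclose5_13 : closeS ap9 400 t18 U5 [(62, U5), (83, U6), (328, U7), (331, U8), (334, U9), (337, U10), (340, U11), (343, U12), (346, U13), (349, U14), (352, U15), (355, U16), (361, U17), (364, U18)] = true := by decide +kernel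
theorem hclose6_0 : closeS ap9 400 t6 U6 [(83, U6), (328, U7), (331, U8), (334, U9), (337, U10), (340, U11), (343, U12), (346, U13), (349, U14), (352, U15), (355, U16), (361, U17), (364, U18)] = true := by decide +kernel
theorem hclose6_2 : closeS ap9 400 t8 U6 [(83, U6), (328, U7), (331, U8), (334, U9), (337, U10), (340, U11), (343, U12), (346, U13), (349, U14), (352, U15), (355, U16), (361, U17), (364, U18)] = true := by decide +kernel
theorem hclose6_4 : closeS ap9 400 t10 U6 [(83, U6), (328, U7), (331, U8), (334, U9), (337, U10), (340, U11), (343, U12), (346, U13), (349, U14), (352, U15), (355, U16), (361, U17), (364, U18)] = true := by decide +kernel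
theorem hclose6_6 : closeS ap9 400 t12 U6 [(83, U6), (328, U7), (331, U8), (334, U9), (337, U10), (340, U11), (343, U12), (346, U13), (349, U14), (352, U15), (355, U16), (361, U17), (364, U18)] = true := by decide +kernel
theorem hclose6_8 : closeS ap9 400 t14 U6 [(83, U6), (328, U7), (331, U8), (334, U9), (337, U10), (340, U11), (343, U12), (346, U13), (349, U14), (352, U15), (355, U16), (361, U17), (364, U18)] = true := by decide +kernel
theorem hclose6_10 : closeS ap9 400 t16 U6 [(83, U6), (328, U7), (331, U8), (334, U9), (337, U10), (340, U11), (343, U12), (346, U13), (349, U14), (352, U15), (355, U16), (361, U17), (364, U18)] = true := by decide +kernel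
theorem hclose7_0 : closeS ap9 400 t7 U7 [(328, U7), (331, U8), (334, U9), (337, U10), (340, U11), (343, U12), (346, U13), (349, U14), (352, U15), (355, U16), (361, U17), (364, U18)] = true := by decide +kernel
theorem hclose7_2 : closeS ap9 400 t9 U7 [(328, U7), (331, U8), (334, U9), (337, U10), (340, U11), (343, U12), (346, U13), (349, U14), (352, U15), (355, U16), (361, U17), (364, U18)] = true := by decide +kernel
theorem hclose7_4 : closeS ap9 400 t11 U7 [(328, U7), (331, U8), (334, U9), (337, U10), (340, U11), (343, U12), (346, U13), (349, U14), (352, U15), (355, U16), (361, U17), (364, U18)] = true := by decide +kernel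
theorem hclose7_6 : closeS ap9 400 t13 U7 [(328, U7), (331, U8), (334, U9), (337, U10), (340, U11), (343, U12), (346, U13), (349, U14), (352, U15), (355, U16), (361, U17), (364, U18)] = true := by decide +kernel
theorem hclose7_8 : closeS ap9 400 t15 U7 [(328, U7), (331, U8), (334, U9), (337, U10), (340, U11), (343, U12), (346, U13), (349, U14), (352, U15), (355, U16), (361, U17), (364, U18)] = true := by decide +kernel
theorem hclose7_10 : closeS ap9 400 t17 U7 [(328, U7), (331, U8), (334, U9), (337, U10), (340, U11), (343, U12), (346, U13), (349, U14), (352, U15), (355, U16), (361, U17), (364, U18)] = true := by decide +kernel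
theorem hclose7_11 : closeS ap9 400 t18 U7 [(328, U7), (331, U8), (334, U9), (337, U10), (340, U11), (343, U12), (346, U13), (349, U14), (352, U15), (355, U16), (361, U17), (364, U18)] = true := by decide +kernel
theorem hclose8_1 : closeS ap9 400 t9 U8 [(331, U8), (334, U9), (337, U10), (340, U11), (343, U12), (346, U13), (349, U14), (352, U15), (355, U16), (361, U17), (364, U18)] = true := by decide +kernel
theorem hclose8_3 : closeS ap9 400 t11 U8 [(331, U8), (334, U9), (337, U10), (340, U11), (343, U12), (346, U13), (349, U14), (352, U15), (355, U16), (361, U17), (364, U18)] = true := by decide +kernel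
theorem hclose8_5 : closeS ap9 400 t13 U8 [(331, U8), (334, U9), (337, U10), (340, U11), (343, U12), (346, U13), (349, U14), (352, U15), (355, U16), (361, U17), (364, U18)] = true := by decide +kernel
theorem hclose8_7 : closeS ap9 400 t15 U8 [(331, U8), (334, U9), (337, U10), (340, U11), (343, U12), (346, U13), (349, U14), (352, U15), (355, U16), (361, U17), (364, U18)] = true := by decide +kernel
theorem hclose8_9 : closeS ap9 400 t17 U8 [(331, U8), (334, U9), (337, U10), (340, U11), (343, U12), (346, U13), (349, U14), (352, U15), (355, U16), (361, U17), (364, U18)] = true := by decide +kernel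
theorem hclose9_1 : closeS ap9 400 t10 U9 [(334, U9), (337, U10), (340, U11), (343, U12), (346, U13), (349, U14), (352, U15), (355, U16), (361, U17), (364, U18)] = true := by decide +kernel
theorem hclose9_3 : closeS ap9 400 t12 U9 [(334, U9), (337, U10), (340, U11), (343, U12), (346, U13), (349, U14), (352, U15), (355, U16), (361, U17), (364, U18)] = true := by decide +kernel
theorem hclose9_5 : closeS ap9 400 t14 U9 [(334, U9), (337, U10), (340, U11), (343, U12), (346, U13), (349, U14), (352, U15), (355, U16), (361, U17), (364, U18)] = true := by decide +kernel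
theorem hclose9_7 : closeS ap9 400 t16 U9 [(334, U9), (337, U10), (340, U11), (343, U12), (346, U13), (349, U14), (352, U15), (355, U16), (361, U17), (364, U18)] = true := by decide +kernel
theorem hclose9_9 : closeS ap9 400 t18 U9 [(334, U9), (337, U10), (340, U11), (343, U12), (346, U13), (349, U14), (352, U15), (355, U16), (361, U17), (364, U18)] = true := by decide +kernel
theorem hclose10_0 : closeS ap9 400 t10 U10 [(337, U10), (340, U11), (343, U12), (346, U13), (349, U14), (352, U15), (355, U16), (361, U17), (364, U18)] = true := by decide +kernel
theorem hclose10_2 : closeS ap9 400 t12 U10 [(337, U10), (340, U11), (343, U12), (346, U13), (349, U14), (352, U15), (355, U16), (361, U17), (364, U18)] = true := by decide +kernel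
theorem hclose10_4 : closeS ap9 400 t14 U10 [(337, U10), (340, U11), (343, U12), (346, U13), (349, U14), (352, U15), (355, U16), (361, U17), (364, U18)] = true := by decide +kernel
theorem hclose10_6 : closeS ap9 400 t16 U10 [(337, U10), (340, U11), (343, U12), (346, U13), (349, U14), (352, U15), (355, U16), (361, U17), (364, U18)] = true := by decide +kernel
theorem hclose10_8 : closeS ap9 400 t18 U10 [(337, U10), (340, U11), (343, U12), (346, U13), (349, U14), (352, U15), (355, U16), (361, U17), (364, U18)] = true := by decide +kernel
theorem hclose11_0 : closeS ap9 400 t11 U11 [(340, U11), (343, U12), (346, U13), (349, U14), (352, U15), (355, U16), (361, U17), (364, U18)] = true := by decide +kernel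
theorem hclose11_2 : closeS ap9 400 t13 U11 [(340, U11), (343, U12), (346, U13), (349, U14), (352, U15), (355, U16), (361, U17), (364, U18)] = true := by decide +kernel
theorem hclose11_4 : closeS ap9 400 t15 U11 [(340, U11), (343, U12), (346, U13), (349, U14), (352, U15), (355, U16), (361, U17), (364, U18)] = true := by decide +kernel
theorem hclose11_6 : closeS ap9 400 t17 U11 [(340, U11), (343, U12), (346, U13), (349, U14), (352, U15), (355, U16), (361, U17), (364, U18)] = true := by decide +kernel
theorem hclose12_1 : closeS ap9 400 t13 U12 [(343, U12), (346, U13), (349, U14), (352, U15), (355, U16), (361, U17), (364, U18)] = true := by decide +kernel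
theorem hclose12_3 : closeS ap9 400 t15 U12 [(343, U12), (346, U13), (349, U14), (352, U15), (355, U16), (361, U17), (364, U18)] = true := by decide +kernel
theorem hclose12_5 : closeS ap9 400 t17 U12 [(343, U12), (346, U13), (349, U14), (352, U15), (355, U16), (361, U17), (364, U18)] = true := by decide +kernel
theorem hclose13_1 : closeS ap9 400 t14 U13 [(346, U13), (349, U14), (352, U15), (355, U16), (361, U17), (364, U18)] = true := by decide +kernel
theorem hclose13_3 : closeS ap9 400 t16 U13 [(346, U13), (349, U14), (352, U15), (355, U16), (361, U17), (364, U18)] = true := by decide +kernel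
theorem hclose13_5 : closeS ap9 400 t18 U13 [(346, U13), (349, U14), (352, U15), (355, U16), (361, U17), (364, U18)] = true := by decide +kernel
theorem hclose14_0 : closeS ap9 400 t14 U14 [(349, U14), (352, U15), (355, U16), (361, U17), (364, U18)] = true := by decide +kernel
theorem hclose14_2 : closeS ap9 400 t16 U14 [(349, U14), (352, U15), (355, U16), (361, U17), (364, U18)] = true := by decide +kernel
theorem hclose14_4 : closeS ap9 400 t18 U14 [(349, U14), (352, U15), (355, U16), (361, U17), (364, U18)] = true := by decide +kernel
theorem hclose15_0 : closeS ap9 400 t15 U15 [(352, U15), (355, U16), (361, U17), (364, U18)] = true := by decide +kernel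
theorem hclose15_2 : closeS ap9 400 t17 U15 [(352, U15), (355, U16), (361, U17), (364, U18)] = true := by decide +kernel
theorem hclose16_1 : closeS ap9 400 t17 U16 [(355, U16), (361, U17), (364, U18)] = true := by decide +kernel
theorem hclose17_1 : closeS ap9 400 t18 U17 [(361, U17), (364, U18)] = true := by decide +kernel
theorem hclose18_0 : closeS ap9 400 t18 U18 [(364, U18)] = true := by decide +kernel
theorem hVclose1_0 : closeS ap9 400 t3 U3 [(48, U3), (55, U4), (62, U5), (83, U6)] = true := by decide +kernel
theorem hVclose1_1 : closeS ap9 400 t4 U3 [(48, U3), (55, U4), (62, U5), (83, U6)] = true := by decide +kernel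
theorem hVclose1_2 : closeS ap9 400 t5 U3 [(48, U3), (55, U4), (62, U5), (83, U6)] = true := by decide +kernel
theorem hVclose1_3 : closeS ap9 400 t6 U3 [(48, U3), (55, U4), (62, U5), (83, U6)] = true := by decide +kernel
theorem hVclose2_0 : closeS ap9 400 t4 U4 [(55, U4), (62, U5), (83, U6)] = true := by decide +kernel
theorem hVclose2_1 : closeS ap9 400 t5 U4 [(55, U4), (62, U5), (83, U6)] = true := by decide +kernel
theorem hVclose2_2 : closeS ap9 400 t6 U4 [(55, U4), (62, U5), (83, U6)] = true := by decide +kernel
theorem hVclose3_0 : closeS ap9 400 t5 U5 [(62, U5), (83, U6)] = true := by decide +kernel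
theorem hVclose3_1 : closeS ap9 400 t6 U5 [(62, U5), (83, U6)] = true := by decide +kernel
theorem hVclose4_0 : closeS ap9 400 t6 U6 [(83, U6)] = true := by decide +kernel

end Cfsg.Agent.Lib.Helper7.MzP
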