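import Cfsg.Agent.Lib.Helper7.MzPChkA
import Cfsg.Agent.Lib.Helper7.MzPChkC0
import Cfsg.Agent.Lib.Helper7.MzPChkC1
import Cfsg.Agent.Lib.Helper7.MzPChkV
import Cfsg.Agent.Lib.Helper7.MzPChkX

/-! Assembly of the certificate (MzP): order and element orders of the group. -/

set_option autoImplicit false
set_option maxRecDepth 1000000

namespace Cfsg.Agent.Lib.Helper7.MzP

open Cfsg.Agent.Lib.Helper7.Sims

set_option maxHeartbeats 400000

open Equiv

theorem hclose1 : Sn1.all (fun s => closeS ap9 400 s U1 [(0, U1), (2, U2), (48, U3), (55, U4), (62, U5), (83, U6), (328, U7), (331, U8), (334, U9), (337, U10), (340, U11), (343, U12), (346, U13), (349, U14), (352, U15), (355, U16), (361, U17), (364, U18)]) = true := by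
  simp only [Sn1, List.all_cons, List.all_nil, Bool.and_self, hclose1_0, hclose1_1, hclose1_2, hclose1_3, hclose1_4, hclose1_5, hclose1_6, hclose1_7, hclose1_8, hclose1_9, hclose1_10, hclose1_11, hclose1_12, hclose1_13, hclose1_14, hclose1_15, hclose1_16, hclose1_17, hclose1_18, hclose1_19]
theorem hclose2 : Sn2.all (fun s => closeS ap9 400 s U2 [(2, U2), (48, U3), (55, U4), (62, U5), (83, U6), (328, U7), (331, U8), (334, U9), (337, U10), (340, U11), (343, U12), (346, U13), (349, U14), (352, U15), (355, U16), (361, U17), (364, U18)]) = true := by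
  simp only [Sn2, List.all_cons, List.all_nil, Bool.and_self, hclose2_0, hclose2_1, hclose2_2, hclose2_3, hclose2_4, hclose2_5, hclose2_6, hclose2_7, hclose2_8, hclose2_9, hclose2_10, hclose2_11, hclose2_12, hclose2_13, hclose2_14, hclose2_15, hclose2_16]
theorem hclose3 : Sn3.all (fun s => closeS ap9 400 s U3 [(48, U3), (55, U4), (62, U5), (83, U6), (328, U7), (331, U8), (334, U9), (337, U10), (340, U11), (343, U12), (346, U13), (349, U14), (352, U15), (355, U16), (361, U17), (364, U18)]) = true := by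
  simp only [Sn3, List.all_cons, List.all_nil, Bool.and_self, hclose3_0, hclose3_1, hclose3_2, hclose3_3, hclose3_4, hclose3_5, hclose3_6, hclose3_7, hclose3_8, hclose3_9, hclose3_10, hclose3_11, hclose3_12, hclose3_13, hclose3_14, hclose3_15]
theorem hclose4 : Sn4.all (fun s => closeS ap9 400 s U4 [(55, U4), (62, U5), (83, U6), (328, U7), (331, U8), (334, U9), (337, U10), (340, U11), (343, U12), (346, U13), (349, U14), (352, U15), (355, U16), (361, U17), (364, U18)]) = true := by
  simp only [Sn4, List.all_cons, List.all_nil, Bool.and_self, hclose4_0, hclose4_1, hclose4_2, hclose4_3, hclose4_4, hclose4_5, hclose4_6, hclose4_7, hclose4_8, hclose4_9, hclose4_10, hclose4_11, hclose4_12, hclose4_13, hclose4_14]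
theorem hclose5 : Sn5.all (fun s => closeS ap9 400 s U5 [(62, U5), (83, U6), (328, U7), (331, U8), (334, U9), (337, U10), (340, U11), (343, U12), (346, U13), (349, U14), (352, U15), (355, U16), (361, U17), (364, U18)]) = true := by
  simp only [Sn5, List.all_cons, List.all_nil, Bool.and_self, hclose5_0, hclose5_1, hclose5_2, hclose5_3, hclose5_4, hclose5_5, hclose5_6, hclose5_7, hclose5_8, hclose5_9, hclose5_10, hclose5_11, hclose5_12, hclose5_13]
theorem hclose6 : Sn6.all (fun s => closeS ap9 400 s U6 [(83, U6), (328, U7), (331, U8), (334, U9), (337, U10), (340, U11), (343, U12), (346, U13), (349, U14), (352, U15), (355, U16), (361, U17), (364, U18)]) = true := by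
  simp only [Sn6, List.all_cons, List.all_nil, Bool.and_self, hclose6_0, hclose6_1, hclose6_2, hclose6_3, hclose6_4, hclose6_5, hclose6_6, hclose6_7, hclose6_8, hclose6_9, hclose6_10, hclose6_11, hclose6_12]
theorem hclose7 : Sn7.all (fun s => closeS ap9 400 s U7 [(328, U7), (331, U8), (334, U9), (337, U10), (340, U11), (343, U12), (346, U13), (349, U14), (352, U15), (355, U16), (361, U17), (364, U18)]) = true := by
  simp only [Sn7, List.all_cons, List.all_nil, Bool.and_self, hclose7_0, hclose7_1, hclose7_2, hclose7_3, hclose7_4, hclose7_5, hclose7_6, hclose7_7, hclose7_8, hclose7_9, hclose7_10, hclose7_11]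
theorem hclose8 : Sn8.all (fun s => closeS ap9 400 s U8 [(331, U8), (334, U9), (337, U10), (340, U11), (343, U12), (346, U13), (349, U14), (352, U15), (355, U16), (361, U17), (364, U18)]) = true := by
  simp only [Sn8, List.all_cons, List.all_nil, Bool.and_self, hclose8_0, hclose8_1, hclose8_2, hclose8_3, hclose8_4, hclose8_5, hclose8_6, hclose8_7, hclose8_8, hclose8_9, hclose8_10]
theorem hclose9 : Sn9.all (fun s => closeS ap9 400 s U9 [(334, U9), (337, U10), (340, U11), (343, U12), (346, U13), (349, U14), (352, U15), (355, U16), (361, U17), (364, U18)]) = true := by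
  simp only [Sn9, List.all_cons, List.all_nil, Bool.and_self, hclose9_0, hclose9_1, hclose9_2, hclose9_3, hclose9_4, hclose9_5, hclose9_6, hclose9_7, hclose9_8, hclose9_9]
theorem hclose10 : Sn10.all (fun s => closeS ap9 400 s U10 [(337, U10), (340, U11), (343, U12), (346, U13), (349, U14), (352, U15), (355, U16), (361, U17), (364, U18)]) = true := by
  simp only [Sn10, List.all_cons, List.all_nil, Bool.and_self, hclose10_0, hclose10_1, hclose10_2, hclose10_3, hclose10_4, hclose10_5, hclose10_6, hclose10_7, hclose10_8]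
theorem hclose11 : Sn11.all (fun s => closeS ap9 400 s U11 [(340, U11), (343, U12), (346, U13), (349, U14), (352, U15), (355, U16), (361, U17), (364, U18)]) = true := by
  simp only [Sn11, List.all_cons, List.all_nil, Bool.and_self, hclose11_0, hclose11_1, hclose11_2, hclose11_3, hclose11_4, hclose11_5, hclose11_6, hclose11_7]
theorem hclose12 : Sn12.all (fun s => closeS ap9 400 s U12 [(343, U12), (346, U13), (349, U14), (352, U15), (355, U16), (361, U17), (364, U18)]) = true := by
  simp only [Sn12, List.all_cons, List.all_nil, Bool.and_self, hclose12_0, hclose12_1, hclose12_2, hclose12_3, hclose12_4, hclose12_5, hclose12_6]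
theorem hclose13 : Sn13.all (fun s => closeS ap9 400 s U13 [(346, U13), (349, U14), (352, U15), (355, U16), (361, U17), (364, U18)]) = true := by
  simp only [Sn13, List.all_cons, List.all_nil, Bool.and_self, hclose13_0, hclose13_1, hclose13_2, hclose13_3, hclose13_4, hclose13_5]
theorem hclose14 : Sn14.all (fun s => closeS ap9 400 s U14 [(349, U14), (352, U15), (355, U16), (361, U17), (364, U18)]) = true := by
  simp only [Sn14, List.all_cons, List.all_nil, Bool.and_self, hclose14_0, hclose14_1, hclose14_2, hclose14_3, hclose14_4]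
theorem hclose15 : Sn15.all (fun s => closeS ap9 400 s U15 [(352, U15), (355, U16), (361, U17), (364, U18)]) = true := by
  simp only [Sn15, List.all_cons, List.all_nil, Bool.and_self, hclose15_0, hclose15_1, hclose15_2, hclose15_3]
theorem hclose16 : Sn16.all (fun s => closeS ap9 400 s U16 [(355, U16), (361, U17), (364, U18)]) = true := by
  simp only [Sn16, List.all_cons, List.all_nil, Bool.and_self, hclose16_0, hclose16_1, hclose16_2]
theorem hclose17 : Sn17.all (fun s => closeS ap9 400 s U17 [(361, U17), (364, U18)]) = true := by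
  simp only [Sn17, List.all_cons, List.all_nil, Bool.and_self, hclose17_0, hclose17_1]
theorem hclose18 : Sn18.all (fun s => closeS ap9 400 s U18 [(364, U18)]) = true := by
  simp only [Sn18, List.all_cons, List.all_nil, Bool.and_self, hclose18_0]
theorem hVclose1 : SV1.all (fun s => closeS ap9 400 s U3 [(48, U3), (55, U4), (62, U5), (83, U6)]) = true := by
  simp only [SV1, List.all_cons, List.all_nil, Bool.and_self, hVclose1_0, hVclose1_1, hVclose1_2, hVclose1_3]
theorem hVclose2 : SV2.all (fun s => closeS ap9 400 s U4 [(55, U4), (62, U5), (83, U6)]) = true := by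
  simp only [SV2, List.all_cons, List.all_nil, Bool.and_self, hVclose2_0, hVclose2_1, hVclose2_2]
theorem hVclose3 : SV3.all (fun s => closeS ap9 400 s U5 [(62, U5), (83, U6)]) = true := by
  simp only [SV3, List.all_cons, List.all_nil, Bool.and_self, hVclose3_0, hVclose3_1]
theorem hVclose4 : SV4.all (fun s => closeS ap9 400 s U6 [(83, U6)]) = true := by
  simp only [SV4, List.all_cons, List.all_nil, Bool.and_self, hVclose4_0]

theorem lvOK : LvOK ap9 400 Lvs :=
  ⟨htree1, hclose1, hid1, hnest1, ⟨htree2, hclose2, hid2, hnest2, ⟨htree3, hclose3, hid3, hnest3, ⟨htree4, hclose4, hid4, hnest4, ⟨htree5, hclose5, hid5, hnest5, ⟨htree6, hclose6, hid6, hnest6, ⟨htree7, hclose7, hid7, hnest7, ⟨htree8, hclose8, hid8, hnest8, ⟨htree9, hclose9, hid9, hnest9, ⟨htree10, hclose10, hid10, hnest10, ⟨htree11, hclose11, hid11, hnest11, ⟨htree12, hclose12, hid12, hnest12, ⟨htree13, hclose13, hid13, hnest13, ⟨htree14, hclose14, hid14, hnest14, ⟨htree15, hclose15, hid15, hnest15, ⟨htree16, hclose16,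 hid16, hnest16, ⟨htree17, hclose17, hid17, hnest17, ⟨htree18, hclose18, hid18, rfl, trivial⟩⟩⟩⟩⟩⟩⟩⟩⟩⟩⟩⟩⟩⟩⟩⟩⟩⟩

theorem baseOK : BaseOK ap9 400 Lvs :=
  ⟨rfl, hnd1, hfx1, ⟨rfl, hnd2, hfx2, ⟨rfl, hnd3, hfx3, ⟨rfl, hnd4, hfx4, ⟨rfl, hnd5, hfx5, ⟨rfl, hnd6, hfx6, ⟨rfl, hnd7, hfx7, ⟨rfl, hnd8, hfx8, ⟨rfl, hnd9, hfx9, ⟨rfl, hnd10, hfx10, ⟨rfl, hnd11, hfx11, ⟨rfl, hnd12, hfx12, ⟨rfl, hnd13, hfx13, ⟨rfl, hnd14, hfx14, ⟨rfl, hnd15, hfx15, ⟨rfl, hnd16, hfx16, ⟨rfl, hnd17, hfx17, ⟨rfl, hnd18, hfx18, trivial⟩⟩⟩⟩⟩⟩⟩⟩⟩⟩⟩⟩⟩⟩⟩⟩⟩⟩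

theorem lvOKV : LvOK ap9 400 LvsV :=
  ⟨hVtree1, hVclose1, hid3, hVnest1, ⟨hVtree2, hVclose2, hid4, hVnest2, ⟨hVtree3, hVclose3, hid5, hVnest3, ⟨hVtree4, hVclose4, hid6, rfl, trivial⟩⟩⟩⟩

theorem baseOKV : BaseOK ap9 400 LvsV :=
  ⟨rfl, hnd3, hVfx1, ⟨rfl, hnd4, hVfx2, ⟨rfl, hnd5, hVfx3, ⟨rfl, hnd6, hVfx4, trivial⟩⟩⟩⟩

theorem hS0 : ∀ T ∈ S0, ∃ g : Perm (Fin 400), ActsAs g (ap9 T) :=
  exists_perm_of_zipAll ap9 S0 S0i hinv

theorem hgen : (∀ T ∈ Sn1, ∃ g : Perm (Fin 400), ActsAs g (ap9 T)) ∧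
    K (n := 400) ap9 Sn1 = K (n := 400) ap9 S0 :=
  gen_facts S0 Sn1 stepsL hS0 hderive hmem hsub

theorem hS1 : ∀ T ∈ headS Lvs, ∃ g : Perm (Fin 400), ActsAs g (ap9 T) := hgen.1

/-- The order of the group generated by the tables `S0`. -/
theorem card_K0 : Nat.card (K (n := 400) ap9 S0) = 306237561840 := by
  rw [← hgen.2, ← hcardL]
  exact card_K (Lvs := Lvs) lvOK baseOK hS1

/-- Every element of the group has order dividing a member of `lsL`. -/
theorem dvd_K0 : ∀ g ∈ K (n := 400) ap9 S0, ∃ m ∈ lsL, orderOf g ∣ m := by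
  intro g hg
  rw [← hgen.2] at hg
  exact split_spec (ap := ap9) (n := 400) (l1 := l1L) (l2 := l2L) (tail := tailL) (LvsV := LvsV)
    (Sv := SvL) (Sw := SwL) (S1i := S1i) (bAll := bAllL) lvOK baseOK hgen.1 hSA lvOKV baseOKV hSVeq
    hcomm hp7 hp3 hconj hbAll hsplit g hg

/-- Every member of `lsL` is the order of an element of the group. -/
theorem wit_K0 : ∀ m ∈ lsL, ∃ g ∈ K (n := 400) ap9 S0, orderOf g = m := by
  intro m hm
  rw [← hgen.2]
  simp only [lsL, List.mem_cons, List.mem_nil_iff, or_false] at hm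
  rcases hm with rfl | rfl | rfl | rfl | rfl | rfl
  · exact exists_orderOf_of_word (Lvs := Lvs) lvOK baseOK hS1 w8 hw8 (by norm_num) hps8 hwit8
  · exact exists_orderOf_of_word (Lvs := Lvs) lvOK baseOK hS1 w9 hw9 (by norm_num) hps9 hwit9
  · exact exists_orderOf_of_word (Lvs := Lvs) lvOK baseOK hS1 w10 hw10 (by norm_num) hps10 hwit10
  · exact exists_orderOf_of_word (Lvs := Lvs) lvOK baseOK hS1 w12 hw12 (by norm_num) hps12 hwit12
  · exact exists_orderOf_of_word (Lvs := Lvs) lvOK baseOK hS1 w15 hw15 (by norm_num) hps15 hwit15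
  · exact exists_orderOf_of_word (Lvs := Lvs) lvOK baseOK hS1 w21 hw21 (by norm_num) hps21 hwit21

/-- The set of element orders of the group. -/
theorem spec_K0 : Set.range (orderOf : K (n := 400) ap9 S0 → ℕ) =
    {1, 2, 3, 4, 5, 6, 7, 8, 9, 10, 12, 15, 21} :=
  range_orderOf_eq _ lsL _ dvd_K0 wit_K0 (by decide) hL_alt10

end Cfsg.Agent.Lib.Helper7.MzP
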