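import Cfsg.Agent.Lib.Helper7.S8PTab

/-! Generated kernel checks (closure part 0) of a Schreier-Sims certificate (S8P). -/

set_option autoImplicit false
set_option maxRecDepth 1000000

namespace Cfsg.Agent.Lib.Helper7.S8P

open Cfsg.Agent.Lib.Helper7.Sims

theorem hclose1_0 : closeS ap9 8 t0 U1 [(0, U1), (1, U2), (2, U3), (3, U4), (4, U5), (5, U6), (6, U7)] = true := by decide +kernel
theorem hclose1_1 : closeS ap9 8 t1 U1 [(0, U1), (1, U2), (2, U3), (3, U4), (4, U5), (5, U6), (6, U7)] = true := by decide +kernel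
theorem hclose1_2 : closeS ap9 8 t9 U1 [(0, U1), (1, U2), (2, U3), (3, U4), (4, U5), (5, U6), (6, U7)] = true := by decide +kernel
theorem hclose1_3 : closeS ap9 8 t10 U1 [(0, U1), (1, U2), (2, U3), (3, U4), (4, U5), (5, U6), (6, U7)] = true := by decide +kernel
theorem hclose1_4 : closeS ap9 8 t15 U1 [(0, U1), (1, U2), (2, U3), (3, U4), (4, U5), (5, U6), (6, U7)] = true := by decide +kernel
theorem hclose1_5 : closeS ap9 8 t16 U1 [(0, U1), (1, U2), (2, U3), (3, U4), (4, U5), (5, U6), (6, U7)] = true := by decide +kernel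
theorem hclose1_6 : closeS ap9 8 t17 U1 [(0, U1), (1, U2), (2, U3), (3, U4), (4, U5), (5, U6), (6, U7)] = true := by decide +kernel
theorem hclose1_7 : closeS ap9 8 t22 U1 [(0, U1), (1, U2), (2, U3), (3, U4), (4, U5), (5, U6), (6, U7)] = true := by decide +kernel
theorem hclose1_8 : closeS ap9 8 t26 U1 [(0, U1), (1, U2), (2, U3), (3, U4), (4, U5), (5, U6), (6, U7)] = true := by decide +kernel
theorem hclose1_9 : closeS ap9 8 t29 U1 [(0, U1), (1, U2), (2, U3), (3, U4), (4, U5), (5, U6), (6, U7)] = true := by decide +kernel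
theorem hclose1_10 : closeS ap9 8 t30 U1 [(0, U1), (1, U2), (2, U3), (3, U4), (4, U5), (5, U6), (6, U7)] = true := by decide +kernel
theorem hclose2_0 : closeS ap9 8 t9 U2 [(1, U2), (2, U3), (3, U4), (4, U5), (5, U6), (6, U7)] = true := by decide +kernel
theorem hclose2_1 : closeS ap9 8 t10 U2 [(1, U2), (2, U3), (3, U4), (4, U5), (5, U6), (6, U7)] = true := by decide +kernel
theorem hclose2_2 : closeS ap9 8 t15 U2 [(1, U2), (2, U3), (3, U4), (4, U5), (5, U6), (6, U7)] = true := by decide +kernel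
theorem hclose2_3 : closeS ap9 8 t16 U2 [(1, U2), (2, U3), (3, U4), (4, U5), (5, U6), (6, U7)] = true := by decide +kernel
theorem hclose2_4 : closeS ap9 8 t17 U2 [(1, U2), (2, U3), (3, U4), (4, U5), (5, U6), (6, U7)] = true := by decide +kernel
theorem hclose2_5 : closeS ap9 8 t22 U2 [(1, U2), (2, U3), (3, U4), (4, U5), (5, U6), (6, U7)] = true := by decide +kernel
theorem hclose2_6 : closeS ap9 8 t26 U2 [(1, U2), (2, U3), (3, U4), (4, U5), (5, U6), (6, U7)] = true := by decide +kernel
theorem hclose2_7 : closeS ap9 8 t29 U2 [(1, U2), (2, U3), (3, U4), (4, U5), (5, U6), (6, U7)] = true := by decide +kernel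
theorem hclose2_8 : closeS ap9 8 t30 U2 [(1, U2), (2, U3), (3, U4), (4, U5), (5, U6), (6, U7)] = true := by decide +kernel
theorem hclose3_0 : closeS ap9 8 t15 U3 [(2, U3), (3, U4), (4, U5), (5, U6), (6, U7)] = true := by decide +kernel
theorem hclose3_1 : closeS ap9 8 t16 U3 [(2, U3), (3, U4), (4, U5), (5, U6), (6, U7)] = true := by decide +kernel
theorem hclose3_2 : closeS ap9 8 t17 U3 [(2, U3), (3, U4), (4, U5), (5, U6), (6, U7)] = true := by decide +kernel
theorem hclose3_3 : closeS ap9 8 t22 U3 [(2, U3), (3, U4), (4, U5), (5, U6), (6, U7)] = true := by decide +kernel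
theorem hclose3_4 : closeS ap9 8 t26 U3 [(2, U3), (3, U4), (4, U5), (5, U6), (6, U7)] = true := by decide +kernel
theorem hclose3_5 : closeS ap9 8 t29 U3 [(2, U3), (3, U4), (4, U5), (5, U6), (6, U7)] = true := by decide +kernel
theorem hclose3_6 : closeS ap9 8 t30 U3 [(2, U3), (3, U4), (4, U5), (5, U6), (6, U7)] = true := by decide +kernel
theorem hclose4_0 : closeS ap9 8 t16 U4 [(3, U4), (4, U5), (5, U6), (6, U7)] = true := by decide +kernel
theorem hclose4_1 : closeS ap9 8 t22 U4 [(3, U4), (4, U5), (5, U6), (6, U7)] = true := by decide +kernel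
theorem hclose4_2 : closeS ap9 8 t26 U4 [(3, U4), (4, U5), (5, U6), (6, U7)] = true := by decide +kernel
theorem hclose4_3 : closeS ap9 8 t15 U4 [(3, U4), (4, U5), (5, U6), (6, U7)] = true := by decide +kernel
theorem hclose4_4 : closeS ap9 8 t29 U4 [(3, U4), (4, U5), (5, U6), (6, U7)] = true := by decide +kernel
theorem hclose4_5 : closeS ap9 8 t30 U4 [(3, U4), (4, U5), (5, U6), (6, U7)] = true := by decide +kernel
theorem hclose5_0 : closeS ap9 8 t26 U5 [(4, U5), (5, U6), (6, U7)] = true := by decide +kernel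
theorem hclose5_1 : closeS ap9 8 t15 U5 [(4, U5), (5, U6), (6, U7)] = true := by decide +kernel
theorem hclose5_2 : closeS ap9 8 t29 U5 [(4, U5), (5, U6), (6, U7)] = true := by decide +kernel
theorem hclose5_3 : closeS ap9 8 t30 U5 [(4, U5), (5, U6), (6, U7)] = true := by decide +kernel
theorem hclose6_0 : closeS ap9 8 t29 U6 [(5, U6), (6, U7)] = true := by decide +kernel
theorem hclose6_1 : closeS ap9 8 t30 U6 [(5, U6), (6, U7)] = true := by decide +kernel
theorem hclose7_0 : closeS ap9 8 t29 U7 [(6, U7)] = true := by decide +kernel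

end Cfsg.Agent.Lib.Helper7.S8P
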