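import Cfsg.Agent.Lib.Helper7.SimsCard

/-! Generated tables of a Schreier-Sims certificate (S8P). -/

set_option autoImplicit false

namespace Cfsg.Agent.Lib.Helper7.S8P

open Cfsg.Agent.Lib.Helper7.Sims

def t0 : ℕ := 0x1c0c050200c0401
def t1 : ℕ := 0x38180a04018080001
def t2 : ℕ := 0x38180a04018080200
def t3 : ℕ := 0x8000e06028100602
def t4 : ℕ := 0x10040007030140803
def t5 : ℕ := 0x18080200038180a04
def t6 : ℕ := 0x200c04010001c0c05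
def t7 : ℕ := 0x28100602008000e06
def t8 : ℕ := 0x30140803010040007
def t9 : ℕ := 0x30140803010040e00
def t10 : ℕ := 0x38180a04018040400
def t11 : ℕ := 0x281006020081c0c00
def t12 : ℕ := 0x200c0401038180a00
def t13 : ℕ := 0x18080207030140800
def t14 : ℕ := 0x10040e06028100600
def t15 : ℕ := 0x38140c04018080200
def t16 : ℕ := 0x38180a03020080200
def t17 : ℕ := 0x101c0c050200c0200
def t18 : ℕ := 0x101c0c05018100200
def t19 : ℕ := 0x18080e06020140200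
def t20 : ℕ := 0x18080e05020180200
def t21 : ℕ := 0x200c04060281c0200
def t22 : ℕ := 0x181c0c05020080200
def t23 : ℕ := 0x181c0c04028080200
def t24 : ℕ := 0x200c0e05030080200
def t25 : ℕ := 0x28100606038080200
def t26 : ℕ := 0x30140807018080200
def t27 : ℕ := 0x28100e06018080200
def t28 : ℕ := 0x201c0c05018080200
def t29 : ℕ := 0x301c0a04018080200
def t30 : ℕ := 0x281c0c04018080200
def t31 : ℕ := 0x28180e04018080200

def S0 : List ℕ := [t0, t1]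
def S0i : List ℕ := [t8, t1]
def stepsL : List (ℕ × ℕ × ℕ × ℕ) := [(t2, 0, 0, 0),
  (t3, 1, 1, 0),
  (t4, 2, 0, 1),
  (t5, 3, 0, 2),
  (t6, 4, 0, 3),
  (t7, 5, 0, 4),
  (t8, 6, 0, 5),
  (t9, 8, 6, 7),
  (t10, 9, 1, 1),
  (t11, 1, 1, 8),
  (t12, 2, 0, 9),
  (t13, 3, 0, 10),
  (t14, 4, 0, 11),
  (t15, 4, 1, 1),
  (t16, 5, 4, 4),
  (t17, 7, 2, 6),
  (t18, 1, 0, 15),
  (t19, 1, 0, 16),
  (t20, 4, 0, 17),
  (t21, 3, 0, 18),
  (t22, 4, 2, 1),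
  (t23, 0, 6, 20),
  (t24, 1, 0, 21),
  (t25, 2, 0, 22),
  (t26, 3, 0, 23),
  (t27, 0, 0, 24),
  (t28, 1, 0, 25),
  (t29, 13, 2, 2),
  (t30, 14, 2, 1),
  (t31, 1, 0, 28)]
def U1 : List ℕ := [t2, t0, t3, t4, t5, t6, t7, t8]
def Sn1 : List ℕ := [t0, t1, t9, t10, t15, t16, t17, t22, t26, t29, t30]
def U2 : List ℕ := [t2, t9, t10, t11, t12, t13, t14]
def Sn2 : List ℕ := [t9, t10, t15, t16, t17, t22, t26, t29, t30]
def U3 : List ℕ := [t2, t17, t18, t19, t20, t21]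
def Sn3 : List ℕ := [t15, t16, t17, t22, t26, t29, t30]
def U4 : List ℕ := [t2, t16, t23, t24, t25]
def Sn4 : List ℕ := [t16, t22, t26, t15, t29, t30]
def U5 : List ℕ := [t2, t26, t27, t28]
def Sn5 : List ℕ := [t26, t15, t29, t30]
def U6 : List ℕ := [t2, t30, t31]
def Sn6 : List ℕ := [t29, t30]
def U7 : List ℕ := [t2, t29]
def Sn7 : List ℕ := [t29]
def reps : List ℕ := [0, 1]
def hints : List (List ℕ) := [[0, 0, 0, 0, 0, 0],
  [0, 0, 0, 0, 0, 0],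
  [2, 0, 0, 0, 0, 0],
  [3, 0, 0, 0, 0, 0],
  [4, 0, 0, 0, 0, 0],
  [5, 0, 0, 0, 0, 0],
  [6, 0, 0, 0, 0, 0],
  [2, 1, 0, 0, 0, 0]]
def w7 : List ℕ := [t17, t17, t30, t9]
def w8 : List ℕ := [t16, t0, t26, t26, t29, t29, t16]
def w10 : List ℕ := [t9, t26]
def w12 : List ℕ := [t29, t0, t10, t30, t9, t26, t29, t9]
def w15 : List ℕ := [t17, t0, t26, t10]
def Lvs : List Lvl := [⟨0, Sn1, U1⟩, ⟨1, Sn2, U2⟩, ⟨2, Sn3, U3⟩, ⟨3, Sn4, U4⟩, ⟨4, Sn5, U5⟩, ⟨5, Sn6, U6⟩, ⟨6, Sn7, U7⟩]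
def lsL : List ℕ := [7, 8, 10, 12, 15]
def Tsel : List ℕ := [t2, t0]

end Cfsg.Agent.Lib.Helper7.S8P
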