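import Mathlib
import Cfsg.Agent.Lib.Helper7.SL2Sylow

set_option autoImplicit false

namespace Cfsg.Agent.Lib.Helper7

open Matrix

section Cmp
variable {K : Type*} [Field K]

/-- companion matrix of `X^2 - tX + 1`, as an element of `SL₂` -/
def cmp (t : K) : SpecialLinearGroup (Fin 2) K :=
  ⟨!![0, -1; 1, t], by simp [Matrix.det_fin_two_of]⟩

lemma cmp_coe (t : K) : (cmp t : Matrix (Fin 2) (Fin 2) K) = !![0, -1; 1, t] := rfl

lemma cmp_mulVec (u : K) (hu : u ≠ 0) :
    (cmp (u + u⁻¹) : Matrix (Fin 2) (Fin 2) K) *ᵥ ![1, -u] = u • ![1, -u] := by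
  rw [cmp_coe]
  ext i
  fin_cases i
  · simp [Matrix.mulVec, dotProduct, Fin.sum_univ_two]
  · simp [Matrix.mulVec, dotProduct, Fin.sum_univ_two]
    field_simp
    ring

lemma cmp_pow_mulVec (u : K) (hu : u ≠ 0) (k : ℕ) :
    ((cmp (u + u⁻¹) ^ k : SpecialLinearGroup (Fin 2) K) : Matrix (Fin 2) (Fin 2) K) *ᵥ ![1, -u] =
      u ^ k • ![1, -u] := by
  induction k with
  | zero => simp
  | succ k ih =>
    have hmul : ((cmp (u + u⁻¹) ^ (k + 1) : SpecialLinearGroup (Fin 2) K) :
        Matrix (Fin 2) (Fin 2) K) =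
        ((cmp (u + u⁻¹) ^ k : SpecialLinearGroup (Fin 2) K) : Matrix (Fin 2) (Fin 2) K) *
          (cmp (u + u⁻¹) : Matrix (Fin 2) (Fin 2) K) := by
      rw [pow_succ]; rfl
    rw [hmul, ← Matrix.mulVec_mulVec, cmp_mulVec u hu,
      Matrix.mulVec_smul, ih, smul_smul, pow_succ, mul_comm]

lemma cmp_pow_eq_one_iff (u : K) (hu : u ≠ 0) (hu2 : u ^ 2 ≠ 1) (k : ℕ) :
    cmp (u + u⁻¹) ^ k = 1 ↔ u ^ k = 1 := by
  constructor
  · intro h
    have h1 := cmp_pow_mulVec u hu k
    rw [h] at h1
    have h2 := congrFun h1 0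
    simpa using h2.symm
  · intro h
    have h1 := cmp_pow_mulVec u hu k
    have h2 := cmp_pow_mulVec u⁻¹ (inv_ne_zero hu) k
    rw [inv_inv, add_comm] at h2
    rw [h] at h1
    rw [inv_pow, h, inv_one] at h2
    set N := ((cmp (u + u⁻¹) ^ k : SpecialLinearGroup (Fin 2) K) : Matrix (Fin 2) (Fin 2) K)
      with hN
    have a0 := congrFun h1 0
    have a1 := congrFun h1 1
    have b0 := congrFun h2 0
    have b1 := congrFun h2 1
    simp [Matrix.mulVec, dotProduct, Fin.sum_univ_two] at a0 a1 b0 b1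
    have hne : u⁻¹ - u ≠ 0 := by
      intro h0
      apply hu2
      have : u⁻¹ = u := sub_eq_zero.mp h0
      have h3 : u * u⁻¹ = 1 := mul_inv_cancel₀ hu
      rw [this] at h3
      rw [pow_two]; exact h3
    have h01 : N 0 1 = 0 := by
      have : (u⁻¹ - u) * N 0 1 = 0 := by linear_combination a0 - b0
      rcases mul_eq_zero.mp this with h | h
      · exact absurd h hne
      · exact h
    have h11 : N 1 1 = 1 := by
      have : (u⁻¹ - u) * (N 1 1 - 1) = 0 := by linear_combination a1 - b1
      rcases mul_eq_zero.mp this with h | h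
      · exact absurd h hne
      · exact sub_eq_zero.mp h
    have h00 : N 0 0 = 1 := by rw [h01] at a0; simpa using a0
    have h10 : N 1 0 = 0 := by rw [h11] at a1; simpa using a1
    apply Subtype.ext
    ext i j
    fin_cases i <;> fin_cases j <;> simp [← hN, h00, h01, h10, h11]

lemma orderOf_cmp (u : K) (hu : u ≠ 0) (hu2 : u ^ 2 ≠ 1) :
    orderOf (cmp (u + u⁻¹)) = orderOf u :=
  orderOf_eq_orderOf_iff.mpr (fun k => cmp_pow_eq_one_iff u hu hu2 k)

end Cmp

section Descent
variable {F : Type*} [Field F] [Fintype F]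

lemma mem_range_of_pow_card (x : AlgebraicClosure F) (hx : x ^ Fintype.card F = x) :
    ∃ t : F, algebraMap F (AlgebraicClosure F) t = x := by
  classical
  have hq : 1 < Fintype.card F := Fintype.one_lt_card
  set P : Polynomial (AlgebraicClosure F) := Polynomial.X ^ Fintype.card F - Polynomial.X with hP
  have hP0 : P ≠ 0 := FiniteField.X_pow_card_sub_X_ne_zero _ hq
  have hdeg : P.natDegree = Fintype.card F := FiniteField.X_pow_card_sub_X_natDegree_eq _ hq
  set S : Finset (AlgebraicClosure F) :=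
    Finset.univ.image (algebraMap F (AlgebraicClosure F)) with hS
  have hScard : S.card = Fintype.card F := by
    rw [hS, Finset.card_image_of_injective _ (algebraMap F (AlgebraicClosure F)).injective,
      Finset.card_univ]
  have hsub : S ⊆ P.roots.toFinset := by
    intro y hy
    rw [hS, Finset.mem_image] at hy
    obtain ⟨a, -, rfl⟩ := hy
    rw [Multiset.mem_toFinset, Polynomial.mem_roots hP0, hP]
    simp only [Polynomial.IsRoot, Polynomial.eval_sub, Polynomial.eval_pow, Polynomial.eval_X]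
    rw [← map_pow, FiniteField.pow_card, sub_self]
  have hle : P.roots.toFinset.card ≤ S.card := by
    rw [hScard, ← hdeg]
    exact (Multiset.toFinset_card_le _).trans (Polynomial.card_roots' P)
  have heq := Finset.eq_of_subset_of_card_le hsub hle
  have hxroot : x ∈ P.roots.toFinset := by
    rw [Multiset.mem_toFinset, Polynomial.mem_roots hP0, hP]
    simp only [Polynomial.IsRoot, Polynomial.eval_sub, Polynomial.eval_pow, Polynomial.eval_X]
    rw [hx, sub_self]
  rw [← heq, hS, Finset.mem_image] at hxroot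
  obtain ⟨a, -, ha⟩ := hxroot
  exact ⟨a, ha⟩

lemma sl2_map_injective {K : Type*} [Field K] (f : F →+* K) :
    Function.Injective (SpecialLinearGroup.map (n := Fin 2) f) := by
  intro a b hab
  apply Subtype.ext
  ext i j
  have := congrArg (fun g : SpecialLinearGroup (Fin 2) K => (g : Matrix (Fin 2) (Fin 2) K) i j) hab
  simp only [SpecialLinearGroup.map_apply_coe, RingHom.mapMatrix_apply, Matrix.map_apply] at this
  exact f.injective this

lemma sl2_map_cmp {K : Type*} [Field K] (f : F →+* K) (t : F) :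
    SpecialLinearGroup.map (n := Fin 2) f (cmp t) = cmp (f t) := by
  apply Subtype.ext
  ext i j
  fin_cases i <;> fin_cases j <;>
    simp [cmp_coe, SpecialLinearGroup.map_apply_coe, RingHom.mapMatrix_apply]

/-- elements of order `d` in `SL₂(F)` for `d ≥ 3` dividing `q - 1` or `q + 1` -/
theorem exists_cmp_orderOf (d : ℕ) (hd3 : 3 ≤ d)
    (hd : d ∣ Fintype.card F - 1 ∨ d ∣ Fintype.card F + 1) :
    ∃ t : F, t ^ 2 ≠ 4 ∧ orderOf (cmp t) = d := by
  classical
  set p := ringChar F with hp
  have : Fact p.Prime := ⟨CharP.char_is_prime F p⟩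
  have hpp : p.Prime := Fact.out
  obtain ⟨k, -, hk⟩ := FiniteField.card F p
  have hq : 1 < Fintype.card F := Fintype.one_lt_card
  have hpq : p ∣ Fintype.card F := by rw [hk]; exact dvd_pow_self p k.pos.ne'
  have hpd : ¬ p ∣ d := by
    intro hpd
    rcases hd with h | h
    · have h1 : p ∣ Fintype.card F - 1 := hpd.trans h
      have h2 : Fintype.card F = (Fintype.card F - 1) + 1 := by omega
      rw [h2] at hpq
      exact hpp.one_lt.ne' (Nat.dvd_one.mp ((Nat.dvd_add_right h1).mp hpq))
    · have h1 : p ∣ Fintype.card F + 1 := hpd.trans h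
      exact hpp.one_lt.ne' (Nat.dvd_one.mp ((Nat.dvd_add_right hpq).mp h1))
  have : NeZero ((d : ℕ) : F) := ⟨by
    intro h0
    exact hpd ((CharP.cast_eq_zero_iff F p d).mp h0)⟩
  obtain ⟨u, hu⟩ := HasEnoughRootsOfUnity.exists_primitiveRoot (AlgebraicClosure F) d
  have hd0 : d ≠ 0 := by omega
  have hu0 : u ≠ 0 := hu.ne_zero hd0
  have hu2 : u ^ 2 ≠ 1 := by
    intro h
    have := hu.dvd_of_pow_eq_one 2 h
    have := Nat.le_of_dvd (by norm_num) this
    omega
  have : CharP (AlgebraicClosure F) p :=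
    charP_of_injective_algebraMap (algebraMap F (AlgebraicClosure F)).injective p
  have hfrob : (u + u⁻¹) ^ Fintype.card F = u + u⁻¹ := by
    rw [hk, add_pow_char_pow, ← hk, inv_pow]
    rcases hd with h | h
    · have h1 : u ^ (Fintype.card F - 1) = 1 := by
        obtain ⟨c, hc⟩ := h
        rw [hc, pow_mul, hu.pow_eq_one, one_pow]
      have h2 : u ^ Fintype.card F = u := by
        have h3 : Fintype.card F = (Fintype.card F - 1) + 1 := by omega
        rw [h3, pow_succ, h1, one_mul]
      rw [h2]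
    · have h1 : u ^ (Fintype.card F + 1) = 1 := by
        obtain ⟨c, hc⟩ := h
        rw [hc, pow_mul, hu.pow_eq_one, one_pow]
      have h2 : u ^ Fintype.card F = u⁻¹ := by
        rw [pow_succ] at h1
        exact eq_inv_of_mul_eq_one_left h1
      rw [h2, inv_inv, add_comm]
  obtain ⟨t, ht⟩ := mem_range_of_pow_card (u + u⁻¹) hfrob
  refine ⟨t, ?_, ?_⟩
  · intro h4
    have h5 : (u + u⁻¹) ^ 2 = 4 := by
      have h4' : algebraMap F (AlgebraicClosure F) (t ^ 2) =
          algebraMap F (AlgebraicClosure F) 4 := by rw [h4]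
      rw [map_pow, ht, map_ofNat] at h4'
      exact h4'
    apply hu2
    have h6 : u * u⁻¹ = 1 := mul_inv_cancel₀ hu0
    have h7 : (u - u⁻¹) ^ 2 = 0 := by linear_combination h5 - 4 * h6
    have h8 : u = u⁻¹ := sub_eq_zero.mp ((pow_eq_zero_iff (two_ne_zero)).mp h7)
    rw [pow_two]; nth_rewrite 2 [h8]; exact h6
  · rw [← orderOf_injective (SpecialLinearGroup.map (n := Fin 2)
      (algebraMap F (AlgebraicClosure F))) (sl2_map_injective _) (cmp t), sl2_map_cmp, ht,
      orderOf_cmp u hu0 hu2, ← hu.eq_orderOf]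

end Descent

end Cfsg.Agent.Lib.Helper7
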