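import Cfsg.Agent.Lib.Helper7.UzPTab

/-! Generated kernel checks (part A) of the certificate (UzP). -/

set_option autoImplicit false
set_option maxRecDepth 1000000

namespace Cfsg.Agent.Lib.Helper7.UzP

open Cfsg.Agent.Lib.Helper7.Sims

theorem hinv : zipAll (invChk ap12 2145) S0 S0i = true := by decide +kernel
theorem hderive : derive ap12 2145 S0 stepsL = true := by decide +kernel
theorem hmem : Sn1.all (fun T => memB T S0 || memB T (stepsL.map (fun s => s.1))) = true := by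
  decide +kernel
theorem hsub : S0.all (fun T => memB T Sn1) = true := by decide +kernel
theorem htree1 : treeGo ap12 2145 Sn1 [] U1 = true := by decide +kernel
theorem hid1 : U1.any (isIdT ap12 2145) = true := by decide +kernel
theorem hnest1 : Sn2.all (fun T => memB T Sn1) = true := by decide +kernel
theorem hnd1 : nodupB (U1.map (fun T => ap12 T 54)) = true := by decide +kernel
theorem hfx1 : ([⟨7, Sn2, U2⟩, ⟨0, Sn3, U3⟩, ⟨65, Sn4, U4⟩, ⟨70, Sn5, U5⟩, ⟨75, Sn6, U6⟩, ⟨80, Sn7, U7⟩, ⟨85, Sn8, U8⟩, ⟨90, Sn9, U9⟩, ⟨95, Sn10, U10⟩, ⟨100, Sn11, U11⟩, ⟨105, Sn12, U12⟩, ⟨110, Sn13, U13⟩, ⟨115, Sn14, U14⟩, ⟨120, Sn15, U15⟩] : List Lvl).all (fun l' => l'.U.all (fun T => Nat.beq (ap12 T 54) 54)) = true := by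
  decide +kernel
theorem htree2 : treeGo ap12 2145 Sn2 [] U2 = true := by decide +kernel
theorem hid2 : U2.any (isIdT ap12 2145) = true := by decide +kernel
theorem hnest2 : Sn3.all (fun T => memB T Sn2) = true := by decide +kernel
theorem hnd2 : nodupB (U2.map (fun T => ap12 T 7)) = true := by decide +kernel
theorem hfx2 : ([⟨0, Sn3, U3⟩, ⟨65, Sn4, U4⟩, ⟨70, Sn5, U5⟩, ⟨75, Sn6, U6⟩, ⟨80, Sn7, U7⟩, ⟨85, Sn8, U8⟩, ⟨90, Sn9, U9⟩, ⟨95, Sn10, U10⟩, ⟨100, Sn11, U11⟩, ⟨105, Sn12, U12⟩, ⟨110, Sn13, U13⟩, ⟨115, Sn14, U14⟩, ⟨120, Sn15, U15⟩] : List Lvl).all (fun l' => l'.U.all (fun T => Nat.beq (ap12 T 7) 7)) = true := by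
  decide +kernel
theorem htree3 : treeGo ap12 2145 Sn3 [] U3 = true := by decide +kernel
theorem hid3 : U3.any (isIdT ap12 2145) = true := by decide +kernel
theorem hnest3 : Sn4.all (fun T => memB T Sn3) = true := by decide +kernel
theorem hnd3 : nodupB (U3.map (fun T => ap12 T 0)) = true := by decide +kernel
theorem hfx3 : ([⟨65, Sn4, U4⟩, ⟨70, Sn5, U5⟩, ⟨75, Sn6, U6⟩, ⟨80, Sn7, U7⟩, ⟨85, Sn8, U8⟩, ⟨90, Sn9, U9⟩, ⟨95, Sn10, U10⟩, ⟨100, Sn11, U11⟩, ⟨105, Sn12, U12⟩, ⟨110, Sn13, U13⟩, ⟨115, Sn14, U14⟩, ⟨120, Sn15, U15⟩] : List Lvl).all (fun l' => l'.U.all (fun T => Nat.beq (ap12 T 0) 0)) = true := by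
  decide +kernel
theorem htree4 : treeGo ap12 2145 Sn4 [] U4 = true := by decide +kernel
theorem hid4 : U4.any (isIdT ap12 2145) = true := by decide +kernel
theorem hnest4 : Sn5.all (fun T => memB T Sn4) = true := by decide +kernel
theorem hnd4 : nodupB (U4.map (fun T => ap12 T 65)) = true := by decide +kernel
theorem hfx4 : ([⟨70, Sn5, U5⟩, ⟨75, Sn6, U6⟩, ⟨80, Sn7, U7⟩, ⟨85, Sn8, U8⟩, ⟨90, Sn9, U9⟩, ⟨95, Sn10, U10⟩, ⟨100, Sn11, U11⟩, ⟨105, Sn12, U12⟩, ⟨110, Sn13, U13⟩, ⟨115, Sn14, U14⟩, ⟨120, Sn15, U15⟩] : List Lvl).all (fun l' => l'.U.all (fun T => Nat.beq (ap12 T 65) 65)) = true := by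
  decide +kernel
theorem htree5 : treeGo ap12 2145 Sn5 [] U5 = true := by decide +kernel
theorem hid5 : U5.any (isIdT ap12 2145) = true := by decide +kernel
theorem hnest5 : Sn6.all (fun T => memB T Sn5) = true := by decide +kernel
theorem hnd5 : nodupB (U5.map (fun T => ap12 T 70)) = true := by decide +kernel
theorem hfx5 : ([⟨75, Sn6, U6⟩, ⟨80, Sn7, U7⟩, ⟨85, Sn8, U8⟩, ⟨90, Sn9, U9⟩, ⟨95, Sn10, U10⟩, ⟨100, Sn11, U11⟩, ⟨105, Sn12, U12⟩, ⟨110, Sn13, U13⟩, ⟨115, Sn14, U14⟩, ⟨120, Sn15, U15⟩] : List Lvl).all (fun l' => l'.U.all (fun T => Nat.beq (ap12 T 70) 70)) = true := by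
  decide +kernel
theorem htree6 : treeGo ap12 2145 Sn6 [] U6 = true := by decide +kernel
theorem hid6 : U6.any (isIdT ap12 2145) = true := by decide +kernel
theorem hnest6 : Sn7.all (fun T => memB T Sn6) = true := by decide +kernel
theorem hnd6 : nodupB (U6.map (fun T => ap12 T 75)) = true := by decide +kernel
theorem hfx6 : ([⟨80, Sn7, U7⟩, ⟨85, Sn8, U8⟩, ⟨90, Sn9, U9⟩, ⟨95, Sn10, U10⟩, ⟨100, Sn11, U11⟩, ⟨105, Sn12, U12⟩, ⟨110, Sn13, U13⟩, ⟨115, Sn14, U14⟩, ⟨120, Sn15, U15⟩] : List Lvl).all (fun l' => l'.U.all (fun T => Nat.beq (ap12 T 75) 75)) = true := by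
  decide +kernel
theorem htree7 : treeGo ap12 2145 Sn7 [] U7 = true := by decide +kernel
theorem hid7 : U7.any (isIdT ap12 2145) = true := by decide +kernel
theorem hnest7 : Sn8.all (fun T => memB T Sn7) = true := by decide +kernel
theorem hnd7 : nodupB (U7.map (fun T => ap12 T 80)) = true := by decide +kernel
theorem hfx7 : ([⟨85, Sn8, U8⟩, ⟨90, Sn9, U9⟩, ⟨95, Sn10, U10⟩, ⟨100, Sn11, U11⟩, ⟨105, Sn12, U12⟩, ⟨110, Sn13, U13⟩, ⟨115, Sn14, U14⟩, ⟨120, Sn15, U15⟩] : List Lvl).all (fun l' => l'.U.all (fun T => Nat.beq (ap12 T 80) 80)) = true := by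
  decide +kernel
theorem htree8 : treeGo ap12 2145 Sn8 [] U8 = true := by decide +kernel
theorem hid8 : U8.any (isIdT ap12 2145) = true := by decide +kernel
theorem hnest8 : Sn9.all (fun T => memB T Sn8) = true := by decide +kernel
theorem hnd8 : nodupB (U8.map (fun T => ap12 T 85)) = true := by decide +kernel
theorem hfx8 : ([⟨90, Sn9, U9⟩, ⟨95, Sn10, U10⟩, ⟨100, Sn11, U11⟩, ⟨105, Sn12, U12⟩, ⟨110, Sn13, U13⟩, ⟨115, Sn14, U14⟩, ⟨120, Sn15, U15⟩] : List Lvl).all (fun l' => l'.U.all (fun T => Nat.beq (ap12 T 85) 85)) = true := by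
  decide +kernel
theorem htree9 : treeGo ap12 2145 Sn9 [] U9 = true := by decide +kernel
theorem hid9 : U9.any (isIdT ap12 2145) = true := by decide +kernel
theorem hnest9 : Sn10.all (fun T => memB T Sn9) = true := by decide +kernel
theorem hnd9 : nodupB (U9.map (fun T => ap12 T 90)) = true := by decide +kernel
theorem hfx9 : ([⟨95, Sn10, U10⟩, ⟨100, Sn11, U11⟩, ⟨105, Sn12, U12⟩, ⟨110, Sn13, U13⟩, ⟨115, Sn14, U14⟩, ⟨120, Sn15, U15⟩] : List Lvl).all (fun l' => l'.U.all (fun T => Nat.beq (ap12 T 90) 90)) = true := by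
  decide +kernel
theorem htree10 : treeGo ap12 2145 Sn10 [] U10 = true := by decide +kernel
theorem hid10 : U10.any (isIdT ap12 2145) = true := by decide +kernel
theorem hnest10 : Sn11.all (fun T => memB T Sn10) = true := by decide +kernel
theorem hnd10 : nodupB (U10.map (fun T => ap12 T 95)) = true := by decide +kernel
theorem hfx10 : ([⟨100, Sn11, U11⟩, ⟨105, Sn12, U12⟩, ⟨110, Sn13, U13⟩, ⟨115, Sn14, U14⟩, ⟨120, Sn15, U15⟩] : List Lvl).all (fun l' => l'.U.all (fun T => Nat.beq (ap12 T 95) 95)) = true := by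
  decide +kernel
theorem htree11 : treeGo ap12 2145 Sn11 [] U11 = true := by decide +kernel
theorem hid11 : U11.any (isIdT ap12 2145) = true := by decide +kernel
theorem hnest11 : Sn12.all (fun T => memB T Sn11) = true := by decide +kernel
theorem hnd11 : nodupB (U11.map (fun T => ap12 T 100)) = true := by decide +kernel
theorem hfx11 : ([⟨105, Sn12, U12⟩, ⟨110, Sn13, U13⟩, ⟨115, Sn14, U14⟩, ⟨120, Sn15, U15⟩] : List Lvl).all (fun l' => l'.U.all (fun T => Nat.beq (ap12 T 100) 100)) = true := by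
  decide +kernel
theorem htree12 : treeGo ap12 2145 Sn12 [] U12 = true := by decide +kernel
theorem hid12 : U12.any (isIdT ap12 2145) = true := by decide +kernel
theorem hnest12 : Sn13.all (fun T => memB T Sn12) = true := by decide +kernel
theorem hnd12 : nodupB (U12.map (fun T => ap12 T 105)) = true := by decide +kernel
theorem hfx12 : ([⟨110, Sn13, U13⟩, ⟨115, Sn14, U14⟩, ⟨120, Sn15, U15⟩] : List Lvl).all (fun l' => l'.U.all (fun T => Nat.beq (ap12 T 105) 105)) = true := by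
  decide +kernel
theorem htree13 : treeGo ap12 2145 Sn13 [] U13 = true := by decide +kernel
theorem hid13 : U13.any (isIdT ap12 2145) = true := by decide +kernel
theorem hnest13 : Sn14.all (fun T => memB T Sn13) = true := by decide +kernel
theorem hnd13 : nodupB (U13.map (fun T => ap12 T 110)) = true := by decide +kernel
theorem hfx13 : ([⟨115, Sn14, U14⟩, ⟨120, Sn15, U15⟩] : List Lvl).all (fun l' => l'.U.all (fun T => Nat.beq (ap12 T 110) 110)) = true := by
  decide +kernel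
theorem htree14 : treeGo ap12 2145 Sn14 [] U14 = true := by decide +kernel
theorem hid14 : U14.any (isIdT ap12 2145) = true := by decide +kernel
theorem hnest14 : Sn15.all (fun T => memB T Sn14) = true := by decide +kernel
theorem hnd14 : nodupB (U14.map (fun T => ap12 T 115)) = true := by decide +kernel
theorem hfx14 : ([⟨120, Sn15, U15⟩] : List Lvl).all (fun l' => l'.U.all (fun T => Nat.beq (ap12 T 115) 115)) = true := by
  decide +kernel
theorem htree15 : treeGo ap12 2145 Sn15 [] U15 = true := by decide +kernel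
theorem hid15 : U15.any (isIdT ap12 2145) = true := by decide +kernel
theorem hnd15 : nodupB (U15.map (fun T => ap12 T 120)) = true := by decide +kernel
theorem hfx15 : ([] : List Lvl).all (fun l' => l'.U.all (fun T => Nat.beq (ap12 T 120) 120)) = true := by
  decide +kernel
theorem hw10 : w10.all (fun T => memB T Sn1) = true := by decide +kernel
theorem hwit10 : witChk 2145 10 [2, 5] [54, 7, 0, 65, 70, 75, 80, 85, 90, 95, 100, 105, 110, 115, 120] (evalChain ap12 w10) = true := by decide +kernel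
theorem hps10 : ∀ p ∈ List.range (10 + 1), p.Prime → p ∣ 10 → p ∈ [2, 5] := by decide +kernel
theorem hw13 : w13.all (fun T => memB T Sn1) = true := by decide +kernel
theorem hwit13 : witChk 2145 13 [13] [54, 7, 0, 65, 70, 75, 80, 85, 90, 95, 100, 105, 110, 115, 120] (evalChain ap12 w13) = true := by decide +kernel
theorem hps13 : ∀ p ∈ List.range (13 + 1), p.Prime → p ∣ 13 → p ∈ [13] := by decide +kernel
theorem hw15 : w15.all (fun T => memB T Sn1) = true := by decide +kernel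
theorem hwit15 : witChk 2145 15 [3, 5] [54, 7, 0, 65, 70, 75, 80, 85, 90, 95, 100, 105, 110, 115, 120] (evalChain ap12 w15) = true := by decide +kernel
theorem hps15 : ∀ p ∈ List.range (15 + 1), p.Prime → p ∣ 15 → p ∈ [3, 5] := by decide +kernel
theorem hcardL : cardL Lvs = 15234375000000 := by decide +kernel

end Cfsg.Agent.Lib.Helper7.UzP
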