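import Cfsg.Agent.Lib.Helper7.UzPTab

/-! Generated kernel checks (closure part 1) of the certificate (UzP). -/

set_option autoImplicit false
set_option maxRecDepth 1000000

namespace Cfsg.Agent.Lib.Helper7.UzP

open Cfsg.Agent.Lib.Helper7.Sims

theorem hclose1_0_1 : closeS ap12 2145 t0 [t38, t39, t40, t41, t42, t43, t44, t45] [(54, U1), (7, U2), (0, U3), (65, U4), (70, U5), (75, U6), (80, U7), (85, U8), (90, U9), (95, U10), (100, U11), (105, U12), (110, U13), (115, U14), (120, U15)] = true := by decide +kernel
theorem hclose1_2_1 : closeS ap12 2145 t2 [t38, t39, t40, t41, t42, t43, t44, t45] [(54, U1), (7, U2), (0, U3), (65, U4), (70, U5), (75, U6), (80, U7), (85, U8), (90, U9), (95, U10), (100, U11), (105, U12), (110, U13), (115, U14), (120, U15)] = true := by decide +kernel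
theorem hclose1_4_1 : closeS ap12 2145 t4 [t38, t39, t40, t41, t42, t43, t44, t45] [(54, U1), (7, U2), (0, U3), (65, U4), (70, U5), (75, U6), (80, U7), (85, U8), (90, U9), (95, U10), (100, U11), (105, U12), (110, U13), (115, U14), (120, U15)] = true := by decide +kernel
theorem hclose1_6_1 : closeS ap12 2145 t6 [t38, t39, t40, t41, t42, t43, t44, t45] [(54, U1), (7, U2), (0, U3), (65, U4), (70, U5), (75, U6), (80, U7), (85, U8), (90, U9), (95, U10), (100, U11), (105, U12), (110, U13), (115, U14), (120, U15)] = true := by decide +kernel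
theorem hclose1_6_8 : closeS ap12 2145 t6 [t94] [(54, U1), (7, U2), (0, U3), (65, U4), (70, U5), (75, U6), (80, U7), (85, U8), (90, U9), (95, U10), (100, U11), (105, U12), (110, U13), (115, U14), (120, U15)] = true := by decide +kernel
theorem hclose1_8_1 : closeS ap12 2145 t8 [t38, t39, t40, t41, t42, t43, t44, t45] [(54, U1), (7, U2), (0, U3), (65, U4), (70, U5), (75, U6), (80, U7), (85, U8), (90, U9), (95, U10), (100, U11), (105, U12), (110, U13), (115, U14), (120, U15)] = true := by decide +kernel
theorem hclose1_10_1 : closeS ap12 2145 t10 [t38, t39, t40, t41, t42, t43, t44, t45] [(54, U1), (7, U2), (0, U3), (65, U4), (70, U5), (75, U6), (80, U7), (85, U8), (90, U9), (95, U10), (100, U11), (105, U12), (110, U13), (115, U14), (120, U15)] = true := by decide +kernel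
theorem hclose1_12_1 : closeS ap12 2145 t12 [t38, t39, t40, t41, t42, t43, t44, t45] [(54, U1), (7, U2), (0, U3), (65, U4), (70, U5), (75, U6), (80, U7), (85, U8), (90, U9), (95, U10), (100, U11), (105, U12), (110, U13), (115, U14), (120, U15)] = true := by decide +kernel
theorem hclose1_14_1 : closeS ap12 2145 t16 [t38, t39, t40, t41, t42, t43, t44, t45] [(54, U1), (7, U2), (0, U3), (65, U4), (70, U5), (75, U6), (80, U7), (85, U8), (90, U9), (95, U10), (100, U11), (105, U12), (110, U13), (115, U14), (120, U15)] = true := by decide +kernel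
theorem hclose2_0_1 : closeS ap12 2145 t16 [t101, t102, t103, t104, t105, t106, t107, t108] [(7, U2), (0, U3), (65, U4), (70, U5), (75, U6), (80, U7), (85, U8), (90, U9), (95, U10), (100, U11), (105, U12), (110, U13), (115, U14), (120, U15)] = true := by decide +kernel
theorem hclose2_2_1 : closeS ap12 2145 t2 [t101, t102, t103, t104, t105, t106, t107, t108] [(7, U2), (0, U3), (65, U4), (70, U5), (75, U6), (80, U7), (85, U8), (90, U9), (95, U10), (100, U11), (105, U12), (110, U13), (115, U14), (120, U15)] = true := by decide +kernel
theorem hclose2_4_1 : closeS ap12 2145 t4 [t101, t102, t103, t104, t105, t106, t107, t108] [(7, U2), (0, U3), (65, U4), (70, U5), (75, U6), (80, U7), (85, U8), (90, U9), (95, U10), (100, U11), (105, U12), (110, U13), (115, U14), (120, U15)] = true := by decide +kernel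
theorem hclose2_6_1 : closeS ap12 2145 t6 [t101, t102, t103, t104, t105, t106, t107, t108] [(7, U2), (0, U3), (65, U4), (70, U5), (75, U6), (80, U7), (85, U8), (90, U9), (95, U10), (100, U11), (105, U12), (110, U13), (115, U14), (120, U15)] = true := by decide +kernel
theorem hclose2_8_1 : closeS ap12 2145 t8 [t101, t102, t103, t104, t105, t106, t107, t108] [(7, U2), (0, U3), (65, U4), (70, U5), (75, U6), (80, U7), (85, U8), (90, U9), (95, U10), (100, U11), (105, U12), (110, U13), (115, U14), (120, U15)] = true := by decide +kernel
theorem hclose2_10_1 : closeS ap12 2145 t10 [t101, t102, t103, t104, t105, t106, t107, t108] [(7, U2), (0, U3), (65, U4), (70, U5), (75, U6), (80, U7), (85, U8), (90, U9), (95, U10), (100, U11), (105, U12), (110, U13), (115, U14), (120, U15)] = true := by decide +kernel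
theorem hclose2_12_1 : closeS ap12 2145 t12 [t101, t102, t103, t104, t105, t106, t107, t108] [(7, U2), (0, U3), (65, U4), (70, U5), (75, U6), (80, U7), (85, U8), (90, U9), (95, U10), (100, U11), (105, U12), (110, U13), (115, U14), (120, U15)] = true := by decide +kernel
theorem hclose3_1_0 : closeS ap12 2145 t2 [t14, t16, t157, t158, t159, t160, t161, t162] [(0, U3), (65, U4), (70, U5), (75, U6), (80, U7), (85, U8), (90, U9), (95, U10), (100, U11), (105, U12), (110, U13), (115, U14), (120, U15)] = true := by decide +kernel
theorem hclose3_7_1 : closeS ap12 2145 t8 [t163, t164, t165, t166, t167, t168, t33] [(0, U3), (65, U4), (70, U5), (75, U6), (80, U7), (85, U8), (90, U9), (95, U10), (100, U11), (105, U12), (110, U13), (115, U14), (120, U15)] = true := by decide +kernel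
theorem hclose5_4_0 : closeS ap12 2145 t7 [t14, t3, t171, t172, t22] [(70, U5), (75, U6), (80, U7), (85, U8), (90, U9), (95, U10), (100, U11), (105, U12), (110, U13), (115, U14), (120, U15)] = true := by decide +kernel
theorem hclose6_9_0 : closeS ap12 2145 t13 [t14, t4, t173, t174, t23] [(75, U6), (80, U7), (85, U8), (90, U9), (95, U10), (100, U11), (105, U12), (110, U13), (115, U14), (120, U15)] = true := by decide +kernel
theorem hclose9_3_0 : closeS ap12 2145 t10 [t14, t7, t179, t180, t26] [(90, U9), (95, U10), (100, U11), (105, U12), (110, U13), (115, U14), (120, U15)] = true := by decide +kernel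
theorem hclose11_3_0 : closeS ap12 2145 t12 [t14, t9, t183, t184, t28] [(100, U11), (105, U12), (110, U13), (115, U14), (120, U15)] = true := by decide +kernel

end Cfsg.Agent.Lib.Helper7.UzP
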