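import Cfsg.Agent.Lib.Helper7.UzPTab

/-! Generated kernel checks (closure part 11) of the certificate (UzP). -/

set_option autoImplicit false
set_option maxRecDepth 1000000

namespace Cfsg.Agent.Lib.Helper7.UzP

open Cfsg.Agent.Lib.Helper7.Sims

theorem hclose1_1_3 : closeS ap12 2145 t1 [t54, t55, t56, t57, t58, t59, t60, t61] [(54, U1), (7, U2), (0, U3), (65, U4), (70, U5), (75, U6), (80, U7), (85, U8), (90, U9), (95, U10), (100, U11), (105, U12), (110, U13), (115, U14), (120, U15)] = true := by decide +kernel
theorem hclose1_3_3 : closeS ap12 2145 t3 [t54, t55, t56, t57, t58, t59, t60, t61] [(54, U1), (7, U2), (0, U3), (65, U4), (70, U5), (75, U6), (80, U7), (85, U8), (90, U9), (95, U10), (100, U11), (105, U12), (110, U13), (115, U14), (120, U15)] = true := by decide +kernel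
theorem hclose1_5_3 : closeS ap12 2145 t5 [t54, t55, t56, t57, t58, t59, t60, t61] [(54, U1), (7, U2), (0, U3), (65, U4), (70, U5), (75, U6), (80, U7), (85, U8), (90, U9), (95, U10), (100, U11), (105, U12), (110, U13), (115, U14), (120, U15)] = true := by decide +kernel
theorem hclose1_7_3 : closeS ap12 2145 t7 [t54, t55, t56, t57, t58, t59, t60, t61] [(54, U1), (7, U2), (0, U3), (65, U4), (70, U5), (75, U6), (80, U7), (85, U8), (90, U9), (95, U10), (100, U11), (105, U12), (110, U13), (115, U14), (120, U15)] = true := by decide +kernel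
theorem hclose1_9_3 : closeS ap12 2145 t9 [t54, t55, t56, t57, t58, t59, t60, t61] [(54, U1), (7, U2), (0, U3), (65, U4), (70, U5), (75, U6), (80, U7), (85, U8), (90, U9), (95, U10), (100, U11), (105, U12), (110, U13), (115, U14), (120, U15)] = true := by decide +kernel
theorem hclose1_11_3 : closeS ap12 2145 t11 [t54, t55, t56, t57, t58, t59, t60, t61] [(54, U1), (7, U2), (0, U3), (65, U4), (70, U5), (75, U6), (80, U7), (85, U8), (90, U9), (95, U10), (100, U11), (105, U12), (110, U13), (115, U14), (120, U15)] = true := by decide +kernel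
theorem hclose1_13_3 : closeS ap12 2145 t13 [t54, t55, t56, t57, t58, t59, t60, t61] [(54, U1), (7, U2), (0, U3), (65, U4), (70, U5), (75, U6), (80, U7), (85, U8), (90, U9), (95, U10), (100, U11), (105, U12), (110, U13), (115, U14), (120, U15)] = true := by decide +kernel
theorem hclose1_14_8 : closeS ap12 2145 t16 [t94] [(54, U1), (7, U2), (0, U3), (65, U4), (70, U5), (75, U6), (80, U7), (85, U8), (90, U9), (95, U10), (100, U11), (105, U12), (110, U13), (115, U14), (120, U15)] = true := by decide +kernel
theorem hclose1_15_3 : closeS ap12 2145 t18 [t54, t55, t56, t57, t58, t59, t60, t61] [(54, U1), (7, U2), (0, U3), (65, U4), (70, U5), (75, U6), (80, U7), (85, U8), (90, U9), (95, U10), (100, U11), (105, U12), (110, U13), (115, U14), (120, U15)] = true := by decide +kernel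
theorem hclose2_1_3 : closeS ap12 2145 t18 [t117, t118, t119, t120, t121, t122, t123, t124] [(7, U2), (0, U3), (65, U4), (70, U5), (75, U6), (80, U7), (85, U8), (90, U9), (95, U10), (100, U11), (105, U12), (110, U13), (115, U14), (120, U15)] = true := by decide +kernel
theorem hclose2_3_3 : closeS ap12 2145 t3 [t117, t118, t119, t120, t121, t122, t123, t124] [(7, U2), (0, U3), (65, U4), (70, U5), (75, U6), (80, U7), (85, U8), (90, U9), (95, U10), (100, U11), (105, U12), (110, U13), (115, U14), (120, U15)] = true := by decide +kernel
theorem hclose2_5_3 : closeS ap12 2145 t5 [t117, t118, t119, t120, t121, t122, t123, t124] [(7, U2), (0, U3), (65, U4), (70, U5), (75, U6), (80, U7), (85, U8), (90, U9), (95, U10), (100, U11), (105, U12), (110, U13), (115, U14), (120, U15)] = true := by decide +kernel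
theorem hclose2_7_3 : closeS ap12 2145 t7 [t117, t118, t119, t120, t121, t122, t123, t124] [(7, U2), (0, U3), (65, U4), (70, U5), (75, U6), (80, U7), (85, U8), (90, U9), (95, U10), (100, U11), (105, U12), (110, U13), (115, U14), (120, U15)] = true := by decide +kernel
theorem hclose2_9_3 : closeS ap12 2145 t9 [t117, t118, t119, t120, t121, t122, t123, t124] [(7, U2), (0, U3), (65, U4), (70, U5), (75, U6), (80, U7), (85, U8), (90, U9), (95, U10), (100, U11), (105, U12), (110, U13), (115, U14), (120, U15)] = true := by decide +kernel
theorem hclose2_11_3 : closeS ap12 2145 t11 [t117, t118, t119, t120, t121, t122, t123, t124] [(7, U2), (0, U3), (65, U4), (70, U5), (75, U6), (80, U7), (85, U8), (90, U9), (95, U10), (100, U11), (105, U12), (110, U13), (115, U14), (120, U15)] = true := by decide +kernel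
theorem hclose2_13_3 : closeS ap12 2145 t13 [t117, t118, t119, t120, t121, t122, t123, t124] [(7, U2), (0, U3), (65, U4), (70, U5), (75, U6), (80, U7), (85, U8), (90, U9), (95, U10), (100, U11), (105, U12), (110, U13), (115, U14), (120, U15)] = true := by decide +kernel
theorem hclose3_11_0 : closeS ap12 2145 t12 [t14, t16, t157, t158, t159, t160, t161, t162] [(0, U3), (65, U4), (70, U5), (75, U6), (80, U7), (85, U8), (90, U9), (95, U10), (100, U11), (105, U12), (110, U13), (115, U14), (120, U15)] = true := by decide +kernel
theorem hclose4_4_0 : closeS ap12 2145 t6 [t14, t2, t169, t170, t21] [(65, U4), (70, U5), (75, U6), (80, U7), (85, U8), (90, U9), (95, U10), (100, U11), (105, U12), (110, U13), (115, U14), (120, U15)] = true := by decide +kernel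
theorem hclose4_10_0 : closeS ap12 2145 t12 [t14, t2, t169, t170, t21] [(65, U4), (70, U5), (75, U6), (80, U7), (85, U8), (90, U9), (95, U10), (100, U11), (105, U12), (110, U13), (115, U14), (120, U15)] = true := by decide +kernel
theorem hclose6_3_0 : closeS ap12 2145 t7 [t14, t4, t173, t174, t23] [(75, U6), (80, U7), (85, U8), (90, U9), (95, U10), (100, U11), (105, U12), (110, U13), (115, U14), (120, U15)] = true := by decide +kernel
theorem hclose7_8_0 : closeS ap12 2145 t13 [t14, t5, t175, t176, t24] [(80, U7), (85, U8), (90, U9), (95, U10), (100, U11), (105, U12), (110, U13), (115, U14), (120, U15)] = true := by decide +kernel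
theorem hclose10_2_0 : closeS ap12 2145 t10 [t14, t8, t181, t182, t27] [(95, U10), (100, U11), (105, U12), (110, U13), (115, U14), (120, U15)] = true := by decide +kernel
theorem hclose13_0_0 : closeS ap12 2145 t11 [t14, t11, t187, t188, t30] [(110, U13), (115, U14), (120, U15)] = true := by decide +kernel

end Cfsg.Agent.Lib.Helper7.UzP
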