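import Cfsg.Agent.Lib.Helper7.UzPTab

/-! Generated kernel checks (closure part 12) of the certificate (UzP). -/

set_option autoImplicit false
set_option maxRecDepth 1000000

namespace Cfsg.Agent.Lib.Helper7.UzP

open Cfsg.Agent.Lib.Helper7.Sims

theorem hclose1_1_4 : closeS ap12 2145 t1 [t62, t63, t64, t65, t66, t67, t68, t69] [(54, U1), (7, U2), (0, U3), (65, U4), (70, U5), (75, U6), (80, U7), (85, U8), (90, U9), (95, U10), (100, U11), (105, U12), (110, U13), (115, U14), (120, U15)] = true := by decide +kernel
theorem hclose1_3_4 : closeS ap12 2145 t3 [t62, t63, t64, t65, t66, t67, t68, t69] [(54, U1), (7, U2), (0, U3), (65, U4), (70, U5), (75, U6), (80, U7), (85, U8), (90, U9), (95, U10), (100, U11), (105, U12), (110, U13), (115, U14), (120, U15)] = true := by decide +kernel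
theorem hclose1_5_4 : closeS ap12 2145 t5 [t62, t63, t64, t65, t66, t67, t68, t69] [(54, U1), (7, U2), (0, U3), (65, U4), (70, U5), (75, U6), (80, U7), (85, U8), (90, U9), (95, U10), (100, U11), (105, U12), (110, U13), (115, U14), (120, U15)] = true := by decide +kernel
theorem hclose1_7_4 : closeS ap12 2145 t7 [t62, t63, t64, t65, t66, t67, t68, t69] [(54, U1), (7, U2), (0, U3), (65, U4), (70, U5), (75, U6), (80, U7), (85, U8), (90, U9), (95, U10), (100, U11), (105, U12), (110, U13), (115, U14), (120, U15)] = true := by decide +kernel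
theorem hclose1_9_4 : closeS ap12 2145 t9 [t62, t63, t64, t65, t66, t67, t68, t69] [(54, U1), (7, U2), (0, U3), (65, U4), (70, U5), (75, U6), (80, U7), (85, U8), (90, U9), (95, U10), (100, U11), (105, U12), (110, U13), (115, U14), (120, U15)] = true := by decide +kernel
theorem hclose1_11_4 : closeS ap12 2145 t11 [t62, t63, t64, t65, t66, t67, t68, t69] [(54, U1), (7, U2), (0, U3), (65, U4), (70, U5), (75, U6), (80, U7), (85, U8), (90, U9), (95, U10), (100, U11), (105, U12), (110, U13), (115, U14), (120, U15)] = true := by decide +kernel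
theorem hclose1_13_4 : closeS ap12 2145 t13 [t62, t63, t64, t65, t66, t67, t68, t69] [(54, U1), (7, U2), (0, U3), (65, U4), (70, U5), (75, U6), (80, U7), (85, U8), (90, U9), (95, U10), (100, U11), (105, U12), (110, U13), (115, U14), (120, U15)] = true := by decide +kernel
theorem hclose1_15_4 : closeS ap12 2145 t18 [t62, t63, t64, t65, t66, t67, t68, t69] [(54, U1), (7, U2), (0, U3), (65, U4), (70, U5), (75, U6), (80, U7), (85, U8), (90, U9), (95, U10), (100, U11), (105, U12), (110, U13), (115, U14), (120, U15)] = true := by decide +kernel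
theorem hclose1_15_8 : closeS ap12 2145 t18 [t94] [(54, U1), (7, U2), (0, U3), (65, U4), (70, U5), (75, U6), (80, U7), (85, U8), (90, U9), (95, U10), (100, U11), (105, U12), (110, U13), (115, U14), (120, U15)] = true := by decide +kernel
theorem hclose2_1_4 : closeS ap12 2145 t18 [t125, t126, t127, t128, t129, t130, t131, t132] [(7, U2), (0, U3), (65, U4), (70, U5), (75, U6), (80, U7), (85, U8), (90, U9), (95, U10), (100, U11), (105, U12), (110, U13), (115, U14), (120, U15)] = true := by decide +kernel
theorem hclose2_3_4 : closeS ap12 2145 t3 [t125, t126, t127, t128, t129, t130, t131, t132] [(7, U2), (0, U3), (65, U4), (70, U5), (75, U6), (80, U7), (85, U8), (90, U9), (95, U10), (100, U11), (105, U12), (110, U13), (115, U14), (120, U15)] = true := by decide +kernel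
theorem hclose2_5_4 : closeS ap12 2145 t5 [t125, t126, t127, t128, t129, t130, t131, t132] [(7, U2), (0, U3), (65, U4), (70, U5), (75, U6), (80, U7), (85, U8), (90, U9), (95, U10), (100, U11), (105, U12), (110, U13), (115, U14), (120, U15)] = true := by decide +kernel
theorem hclose2_7_4 : closeS ap12 2145 t7 [t125, t126, t127, t128, t129, t130, t131, t132] [(7, U2), (0, U3), (65, U4), (70, U5), (75, U6), (80, U7), (85, U8), (90, U9), (95, U10), (100, U11), (105, U12), (110, U13), (115, U14), (120, U15)] = true := by decide +kernel
theorem hclose2_9_4 : closeS ap12 2145 t9 [t125, t126, t127, t128, t129, t130, t131, t132] [(7, U2), (0, U3), (65, U4), (70, U5), (75, U6), (80, U7), (85, U8), (90, U9), (95, U10), (100, U11), (105, U12), (110, U13), (115, U14), (120, U15)] = true := by decide +kernel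
theorem hclose2_11_4 : closeS ap12 2145 t11 [t125, t126, t127, t128, t129, t130, t131, t132] [(7, U2), (0, U3), (65, U4), (70, U5), (75, U6), (80, U7), (85, U8), (90, U9), (95, U10), (100, U11), (105, U12), (110, U13), (115, U14), (120, U15)] = true := by decide +kernel
theorem hclose2_13_4 : closeS ap12 2145 t13 [t125, t126, t127, t128, t129, t130, t131, t132] [(7, U2), (0, U3), (65, U4), (70, U5), (75, U6), (80, U7), (85, U8), (90, U9), (95, U10), (100, U11), (105, U12), (110, U13), (115, U14), (120, U15)] = true := by decide +kernel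
theorem hclose3_12_0 : closeS ap12 2145 t13 [t14, t16, t157, t158, t159, t160, t161, t162] [(0, U3), (65, U4), (70, U5), (75, U6), (80, U7), (85, U8), (90, U9), (95, U10), (100, U11), (105, U12), (110, U13), (115, U14), (120, U15)] = true := by decide +kernel
theorem hclose4_5_0 : closeS ap12 2145 t7 [t14, t2, t169, t170, t21] [(65, U4), (70, U5), (75, U6), (80, U7), (85, U8), (90, U9), (95, U10), (100, U11), (105, U12), (110, U13), (115, U14), (120, U15)] = true := by decide +kernel
theorem hclose4_11_0 : closeS ap12 2145 t13 [t14, t2, t169, t170, t21] [(65, U4), (70, U5), (75, U6), (80, U7), (85, U8), (90, U9), (95, U10), (100, U11), (105, U12), (110, U13), (115, U14), (120, U15)] = true := by decide +kernel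
theorem hclose6_4_0 : closeS ap12 2145 t8 [t14, t4, t173, t174, t23] [(75, U6), (80, U7), (85, U8), (90, U9), (95, U10), (100, U11), (105, U12), (110, U13), (115, U14), (120, U15)] = true := by decide +kernel
theorem hclose8_0_0 : closeS ap12 2145 t6 [t14, t6, t177, t178, t25] [(85, U8), (90, U9), (95, U10), (100, U11), (105, U12), (110, U13), (115, U14), (120, U15)] = true := by decide +kernel
theorem hclose9_4_0 : closeS ap12 2145 t11 [t14, t7, t179, t180, t26] [(90, U9), (95, U10), (100, U11), (105, U12), (110, U13), (115, U14), (120, U15)] = true := by decide +kernel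
theorem hclose13_1_0 : closeS ap12 2145 t12 [t14, t11, t187, t188, t30] [(110, U13), (115, U14), (120, U15)] = true := by decide +kernel

end Cfsg.Agent.Lib.Helper7.UzP
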