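import Cfsg.Agent.Lib.Helper7.UzPTab

/-! Generated kernel checks (closure part 14) of the certificate (UzP). -/

set_option autoImplicit false
set_option maxRecDepth 1000000

namespace Cfsg.Agent.Lib.Helper7.UzP

open Cfsg.Agent.Lib.Helper7.Sims

theorem hclose1_1_6 : closeS ap12 2145 t1 [t78, t79, t80, t81, t82, t83, t84, t85] [(54, U1), (7, U2), (0, U3), (65, U4), (70, U5), (75, U6), (80, U7), (85, U8), (90, U9), (95, U10), (100, U11), (105, U12), (110, U13), (115, U14), (120, U15)] = true := by decide +kernel
theorem hclose1_3_6 : closeS ap12 2145 t3 [t78, t79, t80, t81, t82, t83, t84, t85] [(54, U1), (7, U2), (0, U3), (65, U4), (70, U5), (75, U6), (80, U7), (85, U8), (90, U9), (95, U10), (100, U11), (105, U12), (110, U13), (115, U14), (120, U15)] = true := by decide +kernel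
theorem hclose1_5_6 : closeS ap12 2145 t5 [t78, t79, t80, t81, t82, t83, t84, t85] [(54, U1), (7, U2), (0, U3), (65, U4), (70, U5), (75, U6), (80, U7), (85, U8), (90, U9), (95, U10), (100, U11), (105, U12), (110, U13), (115, U14), (120, U15)] = true := by decide +kernel
theorem hclose1_7_6 : closeS ap12 2145 t7 [t78, t79, t80, t81, t82, t83, t84, t85] [(54, U1), (7, U2), (0, U3), (65, U4), (70, U5), (75, U6), (80, U7), (85, U8), (90, U9), (95, U10), (100, U11), (105, U12), (110, U13), (115, U14), (120, U15)] = true := by decide +kernel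
theorem hclose1_9_6 : closeS ap12 2145 t9 [t78, t79, t80, t81, t82, t83, t84, t85] [(54, U1), (7, U2), (0, U3), (65, U4), (70, U5), (75, U6), (80, U7), (85, U8), (90, U9), (95, U10), (100, U11), (105, U12), (110, U13), (115, U14), (120, U15)] = true := by decide +kernel
theorem hclose1_11_6 : closeS ap12 2145 t11 [t78, t79, t80, t81, t82, t83, t84, t85] [(54, U1), (7, U2), (0, U3), (65, U4), (70, U5), (75, U6), (80, U7), (85, U8), (90, U9), (95, U10), (100, U11), (105, U12), (110, U13), (115, U14), (120, U15)] = true := by decide +kernel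
theorem hclose1_13_6 : closeS ap12 2145 t13 [t78, t79, t80, t81, t82, t83, t84, t85] [(54, U1), (7, U2), (0, U3), (65, U4), (70, U5), (75, U6), (80, U7), (85, U8), (90, U9), (95, U10), (100, U11), (105, U12), (110, U13), (115, U14), (120, U15)] = true := by decide +kernel
theorem hclose1_15_6 : closeS ap12 2145 t18 [t78, t79, t80, t81, t82, t83, t84, t85] [(54, U1), (7, U2), (0, U3), (65, U4), (70, U5), (75, U6), (80, U7), (85, U8), (90, U9), (95, U10), (100, U11), (105, U12), (110, U13), (115, U14), (120, U15)] = true := by decide +kernel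
theorem hclose2_1_6 : closeS ap12 2145 t18 [t141, t142, t143, t144, t145, t146, t147, t148] [(7, U2), (0, U3), (65, U4), (70, U5), (75, U6), (80, U7), (85, U8), (90, U9), (95, U10), (100, U11), (105, U12), (110, U13), (115, U14), (120, U15)] = true := by decide +kernel
theorem hclose2_3_6 : closeS ap12 2145 t3 [t141, t142, t143, t144, t145, t146, t147, t148] [(7, U2), (0, U3), (65, U4), (70, U5), (75, U6), (80, U7), (85, U8), (90, U9), (95, U10), (100, U11), (105, U12), (110, U13), (115, U14), (120, U15)] = true := by decide +kernel
theorem hclose2_5_6 : closeS ap12 2145 t5 [t141, t142, t143, t144, t145, t146, t147, t148] [(7, U2), (0, U3), (65, U4), (70, U5), (75, U6), (80, U7), (85, U8), (90, U9), (95, U10), (100, U11), (105, U12), (110, U13), (115, U14), (120, U15)] = true := by decide +kernel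
theorem hclose2_7_6 : closeS ap12 2145 t7 [t141, t142, t143, t144, t145, t146, t147, t148] [(7, U2), (0, U3), (65, U4), (70, U5), (75, U6), (80, U7), (85, U8), (90, U9), (95, U10), (100, U11), (105, U12), (110, U13), (115, U14), (120, U15)] = true := by decide +kernel
theorem hclose2_9_6 : closeS ap12 2145 t9 [t141, t142, t143, t144, t145, t146, t147, t148] [(7, U2), (0, U3), (65, U4), (70, U5), (75, U6), (80, U7), (85, U8), (90, U9), (95, U10), (100, U11), (105, U12), (110, U13), (115, U14), (120, U15)] = true := by decide +kernel
theorem hclose2_11_6 : closeS ap12 2145 t11 [t141, t142, t143, t144, t145, t146, t147, t148] [(7, U2), (0, U3), (65, U4), (70, U5), (75, U6), (80, U7), (85, U8), (90, U9), (95, U10), (100, U11), (105, U12), (110, U13), (115, U14), (120, U15)] = true := by decide +kernel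
theorem hclose2_13_6 : closeS ap12 2145 t13 [t141, t142, t143, t144, t145, t146, t147, t148] [(7, U2), (0, U3), (65, U4), (70, U5), (75, U6), (80, U7), (85, U8), (90, U9), (95, U10), (100, U11), (105, U12), (110, U13), (115, U14), (120, U15)] = true := by decide +kernel
theorem hclose3_1_1 : closeS ap12 2145 t2 [t163, t164, t165, t166, t167, t168, t33] [(0, U3), (65, U4), (70, U5), (75, U6), (80, U7), (85, U8), (90, U9), (95, U10), (100, U11), (105, U12), (110, U13), (115, U14), (120, U15)] = true := by decide +kernel
theorem hclose3_4_1 : closeS ap12 2145 t5 [t163, t164, t165, t166, t167, t168, t33] [(0, U3), (65, U4), (70, U5), (75, U6), (80, U7), (85, U8), (90, U9), (95, U10), (100, U11), (105, U12), (110, U13), (115, U14), (120, U15)] = true := by decide +kernel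
theorem hclose5_1_0 : closeS ap12 2145 t4 [t14, t3, t171, t172, t22] [(70, U5), (75, U6), (80, U7), (85, U8), (90, U9), (95, U10), (100, U11), (105, U12), (110, U13), (115, U14), (120, U15)] = true := by decide +kernel
theorem hclose6_6_0 : closeS ap12 2145 t10 [t14, t4, t173, t174, t23] [(75, U6), (80, U7), (85, U8), (90, U9), (95, U10), (100, U11), (105, U12), (110, U13), (115, U14), (120, U15)] = true := by decide +kernel
theorem hclose8_3_0 : closeS ap12 2145 t9 [t14, t6, t177, t178, t25] [(85, U8), (90, U9), (95, U10), (100, U11), (105, U12), (110, U13), (115, U14), (120, U15)] = true := by decide +kernel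
theorem hclose10_4_0 : closeS ap12 2145 t12 [t14, t8, t181, t182, t27] [(95, U10), (100, U11), (105, U12), (110, U13), (115, U14), (120, U15)] = true := by decide +kernel
theorem hclose15_0_0 : closeS ap12 2145 t13 [t14, t13, t191, t192, t32] [(120, U15)] = true := by decide +kernel

end Cfsg.Agent.Lib.Helper7.UzP
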