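import Cfsg.Agent.Lib.Helper7.UzPChkA
import Cfsg.Agent.Lib.Helper7.UzPChkC0
import Cfsg.Agent.Lib.Helper7.UzPChkC1
import Cfsg.Agent.Lib.Helper7.UzPChkC2
import Cfsg.Agent.Lib.Helper7.UzPChkC3
import Cfsg.Agent.Lib.Helper7.UzPChkC4
import Cfsg.Agent.Lib.Helper7.UzPChkC5
import Cfsg.Agent.Lib.Helper7.UzPChkC6
import Cfsg.Agent.Lib.Helper7.UzPChkC7
import Cfsg.Agent.Lib.Helper7.UzPChkC8
import Cfsg.Agent.Lib.Helper7.UzPChkC9
import Cfsg.Agent.Lib.Helper7.UzPChkC10
import Cfsg.Agent.Lib.Helper7.UzPChkC11
import Cfsg.Agent.Lib.Helper7.UzPChkC12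
import Cfsg.Agent.Lib.Helper7.UzPChkC13
import Cfsg.Agent.Lib.Helper7.UzPChkC14
import Cfsg.Agent.Lib.Helper7.UzPChkC15
import Cfsg.Agent.Lib.Helper7.UzPChkV
import Cfsg.Agent.Lib.Helper7.UzPChkW
import Cfsg.Agent.Lib.Helper7.UzPChkX0
import Cfsg.Agent.Lib.Helper7.UzPChkX1
import Cfsg.Agent.Lib.Helper7.UzPChkX2
import Cfsg.Agent.Lib.Helper7.UzPChkX3

/-! Assembly of the certificate (UzP): order and element orders of the group. -/

set_option autoImplicit false
set_option maxRecDepth 1000000

namespace Cfsg.Agent.Lib.Helper7.UzP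

open Cfsg.Agent.Lib.Helper7.Sims

set_option maxHeartbeats 400000

open Equiv

theorem hclose1_0 : closeS ap12 2145 t0 U1 [(54, U1), (7, U2), (0, U3), (65, U4), (70, U5), (75, U6), (80, U7), (85, U8), (90, U9), (95, U10), (100, U11), (105, U12), (110, U13), (115, U14), (120, U15)] = true :=
  closeS_of_chunks ap12 2145 t0 [[t14, t0, t1, t15, t17, t35, t36, t37], [t38, t39, t40, t41, t42, t43, t44, t45], [t46, t47, t48, t49, t50, t51, t52, t53], [t54, t55, t56, t57, t58, t59, t60, t61], [t62, t63, t64, t65, t66, t67, t68, t69], [t70, t71, t72, t73, t74, t75, t76, t77], [t78, t79, t80, t81, t82, t83, t84, t85], [t86, t87, t88, t89, t90, t91, t92, t93], [t94]] [(54, U1), (7, U2), (0, U3), (65, U4), (70, U5), (75, U6), (80, U7), (85, U8), (90, U9), (95, U10), (100, U11), (105, U12), (110, U13), (115, U14), (120, U15)] U1 (by decide +kernel)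
    (by simp only [List.all_cons, List.all_nil, Bool.and_self, hclose1_0_0, hclose1_0_1, hclose1_0_2, hclose1_0_3, hclose1_0_4, hclose1_0_5, hclose1_0_6, hclose1_0_7, hclose1_0_8])
theorem hclose1_1 : closeS ap12 2145 t1 U1 [(54, U1), (7, U2), (0, U3), (65, U4), (70, U5), (75, U6), (80, U7), (85, U8), (90, U9), (95, U10), (100, U11), (105, U12), (110, U13), (115, U14), (120, U15)] = true :=
  closeS_of_chunks ap12 2145 t1 [[t14, t0, t1, t15, t17, t35, t36, t37], [t38, t39, t40, t41, t42, t43, t44, t45], [t46, t47, t48, t49, t50, t51, t52, t53], [t54, t55, t56, t57, t58, t59, t60, t61], [t62, t63, t64, t65, t66, t67, t68, t69], [t70, t71, t72, t73, t74, t75, t76, t77], [t78, t79, t80, t81, t82, t83, t84, t85], [t86, t87, t88, t89, t90, t91, t92, t93], [t94]] [(54, U1), (7, U2), (0, U3), (65, U4), (70, U5), (75, U6), (80, U7), (85, U8), (90, U9), (95, U10), (100, U11), (105, U12), (110, U13), (115, U14), (120, U15)] U1 (by decide +kernel)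
    (by simp only [List.all_cons, List.all_nil, Bool.and_self, hclose1_1_0, hclose1_1_1, hclose1_1_2, hclose1_1_3, hclose1_1_4, hclose1_1_5, hclose1_1_6, hclose1_1_7, hclose1_1_8])
theorem hclose1_2 : closeS ap12 2145 t2 U1 [(54, U1), (7, U2), (0, U3), (65, U4), (70, U5), (75, U6), (80, U7), (85, U8), (90, U9), (95, U10), (100, U11), (105, U12), (110, U13), (115, U14), (120, U15)] = true :=
  closeS_of_chunks ap12 2145 t2 [[t14, t0, t1, t15, t17, t35, t36, t37], [t38, t39, t40, t41, t42, t43, t44, t45], [t46, t47, t48, t49, t50, t51, t52, t53], [t54, t55, t56, t57, t58, t59, t60, t61], [t62, t63, t64, t65, t66, t67, t68, t69], [t70, t71, t72, t73, t74, t75, t76, t77], [t78, t79, t80, t81, t82, t83, t84, t85], [t86, t87, t88, t89, t90, t91, t92, t93], [t94]] [(54, U1), (7, U2), (0, U3), (65, U4), (70, U5), (75, U6), (80, U7), (85, U8), (90, U9), (95, U10), (100, U11), (105, U12), (110, U13), (115, U14), (120, U15)] U1 (by decide +kernel)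
    (by simp only [List.all_cons, List.all_nil, Bool.and_self, hclose1_2_0, hclose1_2_1, hclose1_2_2, hclose1_2_3, hclose1_2_4, hclose1_2_5, hclose1_2_6, hclose1_2_7, hclose1_2_8])
theorem hclose1_3 : closeS ap12 2145 t3 U1 [(54, U1), (7, U2), (0, U3), (65, U4), (70, U5), (75, U6), (80, U7), (85, U8), (90, U9), (95, U10), (100, U11), (105, U12), (110, U13), (115, U14), (120, U15)] = true :=
  closeS_of_chunks ap12 2145 t3 [[t14, t0, t1, t15, t17, t35, t36, t37], [t38, t39, t40, t41, t42, t43, t44, t45], [t46, t47, t48, t49, t50, t51, t52, t53], [t54, t55, t56, t57, t58, t59, t60, t61], [t62, t63, t64, t65, t66, t67, t68, t69], [t70, t71, t72, t73, t74, t75, t76, t77], [t78, t79, t80, t81, t82, t83, t84, t85], [t86, t87, t88, t89, t90, t91, t92, t93], [t94]] [(54, U1), (7, U2), (0, U3), (65, U4), (70, U5), (75, U6), (80, U7), (85, U8), (90, U9), (95, U10), (100, U11), (105, U12), (110, U13), (115, U14), (120, U15)] U1 (by decide +kernel)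
    (by simp only [List.all_cons, List.all_nil, Bool.and_self, hclose1_3_0, hclose1_3_1, hclose1_3_2, hclose1_3_3, hclose1_3_4, hclose1_3_5, hclose1_3_6, hclose1_3_7, hclose1_3_8])
theorem hclose1_4 : closeS ap12 2145 t4 U1 [(54, U1), (7, U2), (0, U3), (65, U4), (70, U5), (75, U6), (80, U7), (85, U8), (90, U9), (95, U10), (100, U11), (105, U12), (110, U13), (115, U14), (120, U15)] = true :=
  closeS_of_chunks ap12 2145 t4 [[t14, t0, t1, t15, t17, t35, t36, t37], [t38, t39, t40, t41, t42, t43, t44, t45], [t46, t47, t48, t49, t50, t51, t52, t53], [t54, t55, t56, t57, t58, t59, t60, t61], [t62, t63, t64, t65, t66, t67, t68, t69], [t70, t71, t72, t73, t74, t75, t76, t77], [t78, t79, t80, t81, t82, t83, t84, t85], [t86, t87, t88, t89, t90, t91, t92, t93], [t94]] [(54, U1), (7, U2), (0, U3), (65, U4), (70, U5), (75, U6), (80, U7), (85, U8), (90, U9), (95, U10), (100, U11), (105, U12), (110, U13), (115, U14), (120, U15)] U1 (by decide +kernel)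
    (by simp only [List.all_cons, List.all_nil, Bool.and_self, hclose1_4_0, hclose1_4_1, hclose1_4_2, hclose1_4_3, hclose1_4_4, hclose1_4_5, hclose1_4_6, hclose1_4_7, hclose1_4_8])
theorem hclose1_5 : closeS ap12 2145 t5 U1 [(54, U1), (7, U2), (0, U3), (65, U4), (70, U5), (75, U6), (80, U7), (85, U8), (90, U9), (95, U10), (100, U11), (105, U12), (110, U13), (115, U14), (120, U15)] = true :=
  closeS_of_chunks ap12 2145 t5 [[t14, t0, t1, t15, t17, t35, t36, t37], [t38, t39, t40, t41, t42, t43, t44, t45], [t46, t47, t48, t49, t50, t51, t52, t53], [t54, t55, t56, t57, t58, t59, t60, t61], [t62, t63, t64, t65, t66, t67, t68, t69], [t70, t71, t72, t73, t74, t75, t76, t77], [t78, t79, t80, t81, t82, t83, t84, t85], [t86, t87, t88, t89, t90, t91, t92, t93], [t94]] [(54, U1), (7, U2), (0, U3), (65, U4), (70, U5), (75, U6), (80, U7), (85, U8), (90, U9), (95, U10), (100, U11), (105, U12), (110, U13), (115, U14), (120, U15)] U1 (by decide +kernel)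
    (by simp only [List.all_cons, List.all_nil, Bool.and_self, hclose1_5_0, hclose1_5_1, hclose1_5_2, hclose1_5_3, hclose1_5_4, hclose1_5_5, hclose1_5_6, hclose1_5_7, hclose1_5_8])
theorem hclose1_6 : closeS ap12 2145 t6 U1 [(54, U1), (7, U2), (0, U3), (65, U4), (70, U5), (75, U6), (80, U7), (85, U8), (90, U9), (95, U10), (100, U11), (105, U12), (110, U13), (115, U14), (120, U15)] = true :=
  closeS_of_chunks ap12 2145 t6 [[t14, t0, t1, t15, t17, t35, t36, t37], [t38, t39, t40, t41, t42, t43, t44, t45], [t46, t47, t48, t49, t50, t51, t52, t53], [t54, t55, t56, t57, t58, t59, t60, t61], [t62, t63, t64, t65, t66, t67, t68, t69], [t70, t71, t72, t73, t74, t75, t76, t77], [t78, t79, t80, t81, t82, t83, t84, t85], [t86, t87, t88, t89, t90, t91, t92, t93], [t94]] [(54, U1), (7, U2), (0, U3), (65, U4), (70, U5), (75, U6), (80, U7), (85, U8), (90, U9), (95, U10), (100, U11), (105, U12), (110, U13), (115, U14), (120, U15)] U1 (by decide +kernel)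
    (by simp only [List.all_cons, List.all_nil, Bool.and_self, hclose1_6_0, hclose1_6_1, hclose1_6_2, hclose1_6_3, hclose1_6_4, hclose1_6_5, hclose1_6_6, hclose1_6_7, hclose1_6_8])
theorem hclose1_7 : closeS ap12 2145 t7 U1 [(54, U1), (7, U2), (0, U3), (65, U4), (70, U5), (75, U6), (80, U7), (85, U8), (90, U9), (95, U10), (100, U11), (105, U12), (110, U13), (115, U14), (120, U15)] = true :=
  closeS_of_chunks ap12 2145 t7 [[t14, t0, t1, t15, t17, t35, t36, t37], [t38, t39, t40, t41, t42, t43, t44, t45], [t46, t47, t48, t49, t50, t51, t52, t53], [t54, t55, t56, t57, t58, t59, t60, t61], [t62, t63, t64, t65, t66, t67, t68, t69], [t70, t71, t72, t73, t74, t75, t76, t77], [t78, t79, t80, t81, t82, t83, t84, t85], [t86, t87, t88, t89, t90, t91, t92, t93], [t94]] [(54, U1), (7, U2), (0, U3), (65, U4), (70, U5), (75, U6), (80, U7), (85, U8), (90, U9), (95, U10), (100, U11), (105, U12), (110, U13), (115, U14), (120, U15)] U1 (by decide +kernel)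
    (by simp only [List.all_cons, List.all_nil, Bool.and_self, hclose1_7_0, hclose1_7_1, hclose1_7_2, hclose1_7_3, hclose1_7_4, hclose1_7_5, hclose1_7_6, hclose1_7_7, hclose1_7_8])
theorem hclose1_8 : closeS ap12 2145 t8 U1 [(54, U1), (7, U2), (0, U3), (65, U4), (70, U5), (75, U6), (80, U7), (85, U8), (90, U9), (95, U10), (100, U11), (105, U12), (110, U13), (115, U14), (120, U15)] = true :=
  closeS_of_chunks ap12 2145 t8 [[t14, t0, t1, t15, t17, t35, t36, t37], [t38, t39, t40, t41, t42, t43, t44, t45], [t46, t47, t48, t49, t50, t51, t52, t53], [t54, t55, t56, t57, t58, t59, t60, t61], [t62, t63, t64, t65, t66, t67, t68, t69], [t70, t71, t72, t73, t74, t75, t76, t77], [t78, t79, t80, t81, t82, t83, t84, t85], [t86, t87, t88, t89, t90, t91, t92, t93], [t94]] [(54, U1), (7, U2), (0, U3), (65, U4), (70, U5), (75, U6), (80, U7), (85, U8), (90, U9), (95, U10), (100, U11), (105, U12), (110, U13), (115, U14), (120, U15)] U1 (by decide +kernel)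
    (by simp only [List.all_cons, List.all_nil, Bool.and_self, hclose1_8_0, hclose1_8_1, hclose1_8_2, hclose1_8_3, hclose1_8_4, hclose1_8_5, hclose1_8_6, hclose1_8_7, hclose1_8_8])
theorem hclose1_9 : closeS ap12 2145 t9 U1 [(54, U1), (7, U2), (0, U3), (65, U4), (70, U5), (75, U6), (80, U7), (85, U8), (90, U9), (95, U10), (100, U11), (105, U12), (110, U13), (115, U14), (120, U15)] = true :=
  closeS_of_chunks ap12 2145 t9 [[t14, t0, t1, t15, t17, t35, t36, t37], [t38, t39, t40, t41, t42, t43, t44, t45], [t46, t47, t48, t49, t50, t51, t52, t53], [t54, t55, t56, t57, t58, t59, t60, t61], [t62, t63, t64, t65, t66, t67, t68, t69], [t70, t71, t72, t73, t74, t75, t76, t77], [t78, t79, t80, t81, t82, t83, t84, t85], [t86, t87, t88, t89, t90, t91, t92, t93], [t94]] [(54, U1), (7, U2), (0, U3), (65, U4), (70, U5), (75, U6), (80, U7), (85, U8), (90, U9), (95, U10), (100, U11), (105, U12), (110, U13), (115, U14), (120, U15)] U1 (by decide +kernel)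
    (by simp only [List.all_cons, List.all_nil, Bool.and_self, hclose1_9_0, hclose1_9_1, hclose1_9_2, hclose1_9_3, hclose1_9_4, hclose1_9_5, hclose1_9_6, hclose1_9_7, hclose1_9_8])
theorem hclose1_10 : closeS ap12 2145 t10 U1 [(54, U1), (7, U2), (0, U3), (65, U4), (70, U5), (75, U6), (80, U7), (85, U8), (90, U9), (95, U10), (100, U11), (105, U12), (110, U13), (115, U14), (120, U15)] = true :=
  closeS_of_chunks ap12 2145 t10 [[t14, t0, t1, t15, t17, t35, t36, t37], [t38, t39, t40, t41, t42, t43, t44, t45], [t46, t47, t48, t49, t50, t51, t52, t53], [t54, t55, t56, t57, t58, t59, t60, t61], [t62, t63, t64, t65, t66, t67, t68, t69], [t70, t71, t72, t73, t74, t75, t76, t77], [t78, t79, t80, t81, t82, t83, t84, t85], [t86, t87, t88, t89, t90, t91, t92, t93], [t94]] [(54, U1), (7, U2), (0, U3), (65, U4), (70, U5), (75, U6), (80, U7), (85, U8), (90, U9), (95, U10), (100, U11), (105, U12), (110, U13), (115, U14), (120, U15)] U1 (by decide +kernel)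
    (by simp only [List.all_cons, List.all_nil, Bool.and_self, hclose1_10_0, hclose1_10_1, hclose1_10_2, hclose1_10_3, hclose1_10_4, hclose1_10_5, hclose1_10_6, hclose1_10_7, hclose1_10_8])
theorem hclose1_11 : closeS ap12 2145 t11 U1 [(54, U1), (7, U2), (0, U3), (65, U4), (70, U5), (75, U6), (80, U7), (85, U8), (90, U9), (95, U10), (100, U11), (105, U12), (110, U13), (115, U14), (120, U15)] = true :=
  closeS_of_chunks ap12 2145 t11 [[t14, t0, t1, t15, t17, t35, t36, t37], [t38, t39, t40, t41, t42, t43, t44, t45], [t46, t47, t48, t49, t50, t51, t52, t53], [t54, t55, t56, t57, t58, t59, t60, t61], [t62, t63, t64, t65, t66, t67, t68, t69], [t70, t71, t72, t73, t74, t75, t76, t77], [t78, t79, t80, t81, t82, t83, t84, t85], [t86, t87, t88, t89, t90, t91, t92, t93], [t94]] [(54, U1), (7, U2), (0, U3), (65, U4), (70, U5), (75, U6), (80, U7), (85, U8), (90, U9), (95, U10), (100, U11), (105, U12), (110, U13), (115, U14), (120, U15)] U1 (by decide +kernel)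
    (by simp only [List.all_cons, List.all_nil, Bool.and_self, hclose1_11_0, hclose1_11_1, hclose1_11_2, hclose1_11_3, hclose1_11_4, hclose1_11_5, hclose1_11_6, hclose1_11_7, hclose1_11_8])
theorem hclose1_12 : closeS ap12 2145 t12 U1 [(54, U1), (7, U2), (0, U3), (65, U4), (70, U5), (75, U6), (80, U7), (85, U8), (90, U9), (95, U10), (100, U11), (105, U12), (110, U13), (115, U14), (120, U15)] = true :=
  closeS_of_chunks ap12 2145 t12 [[t14, t0, t1, t15, t17, t35, t36, t37], [t38, t39, t40, t41, t42, t43, t44, t45], [t46, t47, t48, t49, t50, t51, t52, t53], [t54, t55, t56, t57, t58, t59, t60, t61], [t62, t63, t64, t65, t66, t67, t68, t69], [t70, t71, t72, t73, t74, t75, t76, t77], [t78, t79, t80, t81, t82, t83, t84, t85], [t86, t87, t88, t89, t90, t91, t92, t93], [t94]] [(54, U1), (7, U2), (0, U3), (65, U4), (70, U5), (75, U6), (80, U7), (85, U8), (90, U9), (95, U10), (100, U11), (105, U12), (110, U13), (115, U14), (120, U15)] U1 (by decide +kernel)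
    (by simp only [List.all_cons, List.all_nil, Bool.and_self, hclose1_12_0, hclose1_12_1, hclose1_12_2, hclose1_12_3, hclose1_12_4, hclose1_12_5, hclose1_12_6, hclose1_12_7, hclose1_12_8])
theorem hclose1_13 : closeS ap12 2145 t13 U1 [(54, U1), (7, U2), (0, U3), (65, U4), (70, U5), (75, U6), (80, U7), (85, U8), (90, U9), (95, U10), (100, U11), (105, U12), (110, U13), (115, U14), (120, U15)] = true :=
  closeS_of_chunks ap12 2145 t13 [[t14, t0, t1, t15, t17, t35, t36, t37], [t38, t39, t40, t41, t42, t43, t44, t45], [t46, t47, t48, t49, t50, t51, t52, t53], [t54, t55, t56, t57, t58, t59, t60, t61], [t62, t63, t64, t65, t66, t67, t68, t69], [t70, t71, t72, t73, t74, t75, t76, t77], [t78, t79, t80, t81, t82, t83, t84, t85], [t86, t87, t88, t89, t90, t91, t92, t93], [t94]] [(54, U1), (7, U2), (0, U3), (65, U4), (70, U5), (75, U6), (80, U7), (85, U8), (90, U9), (95, U10), (100, U11), (105, U12), (110, U13), (115, U14), (120, U15)] U1 (by decide +kernel)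
    (by simp only [List.all_cons, List.all_nil, Bool.and_self, hclose1_13_0, hclose1_13_1, hclose1_13_2, hclose1_13_3, hclose1_13_4, hclose1_13_5, hclose1_13_6, hclose1_13_7, hclose1_13_8])
theorem hclose1_14 : closeS ap12 2145 t16 U1 [(54, U1), (7, U2), (0, U3), (65, U4), (70, U5), (75, U6), (80, U7), (85, U8), (90, U9), (95, U10), (100, U11), (105, U12), (110, U13), (115, U14), (120, U15)] = true :=
  closeS_of_chunks ap12 2145 t16 [[t14, t0, t1, t15, t17, t35, t36, t37], [t38, t39, t40, t41, t42, t43, t44, t45], [t46, t47, t48, t49, t50, t51, t52, t53], [t54, t55, t56, t57, t58, t59, t60, t61], [t62, t63, t64, t65, t66, t67, t68, t69], [t70, t71, t72, t73, t74, t75, t76, t77], [t78, t79, t80, t81, t82, t83, t84, t85], [t86, t87, t88, t89, t90, t91, t92, t93], [t94]] [(54, U1), (7, U2), (0, U3), (65, U4), (70, U5), (75, U6), (80, U7), (85, U8), (90, U9), (95, U10), (100, U11), (105, U12), (110, U13), (115, U14), (120, U15)] U1 (by decide +kernel)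
    (by simp only [List.all_cons, List.all_nil, Bool.and_self, hclose1_14_0, hclose1_14_1, hclose1_14_2, hclose1_14_3, hclose1_14_4, hclose1_14_5, hclose1_14_6, hclose1_14_7, hclose1_14_8])
theorem hclose1_15 : closeS ap12 2145 t18 U1 [(54, U1), (7, U2), (0, U3), (65, U4), (70, U5), (75, U6), (80, U7), (85, U8), (90, U9), (95, U10), (100, U11), (105, U12), (110, U13), (115, U14), (120, U15)] = true :=
  closeS_of_chunks ap12 2145 t18 [[t14, t0, t1, t15, t17, t35, t36, t37], [t38, t39, t40, t41, t42, t43, t44, t45], [t46, t47, t48, t49, t50, t51, t52, t53], [t54, t55, t56, t57, t58, t59, t60, t61], [t62, t63, t64, t65, t66, t67, t68, t69], [t70, t71, t72, t73, t74, t75, t76, t77], [t78, t79, t80, t81, t82, t83, t84, t85], [t86, t87, t88, t89, t90, t91, t92, t93], [t94]] [(54, U1), (7, U2), (0, U3), (65, U4), (70, U5), (75, U6), (80, U7), (85, U8), (90, U9), (95, U10), (100, U11), (105, U12), (110, U13), (115, U14), (120, U15)] U1 (by decide +kernel)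
    (by simp only [List.all_cons, List.all_nil, Bool.and_self, hclose1_15_0, hclose1_15_1, hclose1_15_2, hclose1_15_3, hclose1_15_4, hclose1_15_5, hclose1_15_6, hclose1_15_7, hclose1_15_8])
theorem hclose1 : Sn1.all (fun s => closeS ap12 2145 s U1 [(54, U1), (7, U2), (0, U3), (65, U4), (70, U5), (75, U6), (80, U7), (85, U8), (90, U9), (95, U10), (100, U11), (105, U12), (110, U13), (115, U14), (120, U15)]) = true := by
  simp only [Sn1, List.all_cons, List.all_nil, Bool.and_self, hclose1_0, hclose1_1, hclose1_2, hclose1_3, hclose1_4, hclose1_5, hclose1_6, hclose1_7, hclose1_8, hclose1_9, hclose1_10, hclose1_11, hclose1_12, hclose1_13, hclose1_14, hclose1_15]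
theorem hclose2_0 : closeS ap12 2145 t16 U2 [(7, U2), (0, U3), (65, U4), (70, U5), (75, U6), (80, U7), (85, U8), (90, U9), (95, U10), (100, U11), (105, U12), (110, U13), (115, U14), (120, U15)] = true :=
  closeS_of_chunks ap12 2145 t16 [[t14, t18, t95, t96, t97, t98, t99, t100], [t101, t102, t103, t104, t105, t106, t107, t108], [t109, t110, t111, t112, t113, t114, t115, t116], [t117, t118, t119, t120, t121, t122, t123, t124], [t125, t126, t127, t128, t129, t130, t131, t132], [t133, t134, t135, t136, t137, t138, t139, t140], [t141, t142, t143, t144, t145, t146, t147, t148], [t149, t150, t151, t152, t153, t154, t155, t156]] [(7, U2), (0, U3), (65, U4), (70, U5), (75, U6), (80, U7), (85, U8), (90, U9), (95, U10), (100, U11), (105, U12), (110, U13), (115, U14), (120, U15)] U2 (by decide +kernel)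
    (by simp only [List.all_cons, List.all_nil, Bool.and_self, hclose2_0_0, hclose2_0_1, hclose2_0_2, hclose2_0_3, hclose2_0_4, hclose2_0_5, hclose2_0_6, hclose2_0_7])
theorem hclose2_1 : closeS ap12 2145 t18 U2 [(7, U2), (0, U3), (65, U4), (70, U5), (75, U6), (80, U7), (85, U8), (90, U9), (95, U10), (100, U11), (105, U12), (110, U13), (115, U14), (120, U15)] = true :=
  closeS_of_chunks ap12 2145 t18 [[t14, t18, t95, t96, t97, t98, t99, t100], [t101, t102, t103, t104, t105, t106, t107, t108], [t109, t110, t111, t112, t113, t114, t115, t116], [t117, t118, t119, t120, t121, t122, t123, t124], [t125, t126, t127, t128, t129, t130, t131, t132], [t133, t134, t135, t136, t137, t138, t139, t140], [t141, t142, t143, t144, t145, t146, t147, t148], [t149, t150, t151, t152, t153, t154, t155, t156]] [(7, U2), (0, U3), (65, U4), (70, U5), (75, U6), (80, U7), (85, U8), (90, U9), (95, U10), (100, U11), (105, U12), (110, U13), (115, U14), (120, U15)] U2 (by decide +kernel)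
    (by simp only [List.all_cons, List.all_nil, Bool.and_self, hclose2_1_0, hclose2_1_1, hclose2_1_2, hclose2_1_3, hclose2_1_4, hclose2_1_5, hclose2_1_6, hclose2_1_7])
theorem hclose2_2 : closeS ap12 2145 t2 U2 [(7, U2), (0, U3), (65, U4), (70, U5), (75, U6), (80, U7), (85, U8), (90, U9), (95, U10), (100, U11), (105, U12), (110, U13), (115, U14), (120, U15)] = true :=
  closeS_of_chunks ap12 2145 t2 [[t14, t18, t95, t96, t97, t98, t99, t100], [t101, t102, t103, t104, t105, t106, t107, t108], [t109, t110, t111, t112, t113, t114, t115, t116], [t117, t118, t119, t120, t121, t122, t123, t124], [t125, t126, t127, t128, t129, t130, t131, t132], [t133, t134, t135, t136, t137, t138, t139, t140], [t141, t142, t143, t144, t145, t146, t147, t148], [t149, t150, t151, t152, t153, t154, t155, t156]] [(7, U2), (0, U3), (65, U4), (70, U5), (75, U6), (80, U7), (85, U8), (90, U9), (95, U10), (100, U11), (105, U12), (110, U13), (115, U14), (120, U15)] U2 (by decide +kernel)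
    (by simp only [List.all_cons, List.all_nil, Bool.and_self, hclose2_2_0, hclose2_2_1, hclose2_2_2, hclose2_2_3, hclose2_2_4, hclose2_2_5, hclose2_2_6, hclose2_2_7])
theorem hclose2_3 : closeS ap12 2145 t3 U2 [(7, U2), (0, U3), (65, U4), (70, U5), (75, U6), (80, U7), (85, U8), (90, U9), (95, U10), (100, U11), (105, U12), (110, U13), (115, U14), (120, U15)] = true :=
  closeS_of_chunks ap12 2145 t3 [[t14, t18, t95, t96, t97, t98, t99, t100], [t101, t102, t103, t104, t105, t106, t107, t108], [t109, t110, t111, t112, t113, t114, t115, t116], [t117, t118, t119, t120, t121, t122, t123, t124], [t125, t126, t127, t128, t129, t130, t131, t132], [t133, t134, t135, t136, t137, t138, t139, t140], [t141, t142, t143, t144, t145, t146, t147, t148], [t149, t150, t151, t152, t153, t154, t155, t156]] [(7, U2), (0, U3), (65, U4), (70, U5), (75, U6), (80, U7), (85, U8), (90, U9), (95, U10), (100, U11), (105, U12), (110, U13), (115, U14), (120, U15)] U2 (by decide +kernel)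
    (by simp only [List.all_cons, List.all_nil, Bool.and_self, hclose2_3_0, hclose2_3_1, hclose2_3_2, hclose2_3_3, hclose2_3_4, hclose2_3_5, hclose2_3_6, hclose2_3_7])
theorem hclose2_4 : closeS ap12 2145 t4 U2 [(7, U2), (0, U3), (65, U4), (70, U5), (75, U6), (80, U7), (85, U8), (90, U9), (95, U10), (100, U11), (105, U12), (110, U13), (115, U14), (120, U15)] = true :=
  closeS_of_chunks ap12 2145 t4 [[t14, t18, t95, t96, t97, t98, t99, t100], [t101, t102, t103, t104, t105, t106, t107, t108], [t109, t110, t111, t112, t113, t114, t115, t116], [t117, t118, t119, t120, t121, t122, t123, t124], [t125, t126, t127, t128, t129, t130, t131, t132], [t133, t134, t135, t136, t137, t138, t139, t140], [t141, t142, t143, t144, t145, t146, t147, t148], [t149, t150, t151, t152, t153, t154, t155, t156]] [(7, U2), (0, U3), (65, U4), (70, U5), (75, U6), (80, U7), (85, U8), (90, U9), (95, U10), (100, U11), (105, U12), (110, U13), (115, U14), (120, U15)] U2 (by decide +kernel)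
    (by simp only [List.all_cons, List.all_nil, Bool.and_self, hclose2_4_0, hclose2_4_1, hclose2_4_2, hclose2_4_3, hclose2_4_4, hclose2_4_5, hclose2_4_6, hclose2_4_7])
theorem hclose2_5 : closeS ap12 2145 t5 U2 [(7, U2), (0, U3), (65, U4), (70, U5), (75, U6), (80, U7), (85, U8), (90, U9), (95, U10), (100, U11), (105, U12), (110, U13), (115, U14), (120, U15)] = true :=
  closeS_of_chunks ap12 2145 t5 [[t14, t18, t95, t96, t97, t98, t99, t100], [t101, t102, t103, t104, t105, t106, t107, t108], [t109, t110, t111, t112, t113, t114, t115, t116], [t117, t118, t119, t120, t121, t122, t123, t124], [t125, t126, t127, t128, t129, t130, t131, t132], [t133, t134, t135, t136, t137, t138, t139, t140], [t141, t142, t143, t144, t145, t146, t147, t148], [t149, t150, t151, t152, t153, t154, t155, t156]] [(7, U2), (0, U3), (65, U4), (70, U5), (75, U6), (80, U7), (85, U8), (90, U9), (95, U10), (100, U11), (105, U12), (110, U13), (115, U14), (120, U15)] U2 (by decide +kernel)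
    (by simp only [List.all_cons, List.all_nil, Bool.and_self, hclose2_5_0, hclose2_5_1, hclose2_5_2, hclose2_5_3, hclose2_5_4, hclose2_5_5, hclose2_5_6, hclose2_5_7])
theorem hclose2_6 : closeS ap12 2145 t6 U2 [(7, U2), (0, U3), (65, U4), (70, U5), (75, U6), (80, U7), (85, U8), (90, U9), (95, U10), (100, U11), (105, U12), (110, U13), (115, U14), (120, U15)] = true :=
  closeS_of_chunks ap12 2145 t6 [[t14, t18, t95, t96, t97, t98, t99, t100], [t101, t102, t103, t104, t105, t106, t107, t108], [t109, t110, t111, t112, t113, t114, t115, t116], [t117, t118, t119, t120, t121, t122, t123, t124], [t125, t126, t127, t128, t129, t130, t131, t132], [t133, t134, t135, t136, t137, t138, t139, t140], [t141, t142, t143, t144, t145, t146, t147, t148], [t149, t150, t151, t152, t153, t154, t155, t156]] [(7, U2), (0, U3), (65, U4), (70, U5), (75, U6), (80, U7), (85, U8), (90, U9), (95, U10), (100, U11), (105, U12), (110, U13), (115, U14), (120, U15)] U2 (by decide +kernel)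
    (by simp only [List.all_cons, List.all_nil, Bool.and_self, hclose2_6_0, hclose2_6_1, hclose2_6_2, hclose2_6_3, hclose2_6_4, hclose2_6_5, hclose2_6_6, hclose2_6_7])
theorem hclose2_7 : closeS ap12 2145 t7 U2 [(7, U2), (0, U3), (65, U4), (70, U5), (75, U6), (80, U7), (85, U8), (90, U9), (95, U10), (100, U11), (105, U12), (110, U13), (115, U14), (120, U15)] = true :=
  closeS_of_chunks ap12 2145 t7 [[t14, t18, t95, t96, t97, t98, t99, t100], [t101, t102, t103, t104, t105, t106, t107, t108], [t109, t110, t111, t112, t113, t114, t115, t116], [t117, t118, t119, t120, t121, t122, t123, t124], [t125, t126, t127, t128, t129, t130, t131, t132], [t133, t134, t135, t136, t137, t138, t139, t140], [t141, t142, t143, t144, t145, t146, t147, t148], [t149, t150, t151, t152, t153, t154, t155, t156]] [(7, U2), (0, U3), (65, U4), (70, U5), (75, U6), (80, U7), (85, U8), (90, U9), (95, U10), (100, U11), (105, U12), (110, U13), (115, U14), (120, U15)] U2 (by decide +kernel)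
    (by simp only [List.all_cons, List.all_nil, Bool.and_self, hclose2_7_0, hclose2_7_1, hclose2_7_2, hclose2_7_3, hclose2_7_4, hclose2_7_5, hclose2_7_6, hclose2_7_7])
theorem hclose2_8 : closeS ap12 2145 t8 U2 [(7, U2), (0, U3), (65, U4), (70, U5), (75, U6), (80, U7), (85, U8), (90, U9), (95, U10), (100, U11), (105, U12), (110, U13), (115, U14), (120, U15)] = true :=
  closeS_of_chunks ap12 2145 t8 [[t14, t18, t95, t96, t97, t98, t99, t100], [t101, t102, t103, t104, t105, t106, t107, t108], [t109, t110, t111, t112, t113, t114, t115, t116], [t117, t118, t119, t120, t121, t122, t123, t124], [t125, t126, t127, t128, t129, t130, t131, t132], [t133, t134, t135, t136, t137, t138, t139, t140], [t141, t142, t143, t144, t145, t146, t147, t148], [t149, t150, t151, t152, t153, t154, t155, t156]] [(7, U2), (0, U3), (65, U4), (70, U5), (75, U6), (80, U7), (85, U8), (90, U9), (95, U10), (100, U11), (105, U12), (110, U13), (115, U14), (120, U15)] U2 (by decide +kernel)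
    (by simp only [List.all_cons, List.all_nil, Bool.and_self, hclose2_8_0, hclose2_8_1, hclose2_8_2, hclose2_8_3, hclose2_8_4, hclose2_8_5, hclose2_8_6, hclose2_8_7])
theorem hclose2_9 : closeS ap12 2145 t9 U2 [(7, U2), (0, U3), (65, U4), (70, U5), (75, U6), (80, U7), (85, U8), (90, U9), (95, U10), (100, U11), (105, U12), (110, U13), (115, U14), (120, U15)] = true :=
  closeS_of_chunks ap12 2145 t9 [[t14, t18, t95, t96, t97, t98, t99, t100], [t101, t102, t103, t104, t105, t106, t107, t108], [t109, t110, t111, t112, t113, t114, t115, t116], [t117, t118, t119, t120, t121, t122, t123, t124], [t125, t126, t127, t128, t129, t130, t131, t132], [t133, t134, t135, t136, t137, t138, t139, t140], [t141, t142, t143, t144, t145, t146, t147, t148], [t149, t150, t151, t152, t153, t154, t155, t156]] [(7, U2), (0, U3), (65, U4), (70, U5), (75, U6), (80, U7), (85, U8), (90, U9), (95, U10), (100, U11), (105, U12), (110, U13), (115, U14), (120, U15)] U2 (by decide +kernel)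
    (by simp only [List.all_cons, List.all_nil, Bool.and_self, hclose2_9_0, hclose2_9_1, hclose2_9_2, hclose2_9_3, hclose2_9_4, hclose2_9_5, hclose2_9_6, hclose2_9_7])
theorem hclose2_10 : closeS ap12 2145 t10 U2 [(7, U2), (0, U3), (65, U4), (70, U5), (75, U6), (80, U7), (85, U8), (90, U9), (95, U10), (100, U11), (105, U12), (110, U13), (115, U14), (120, U15)] = true :=
  closeS_of_chunks ap12 2145 t10 [[t14, t18, t95, t96, t97, t98, t99, t100], [t101, t102, t103, t104, t105, t106, t107, t108], [t109, t110, t111, t112, t113, t114, t115, t116], [t117, t118, t119, t120, t121, t122, t123, t124], [t125, t126, t127, t128, t129, t130, t131, t132], [t133, t134, t135, t136, t137, t138, t139, t140], [t141, t142, t143, t144, t145, t146, t147, t148], [t149, t150, t151, t152, t153, t154, t155, t156]] [(7, U2), (0, U3), (65, U4), (70, U5), (75, U6), (80, U7), (85, U8), (90, U9), (95, U10), (100, U11), (105, U12), (110, U13), (115, U14), (120, U15)] U2 (by decide +kernel)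
    (by simp only [List.all_cons, List.all_nil, Bool.and_self, hclose2_10_0, hclose2_10_1, hclose2_10_2, hclose2_10_3, hclose2_10_4, hclose2_10_5, hclose2_10_6, hclose2_10_7])
theorem hclose2_11 : closeS ap12 2145 t11 U2 [(7, U2), (0, U3), (65, U4), (70, U5), (75, U6), (80, U7), (85, U8), (90, U9), (95, U10), (100, U11), (105, U12), (110, U13), (115, U14), (120, U15)] = true :=
  closeS_of_chunks ap12 2145 t11 [[t14, t18, t95, t96, t97, t98, t99, t100], [t101, t102, t103, t104, t105, t106, t107, t108], [t109, t110, t111, t112, t113, t114, t115, t116], [t117, t118, t119, t120, t121, t122, t123, t124], [t125, t126, t127, t128, t129, t130, t131, t132], [t133, t134, t135, t136, t137, t138, t139, t140], [t141, t142, t143, t144, t145, t146, t147, t148], [t149, t150, t151, t152, t153, t154, t155, t156]] [(7, U2), (0, U3), (65, U4), (70, U5), (75, U6), (80, U7), (85, U8), (90, U9), (95, U10), (100, U11), (105, U12), (110, U13), (115, U14), (120, U15)] U2 (by decide +kernel)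
    (by simp only [List.all_cons, List.all_nil, Bool.and_self, hclose2_11_0, hclose2_11_1, hclose2_11_2, hclose2_11_3, hclose2_11_4, hclose2_11_5, hclose2_11_6, hclose2_11_7])
theorem hclose2_12 : closeS ap12 2145 t12 U2 [(7, U2), (0, U3), (65, U4), (70, U5), (75, U6), (80, U7), (85, U8), (90, U9), (95, U10), (100, U11), (105, U12), (110, U13), (115, U14), (120, U15)] = true :=
  closeS_of_chunks ap12 2145 t12 [[t14, t18, t95, t96, t97, t98, t99, t100], [t101, t102, t103, t104, t105, t106, t107, t108], [t109, t110, t111, t112, t113, t114, t115, t116], [t117, t118, t119, t120, t121, t122, t123, t124], [t125, t126, t127, t128, t129, t130, t131, t132], [t133, t134, t135, t136, t137, t138, t139, t140], [t141, t142, t143, t144, t145, t146, t147, t148], [t149, t150, t151, t152, t153, t154, t155, t156]] [(7, U2), (0, U3), (65, U4), (70, U5), (75, U6), (80, U7), (85, U8), (90, U9), (95, U10), (100, U11), (105, U12), (110, U13), (115, U14), (120, U15)] U2 (by decide +kernel)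
    (by simp only [List.all_cons, List.all_nil, Bool.and_self, hclose2_12_0, hclose2_12_1, hclose2_12_2, hclose2_12_3, hclose2_12_4, hclose2_12_5, hclose2_12_6, hclose2_12_7])
theorem hclose2_13 : closeS ap12 2145 t13 U2 [(7, U2), (0, U3), (65, U4), (70, U5), (75, U6), (80, U7), (85, U8), (90, U9), (95, U10), (100, U11), (105, U12), (110, U13), (115, U14), (120, U15)] = true :=
  closeS_of_chunks ap12 2145 t13 [[t14, t18, t95, t96, t97, t98, t99, t100], [t101, t102, t103, t104, t105, t106, t107, t108], [t109, t110, t111, t112, t113, t114, t115, t116], [t117, t118, t119, t120, t121, t122, t123, t124], [t125, t126, t127, t128, t129, t130, t131, t132], [t133, t134, t135, t136, t137, t138, t139, t140], [t141, t142, t143, t144, t145, t146, t147, t148], [t149, t150, t151, t152, t153, t154, t155, t156]] [(7, U2), (0, U3), (65, U4), (70, U5), (75, U6), (80, U7), (85, U8), (90, U9), (95, U10), (100, U11), (105, U12), (110, U13), (115, U14), (120, U15)] U2 (by decide +kernel)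
    (by simp only [List.all_cons, List.all_nil, Bool.and_self, hclose2_13_0, hclose2_13_1, hclose2_13_2, hclose2_13_3, hclose2_13_4, hclose2_13_5, hclose2_13_6, hclose2_13_7])
theorem hclose2 : Sn2.all (fun s => closeS ap12 2145 s U2 [(7, U2), (0, U3), (65, U4), (70, U5), (75, U6), (80, U7), (85, U8), (90, U9), (95, U10), (100, U11), (105, U12), (110, U13), (115, U14), (120, U15)]) = true := by
  simp only [Sn2, List.all_cons, List.all_nil, Bool.and_self, hclose2_0, hclose2_1, hclose2_2, hclose2_3, hclose2_4, hclose2_5, hclose2_6, hclose2_7, hclose2_8, hclose2_9, hclose2_10, hclose2_11, hclose2_12, hclose2_13]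
theorem hclose3_0 : closeS ap12 2145 t16 U3 [(0, U3), (65, U4), (70, U5), (75, U6), (80, U7), (85, U8), (90, U9), (95, U10), (100, U11), (105, U12), (110, U13), (115, U14), (120, U15)] = true :=
  closeS_of_chunks ap12 2145 t16 [[t14, t16, t157, t158, t159, t160, t161, t162], [t163, t164, t165, t166, t167, t168, t33]] [(0, U3), (65, U4), (70, U5), (75, U6), (80, U7), (85, U8), (90, U9), (95, U10), (100, U11), (105, U12), (110, U13), (115, U14), (120, U15)] U3 (by decide +kernel)
    (by simp only [List.all_cons, List.all_nil, Bool.and_self, hclose3_0_0, hclose3_0_1])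
theorem hclose3_1 : closeS ap12 2145 t2 U3 [(0, U3), (65, U4), (70, U5), (75, U6), (80, U7), (85, U8), (90, U9), (95, U10), (100, U11), (105, U12), (110, U13), (115, U14), (120, U15)] = true :=
  closeS_of_chunks ap12 2145 t2 [[t14, t16, t157, t158, t159, t160, t161, t162], [t163, t164, t165, t166, t167, t168, t33]] [(0, U3), (65, U4), (70, U5), (75, U6), (80, U7), (85, U8), (90, U9), (95, U10), (100, U11), (105, U12), (110, U13), (115, U14), (120, U15)] U3 (by decide +kernel)
    (by simp only [List.all_cons, List.all_nil, Bool.and_self, hclose3_1_0, hclose3_1_1])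
theorem hclose3_2 : closeS ap12 2145 t3 U3 [(0, U3), (65, U4), (70, U5), (75, U6), (80, U7), (85, U8), (90, U9), (95, U10), (100, U11), (105, U12), (110, U13), (115, U14), (120, U15)] = true :=
  closeS_of_chunks ap12 2145 t3 [[t14, t16, t157, t158, t159, t160, t161, t162], [t163, t164, t165, t166, t167, t168, t33]] [(0, U3), (65, U4), (70, U5), (75, U6), (80, U7), (85, U8), (90, U9), (95, U10), (100, U11), (105, U12), (110, U13), (115, U14), (120, U15)] U3 (by decide +kernel)
    (by simp only [List.all_cons, List.all_nil, Bool.and_self, hclose3_2_0, hclose3_2_1])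
theorem hclose3_3 : closeS ap12 2145 t4 U3 [(0, U3), (65, U4), (70, U5), (75, U6), (80, U7), (85, U8), (90, U9), (95, U10), (100, U11), (105, U12), (110, U13), (115, U14), (120, U15)] = true :=
  closeS_of_chunks ap12 2145 t4 [[t14, t16, t157, t158, t159, t160, t161, t162], [t163, t164, t165, t166, t167, t168, t33]] [(0, U3), (65, U4), (70, U5), (75, U6), (80, U7), (85, U8), (90, U9), (95, U10), (100, U11), (105, U12), (110, U13), (115, U14), (120, U15)] U3 (by decide +kernel)
    (by simp only [List.all_cons, List.all_nil, Bool.and_self, hclose3_3_0, hclose3_3_1])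
theorem hclose3_4 : closeS ap12 2145 t5 U3 [(0, U3), (65, U4), (70, U5), (75, U6), (80, U7), (85, U8), (90, U9), (95, U10), (100, U11), (105, U12), (110, U13), (115, U14), (120, U15)] = true :=
  closeS_of_chunks ap12 2145 t5 [[t14, t16, t157, t158, t159, t160, t161, t162], [t163, t164, t165, t166, t167, t168, t33]] [(0, U3), (65, U4), (70, U5), (75, U6), (80, U7), (85, U8), (90, U9), (95, U10), (100, U11), (105, U12), (110, U13), (115, U14), (120, U15)] U3 (by decide +kernel)
    (by simp only [List.all_cons, List.all_nil, Bool.and_self, hclose3_4_0, hclose3_4_1])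
theorem hclose3_5 : closeS ap12 2145 t6 U3 [(0, U3), (65, U4), (70, U5), (75, U6), (80, U7), (85, U8), (90, U9), (95, U10), (100, U11), (105, U12), (110, U13), (115, U14), (120, U15)] = true :=
  closeS_of_chunks ap12 2145 t6 [[t14, t16, t157, t158, t159, t160, t161, t162], [t163, t164, t165, t166, t167, t168, t33]] [(0, U3), (65, U4), (70, U5), (75, U6), (80, U7), (85, U8), (90, U9), (95, U10), (100, U11), (105, U12), (110, U13), (115, U14), (120, U15)] U3 (by decide +kernel)
    (by simp only [List.all_cons, List.all_nil, Bool.and_self, hclose3_5_0, hclose3_5_1])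
theorem hclose3_6 : closeS ap12 2145 t7 U3 [(0, U3), (65, U4), (70, U5), (75, U6), (80, U7), (85, U8), (90, U9), (95, U10), (100, U11), (105, U12), (110, U13), (115, U14), (120, U15)] = true :=
  closeS_of_chunks ap12 2145 t7 [[t14, t16, t157, t158, t159, t160, t161, t162], [t163, t164, t165, t166, t167, t168, t33]] [(0, U3), (65, U4), (70, U5), (75, U6), (80, U7), (85, U8), (90, U9), (95, U10), (100, U11), (105, U12), (110, U13), (115, U14), (120, U15)] U3 (by decide +kernel)
    (by simp only [List.all_cons, List.all_nil, Bool.and_self, hclose3_6_0, hclose3_6_1])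
theorem hclose3_7 : closeS ap12 2145 t8 U3 [(0, U3), (65, U4), (70, U5), (75, U6), (80, U7), (85, U8), (90, U9), (95, U10), (100, U11), (105, U12), (110, U13), (115, U14), (120, U15)] = true :=
  closeS_of_chunks ap12 2145 t8 [[t14, t16, t157, t158, t159, t160, t161, t162], [t163, t164, t165, t166, t167, t168, t33]] [(0, U3), (65, U4), (70, U5), (75, U6), (80, U7), (85, U8), (90, U9), (95, U10), (100, U11), (105, U12), (110, U13), (115, U14), (120, U15)] U3 (by decide +kernel)
    (by simp only [List.all_cons, List.all_nil, Bool.and_self, hclose3_7_0, hclose3_7_1])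
theorem hclose3_8 : closeS ap12 2145 t9 U3 [(0, U3), (65, U4), (70, U5), (75, U6), (80, U7), (85, U8), (90, U9), (95, U10), (100, U11), (105, U12), (110, U13), (115, U14), (120, U15)] = true :=
  closeS_of_chunks ap12 2145 t9 [[t14, t16, t157, t158, t159, t160, t161, t162], [t163, t164, t165, t166, t167, t168, t33]] [(0, U3), (65, U4), (70, U5), (75, U6), (80, U7), (85, U8), (90, U9), (95, U10), (100, U11), (105, U12), (110, U13), (115, U14), (120, U15)] U3 (by decide +kernel)
    (by simp only [List.all_cons, List.all_nil, Bool.and_self, hclose3_8_0, hclose3_8_1])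
theorem hclose3_9 : closeS ap12 2145 t10 U3 [(0, U3), (65, U4), (70, U5), (75, U6), (80, U7), (85, U8), (90, U9), (95, U10), (100, U11), (105, U12), (110, U13), (115, U14), (120, U15)] = true :=
  closeS_of_chunks ap12 2145 t10 [[t14, t16, t157, t158, t159, t160, t161, t162], [t163, t164, t165, t166, t167, t168, t33]] [(0, U3), (65, U4), (70, U5), (75, U6), (80, U7), (85, U8), (90, U9), (95, U10), (100, U11), (105, U12), (110, U13), (115, U14), (120, U15)] U3 (by decide +kernel)
    (by simp only [List.all_cons, List.all_nil, Bool.and_self, hclose3_9_0, hclose3_9_1])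
theorem hclose3_10 : closeS ap12 2145 t11 U3 [(0, U3), (65, U4), (70, U5), (75, U6), (80, U7), (85, U8), (90, U9), (95, U10), (100, U11), (105, U12), (110, U13), (115, U14), (120, U15)] = true :=
  closeS_of_chunks ap12 2145 t11 [[t14, t16, t157, t158, t159, t160, t161, t162], [t163, t164, t165, t166, t167, t168, t33]] [(0, U3), (65, U4), (70, U5), (75, U6), (80, U7), (85, U8), (90, U9), (95, U10), (100, U11), (105, U12), (110, U13), (115, U14), (120, U15)] U3 (by decide +kernel)
    (by simp only [List.all_cons, List.all_nil, Bool.and_self, hclose3_10_0, hclose3_10_1])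
theorem hclose3_11 : closeS ap12 2145 t12 U3 [(0, U3), (65, U4), (70, U5), (75, U6), (80, U7), (85, U8), (90, U9), (95, U10), (100, U11), (105, U12), (110, U13), (115, U14), (120, U15)] = true :=
  closeS_of_chunks ap12 2145 t12 [[t14, t16, t157, t158, t159, t160, t161, t162], [t163, t164, t165, t166, t167, t168, t33]] [(0, U3), (65, U4), (70, U5), (75, U6), (80, U7), (85, U8), (90, U9), (95, U10), (100, U11), (105, U12), (110, U13), (115, U14), (120, U15)] U3 (by decide +kernel)
    (by simp only [List.all_cons, List.all_nil, Bool.and_self, hclose3_11_0, hclose3_11_1])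
theorem hclose3_12 : closeS ap12 2145 t13 U3 [(0, U3), (65, U4), (70, U5), (75, U6), (80, U7), (85, U8), (90, U9), (95, U10), (100, U11), (105, U12), (110, U13), (115, U14), (120, U15)] = true :=
  closeS_of_chunks ap12 2145 t13 [[t14, t16, t157, t158, t159, t160, t161, t162], [t163, t164, t165, t166, t167, t168, t33]] [(0, U3), (65, U4), (70, U5), (75, U6), (80, U7), (85, U8), (90, U9), (95, U10), (100, U11), (105, U12), (110, U13), (115, U14), (120, U15)] U3 (by decide +kernel)
    (by simp only [List.all_cons, List.all_nil, Bool.and_self, hclose3_12_0, hclose3_12_1])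
theorem hclose3 : Sn3.all (fun s => closeS ap12 2145 s U3 [(0, U3), (65, U4), (70, U5), (75, U6), (80, U7), (85, U8), (90, U9), (95, U10), (100, U11), (105, U12), (110, U13), (115, U14), (120, U15)]) = true := by
  simp only [Sn3, List.all_cons, List.all_nil, Bool.and_self, hclose3_0, hclose3_1, hclose3_2, hclose3_3, hclose3_4, hclose3_5, hclose3_6, hclose3_7, hclose3_8, hclose3_9, hclose3_10, hclose3_11, hclose3_12]
theorem hclose4_0 : closeS ap12 2145 t2 U4 [(65, U4), (70, U5), (75, U6), (80, U7), (85, U8), (90, U9), (95, U10), (100, U11), (105, U12), (110, U13), (115, U14), (120, U15)] = true :=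
  closeS_of_chunks ap12 2145 t2 [[t14, t2, t169, t170, t21]] [(65, U4), (70, U5), (75, U6), (80, U7), (85, U8), (90, U9), (95, U10), (100, U11), (105, U12), (110, U13), (115, U14), (120, U15)] U4 (by decide +kernel)
    (by simp only [List.all_cons, List.all_nil, Bool.and_self, hclose4_0_0])
theorem hclose4_1 : closeS ap12 2145 t3 U4 [(65, U4), (70, U5), (75, U6), (80, U7), (85, U8), (90, U9), (95, U10), (100, U11), (105, U12), (110, U13), (115, U14), (120, U15)] = true :=
  closeS_of_chunks ap12 2145 t3 [[t14, t2, t169, t170, t21]] [(65, U4), (70, U5), (75, U6), (80, U7), (85, U8), (90, U9), (95, U10), (100, U11), (105, U12), (110, U13), (115, U14), (120, U15)] U4 (by decide +kernel)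
    (by simp only [List.all_cons, List.all_nil, Bool.and_self, hclose4_1_0])
theorem hclose4_2 : closeS ap12 2145 t4 U4 [(65, U4), (70, U5), (75, U6), (80, U7), (85, U8), (90, U9), (95, U10), (100, U11), (105, U12), (110, U13), (115, U14), (120, U15)] = true :=
  closeS_of_chunks ap12 2145 t4 [[t14, t2, t169, t170, t21]] [(65, U4), (70, U5), (75, U6), (80, U7), (85, U8), (90, U9), (95, U10), (100, U11), (105, U12), (110, U13), (115, U14), (120, U15)] U4 (by decide +kernel)
    (by simp only [List.all_cons, List.all_nil, Bool.and_self, hclose4_2_0])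
theorem hclose4_3 : closeS ap12 2145 t5 U4 [(65, U4), (70, U5), (75, U6), (80, U7), (85, U8), (90, U9), (95, U10), (100, U11), (105, U12), (110, U13), (115, U14), (120, U15)] = true :=
  closeS_of_chunks ap12 2145 t5 [[t14, t2, t169, t170, t21]] [(65, U4), (70, U5), (75, U6), (80, U7), (85, U8), (90, U9), (95, U10), (100, U11), (105, U12), (110, U13), (115, U14), (120, U15)] U4 (by decide +kernel)
    (by simp only [List.all_cons, List.all_nil, Bool.and_self, hclose4_3_0])
theorem hclose4_4 : closeS ap12 2145 t6 U4 [(65, U4), (70, U5), (75, U6), (80, U7), (85, U8), (90, U9), (95, U10), (100, U11), (105, U12), (110, U13), (115, U14), (120, U15)] = true :=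
  closeS_of_chunks ap12 2145 t6 [[t14, t2, t169, t170, t21]] [(65, U4), (70, U5), (75, U6), (80, U7), (85, U8), (90, U9), (95, U10), (100, U11), (105, U12), (110, U13), (115, U14), (120, U15)] U4 (by decide +kernel)
    (by simp only [List.all_cons, List.all_nil, Bool.and_self, hclose4_4_0])
theorem hclose4_5 : closeS ap12 2145 t7 U4 [(65, U4), (70, U5), (75, U6), (80, U7), (85, U8), (90, U9), (95, U10), (100, U11), (105, U12), (110, U13), (115, U14), (120, U15)] = true :=
  closeS_of_chunks ap12 2145 t7 [[t14, t2, t169, t170, t21]] [(65, U4), (70, U5), (75, U6), (80, U7), (85, U8), (90, U9), (95, U10), (100, U11), (105, U12), (110, U13), (115, U14), (120, U15)] U4 (by decide +kernel)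
    (by simp only [List.all_cons, List.all_nil, Bool.and_self, hclose4_5_0])
theorem hclose4_6 : closeS ap12 2145 t8 U4 [(65, U4), (70, U5), (75, U6), (80, U7), (85, U8), (90, U9), (95, U10), (100, U11), (105, U12), (110, U13), (115, U14), (120, U15)] = true :=
  closeS_of_chunks ap12 2145 t8 [[t14, t2, t169, t170, t21]] [(65, U4), (70, U5), (75, U6), (80, U7), (85, U8), (90, U9), (95, U10), (100, U11), (105, U12), (110, U13), (115, U14), (120, U15)] U4 (by decide +kernel)
    (by simp only [List.all_cons, List.all_nil, Bool.and_self, hclose4_6_0])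
theorem hclose4_7 : closeS ap12 2145 t9 U4 [(65, U4), (70, U5), (75, U6), (80, U7), (85, U8), (90, U9), (95, U10), (100, U11), (105, U12), (110, U13), (115, U14), (120, U15)] = true :=
  closeS_of_chunks ap12 2145 t9 [[t14, t2, t169, t170, t21]] [(65, U4), (70, U5), (75, U6), (80, U7), (85, U8), (90, U9), (95, U10), (100, U11), (105, U12), (110, U13), (115, U14), (120, U15)] U4 (by decide +kernel)
    (by simp only [List.all_cons, List.all_nil, Bool.and_self, hclose4_7_0])
theorem hclose4_8 : closeS ap12 2145 t10 U4 [(65, U4), (70, U5), (75, U6), (80, U7), (85, U8), (90, U9), (95, U10), (100, U11), (105, U12), (110, U13), (115, U14), (120, U15)] = true :=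
  closeS_of_chunks ap12 2145 t10 [[t14, t2, t169, t170, t21]] [(65, U4), (70, U5), (75, U6), (80, U7), (85, U8), (90, U9), (95, U10), (100, U11), (105, U12), (110, U13), (115, U14), (120, U15)] U4 (by decide +kernel)
    (by simp only [List.all_cons, List.all_nil, Bool.and_self, hclose4_8_0])
theorem hclose4_9 : closeS ap12 2145 t11 U4 [(65, U4), (70, U5), (75, U6), (80, U7), (85, U8), (90, U9), (95, U10), (100, U11), (105, U12), (110, U13), (115, U14), (120, U15)] = true :=
  closeS_of_chunks ap12 2145 t11 [[t14, t2, t169, t170, t21]] [(65, U4), (70, U5), (75, U6), (80, U7), (85, U8), (90, U9), (95, U10), (100, U11), (105, U12), (110, U13), (115, U14), (120, U15)] U4 (by decide +kernel)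
    (by simp only [List.all_cons, List.all_nil, Bool.and_self, hclose4_9_0])
theorem hclose4_10 : closeS ap12 2145 t12 U4 [(65, U4), (70, U5), (75, U6), (80, U7), (85, U8), (90, U9), (95, U10), (100, U11), (105, U12), (110, U13), (115, U14), (120, U15)] = true :=
  closeS_of_chunks ap12 2145 t12 [[t14, t2, t169, t170, t21]] [(65, U4), (70, U5), (75, U6), (80, U7), (85, U8), (90, U9), (95, U10), (100, U11), (105, U12), (110, U13), (115, U14), (120, U15)] U4 (by decide +kernel)
    (by simp only [List.all_cons, List.all_nil, Bool.and_self, hclose4_10_0])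
theorem hclose4_11 : closeS ap12 2145 t13 U4 [(65, U4), (70, U5), (75, U6), (80, U7), (85, U8), (90, U9), (95, U10), (100, U11), (105, U12), (110, U13), (115, U14), (120, U15)] = true :=
  closeS_of_chunks ap12 2145 t13 [[t14, t2, t169, t170, t21]] [(65, U4), (70, U5), (75, U6), (80, U7), (85, U8), (90, U9), (95, U10), (100, U11), (105, U12), (110, U13), (115, U14), (120, U15)] U4 (by decide +kernel)
    (by simp only [List.all_cons, List.all_nil, Bool.and_self, hclose4_11_0])
theorem hclose4 : Sn4.all (fun s => closeS ap12 2145 s U4 [(65, U4), (70, U5), (75, U6), (80, U7), (85, U8), (90, U9), (95, U10), (100, U11), (105, U12), (110, U13), (115, U14), (120, U15)]) = true := by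
  simp only [Sn4, List.all_cons, List.all_nil, Bool.and_self, hclose4_0, hclose4_1, hclose4_2, hclose4_3, hclose4_4, hclose4_5, hclose4_6, hclose4_7, hclose4_8, hclose4_9, hclose4_10, hclose4_11]
theorem hclose5_0 : closeS ap12 2145 t3 U5 [(70, U5), (75, U6), (80, U7), (85, U8), (90, U9), (95, U10), (100, U11), (105, U12), (110, U13), (115, U14), (120, U15)] = true :=
  closeS_of_chunks ap12 2145 t3 [[t14, t3, t171, t172, t22]] [(70, U5), (75, U6), (80, U7), (85, U8), (90, U9), (95, U10), (100, U11), (105, U12), (110, U13), (115, U14), (120, U15)] U5 (by decide +kernel)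
    (by simp only [List.all_cons, List.all_nil, Bool.and_self, hclose5_0_0])
theorem hclose5_1 : closeS ap12 2145 t4 U5 [(70, U5), (75, U6), (80, U7), (85, U8), (90, U9), (95, U10), (100, U11), (105, U12), (110, U13), (115, U14), (120, U15)] = true :=
  closeS_of_chunks ap12 2145 t4 [[t14, t3, t171, t172, t22]] [(70, U5), (75, U6), (80, U7), (85, U8), (90, U9), (95, U10), (100, U11), (105, U12), (110, U13), (115, U14), (120, U15)] U5 (by decide +kernel)
    (by simp only [List.all_cons, List.all_nil, Bool.and_self, hclose5_1_0])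
theorem hclose5_2 : closeS ap12 2145 t5 U5 [(70, U5), (75, U6), (80, U7), (85, U8), (90, U9), (95, U10), (100, U11), (105, U12), (110, U13), (115, U14), (120, U15)] = true :=
  closeS_of_chunks ap12 2145 t5 [[t14, t3, t171, t172, t22]] [(70, U5), (75, U6), (80, U7), (85, U8), (90, U9), (95, U10), (100, U11), (105, U12), (110, U13), (115, U14), (120, U15)] U5 (by decide +kernel)
    (by simp only [List.all_cons, List.all_nil, Bool.and_self, hclose5_2_0])
theorem hclose5_3 : closeS ap12 2145 t6 U5 [(70, U5), (75, U6), (80, U7), (85, U8), (90, U9), (95, U10), (100, U11), (105, U12), (110, U13), (115, U14), (120, U15)] = true :=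
  closeS_of_chunks ap12 2145 t6 [[t14, t3, t171, t172, t22]] [(70, U5), (75, U6), (80, U7), (85, U8), (90, U9), (95, U10), (100, U11), (105, U12), (110, U13), (115, U14), (120, U15)] U5 (by decide +kernel)
    (by simp only [List.all_cons, List.all_nil, Bool.and_self, hclose5_3_0])
theorem hclose5_4 : closeS ap12 2145 t7 U5 [(70, U5), (75, U6), (80, U7), (85, U8), (90, U9), (95, U10), (100, U11), (105, U12), (110, U13), (115, U14), (120, U15)] = true :=
  closeS_of_chunks ap12 2145 t7 [[t14, t3, t171, t172, t22]] [(70, U5), (75, U6), (80, U7), (85, U8), (90, U9), (95, U10), (100, U11), (105, U12), (110, U13), (115, U14), (120, U15)] U5 (by decide +kernel)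
    (by simp only [List.all_cons, List.all_nil, Bool.and_self, hclose5_4_0])
theorem hclose5_5 : closeS ap12 2145 t8 U5 [(70, U5), (75, U6), (80, U7), (85, U8), (90, U9), (95, U10), (100, U11), (105, U12), (110, U13), (115, U14), (120, U15)] = true :=
  closeS_of_chunks ap12 2145 t8 [[t14, t3, t171, t172, t22]] [(70, U5), (75, U6), (80, U7), (85, U8), (90, U9), (95, U10), (100, U11), (105, U12), (110, U13), (115, U14), (120, U15)] U5 (by decide +kernel)
    (by simp only [List.all_cons, List.all_nil, Bool.and_self, hclose5_5_0])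
theorem hclose5_6 : closeS ap12 2145 t9 U5 [(70, U5), (75, U6), (80, U7), (85, U8), (90, U9), (95, U10), (100, U11), (105, U12), (110, U13), (115, U14), (120, U15)] = true :=
  closeS_of_chunks ap12 2145 t9 [[t14, t3, t171, t172, t22]] [(70, U5), (75, U6), (80, U7), (85, U8), (90, U9), (95, U10), (100, U11), (105, U12), (110, U13), (115, U14), (120, U15)] U5 (by decide +kernel)
    (by simp only [List.all_cons, List.all_nil, Bool.and_self, hclose5_6_0])
theorem hclose5_7 : closeS ap12 2145 t10 U5 [(70, U5), (75, U6), (80, U7), (85, U8), (90, U9), (95, U10), (100, U11), (105, U12), (110, U13), (115, U14), (120, U15)] = true :=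
  closeS_of_chunks ap12 2145 t10 [[t14, t3, t171, t172, t22]] [(70, U5), (75, U6), (80, U7), (85, U8), (90, U9), (95, U10), (100, U11), (105, U12), (110, U13), (115, U14), (120, U15)] U5 (by decide +kernel)
    (by simp only [List.all_cons, List.all_nil, Bool.and_self, hclose5_7_0])
theorem hclose5_8 : closeS ap12 2145 t11 U5 [(70, U5), (75, U6), (80, U7), (85, U8), (90, U9), (95, U10), (100, U11), (105, U12), (110, U13), (115, U14), (120, U15)] = true :=
  closeS_of_chunks ap12 2145 t11 [[t14, t3, t171, t172, t22]] [(70, U5), (75, U6), (80, U7), (85, U8), (90, U9), (95, U10), (100, U11), (105, U12), (110, U13), (115, U14), (120, U15)] U5 (by decide +kernel)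
    (by simp only [List.all_cons, List.all_nil, Bool.and_self, hclose5_8_0])
theorem hclose5_9 : closeS ap12 2145 t12 U5 [(70, U5), (75, U6), (80, U7), (85, U8), (90, U9), (95, U10), (100, U11), (105, U12), (110, U13), (115, U14), (120, U15)] = true :=
  closeS_of_chunks ap12 2145 t12 [[t14, t3, t171, t172, t22]] [(70, U5), (75, U6), (80, U7), (85, U8), (90, U9), (95, U10), (100, U11), (105, U12), (110, U13), (115, U14), (120, U15)] U5 (by decide +kernel)
    (by simp only [List.all_cons, List.all_nil, Bool.and_self, hclose5_9_0])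
theorem hclose5_10 : closeS ap12 2145 t13 U5 [(70, U5), (75, U6), (80, U7), (85, U8), (90, U9), (95, U10), (100, U11), (105, U12), (110, U13), (115, U14), (120, U15)] = true :=
  closeS_of_chunks ap12 2145 t13 [[t14, t3, t171, t172, t22]] [(70, U5), (75, U6), (80, U7), (85, U8), (90, U9), (95, U10), (100, U11), (105, U12), (110, U13), (115, U14), (120, U15)] U5 (by decide +kernel)
    (by simp only [List.all_cons, List.all_nil, Bool.and_self, hclose5_10_0])
theorem hclose5 : Sn5.all (fun s => closeS ap12 2145 s U5 [(70, U5), (75, U6), (80, U7), (85, U8), (90, U9), (95, U10), (100, U11), (105, U12), (110, U13), (115, U14), (120, U15)]) = true := by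
  simp only [Sn5, List.all_cons, List.all_nil, Bool.and_self, hclose5_0, hclose5_1, hclose5_2, hclose5_3, hclose5_4, hclose5_5, hclose5_6, hclose5_7, hclose5_8, hclose5_9, hclose5_10]
theorem hclose6_0 : closeS ap12 2145 t4 U6 [(75, U6), (80, U7), (85, U8), (90, U9), (95, U10), (100, U11), (105, U12), (110, U13), (115, U14), (120, U15)] = true :=
  closeS_of_chunks ap12 2145 t4 [[t14, t4, t173, t174, t23]] [(75, U6), (80, U7), (85, U8), (90, U9), (95, U10), (100, U11), (105, U12), (110, U13), (115, U14), (120, U15)] U6 (by decide +kernel)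
    (by simp only [List.all_cons, List.all_nil, Bool.and_self, hclose6_0_0])
theorem hclose6_1 : closeS ap12 2145 t5 U6 [(75, U6), (80, U7), (85, U8), (90, U9), (95, U10), (100, U11), (105, U12), (110, U13), (115, U14), (120, U15)] = true :=
  closeS_of_chunks ap12 2145 t5 [[t14, t4, t173, t174, t23]] [(75, U6), (80, U7), (85, U8), (90, U9), (95, U10), (100, U11), (105, U12), (110, U13), (115, U14), (120, U15)] U6 (by decide +kernel)
    (by simp only [List.all_cons, List.all_nil, Bool.and_self, hclose6_1_0])
theorem hclose6_2 : closeS ap12 2145 t6 U6 [(75, U6), (80, U7), (85, U8), (90, U9), (95, U10), (100, U11), (105, U12), (110, U13), (115, U14), (120, U15)] = true :=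
  closeS_of_chunks ap12 2145 t6 [[t14, t4, t173, t174, t23]] [(75, U6), (80, U7), (85, U8), (90, U9), (95, U10), (100, U11), (105, U12), (110, U13), (115, U14), (120, U15)] U6 (by decide +kernel)
    (by simp only [List.all_cons, List.all_nil, Bool.and_self, hclose6_2_0])
theorem hclose6_3 : closeS ap12 2145 t7 U6 [(75, U6), (80, U7), (85, U8), (90, U9), (95, U10), (100, U11), (105, U12), (110, U13), (115, U14), (120, U15)] = true :=
  closeS_of_chunks ap12 2145 t7 [[t14, t4, t173, t174, t23]] [(75, U6), (80, U7), (85, U8), (90, U9), (95, U10), (100, U11), (105, U12), (110, U13), (115, U14), (120, U15)] U6 (by decide +kernel)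
    (by simp only [List.all_cons, List.all_nil, Bool.and_self, hclose6_3_0])
theorem hclose6_4 : closeS ap12 2145 t8 U6 [(75, U6), (80, U7), (85, U8), (90, U9), (95, U10), (100, U11), (105, U12), (110, U13), (115, U14), (120, U15)] = true :=
  closeS_of_chunks ap12 2145 t8 [[t14, t4, t173, t174, t23]] [(75, U6), (80, U7), (85, U8), (90, U9), (95, U10), (100, U11), (105, U12), (110, U13), (115, U14), (120, U15)] U6 (by decide +kernel)
    (by simp only [List.all_cons, List.all_nil, Bool.and_self, hclose6_4_0])
theorem hclose6_5 : closeS ap12 2145 t9 U6 [(75, U6), (80, U7), (85, U8), (90, U9), (95, U10), (100, U11), (105, U12), (110, U13), (115, U14), (120, U15)] = true :=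
  closeS_of_chunks ap12 2145 t9 [[t14, t4, t173, t174, t23]] [(75, U6), (80, U7), (85, U8), (90, U9), (95, U10), (100, U11), (105, U12), (110, U13), (115, U14), (120, U15)] U6 (by decide +kernel)
    (by simp only [List.all_cons, List.all_nil, Bool.and_self, hclose6_5_0])
theorem hclose6_6 : closeS ap12 2145 t10 U6 [(75, U6), (80, U7), (85, U8), (90, U9), (95, U10), (100, U11), (105, U12), (110, U13), (115, U14), (120, U15)] = true :=
  closeS_of_chunks ap12 2145 t10 [[t14, t4, t173, t174, t23]] [(75, U6), (80, U7), (85, U8), (90, U9), (95, U10), (100, U11), (105, U12), (110, U13), (115, U14), (120, U15)] U6 (by decide +kernel)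
    (by simp only [List.all_cons, List.all_nil, Bool.and_self, hclose6_6_0])
theorem hclose6_7 : closeS ap12 2145 t11 U6 [(75, U6), (80, U7), (85, U8), (90, U9), (95, U10), (100, U11), (105, U12), (110, U13), (115, U14), (120, U15)] = true :=
  closeS_of_chunks ap12 2145 t11 [[t14, t4, t173, t174, t23]] [(75, U6), (80, U7), (85, U8), (90, U9), (95, U10), (100, U11), (105, U12), (110, U13), (115, U14), (120, U15)] U6 (by decide +kernel)
    (by simp only [List.all_cons, List.all_nil, Bool.and_self, hclose6_7_0])
theorem hclose6_8 : closeS ap12 2145 t12 U6 [(75, U6), (80, U7), (85, U8), (90, U9), (95, U10), (100, U11), (105, U12), (110, U13), (115, U14), (120, U15)] = true :=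
  closeS_of_chunks ap12 2145 t12 [[t14, t4, t173, t174, t23]] [(75, U6), (80, U7), (85, U8), (90, U9), (95, U10), (100, U11), (105, U12), (110, U13), (115, U14), (120, U15)] U6 (by decide +kernel)
    (by simp only [List.all_cons, List.all_nil, Bool.and_self, hclose6_8_0])
theorem hclose6_9 : closeS ap12 2145 t13 U6 [(75, U6), (80, U7), (85, U8), (90, U9), (95, U10), (100, U11), (105, U12), (110, U13), (115, U14), (120, U15)] = true :=
  closeS_of_chunks ap12 2145 t13 [[t14, t4, t173, t174, t23]] [(75, U6), (80, U7), (85, U8), (90, U9), (95, U10), (100, U11), (105, U12), (110, U13), (115, U14), (120, U15)] U6 (by decide +kernel)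
    (by simp only [List.all_cons, List.all_nil, Bool.and_self, hclose6_9_0])
theorem hclose6 : Sn6.all (fun s => closeS ap12 2145 s U6 [(75, U6), (80, U7), (85, U8), (90, U9), (95, U10), (100, U11), (105, U12), (110, U13), (115, U14), (120, U15)]) = true := by
  simp only [Sn6, List.all_cons, List.all_nil, Bool.and_self, hclose6_0, hclose6_1, hclose6_2, hclose6_3, hclose6_4, hclose6_5, hclose6_6, hclose6_7, hclose6_8, hclose6_9]
theorem hclose7_0 : closeS ap12 2145 t5 U7 [(80, U7), (85, U8), (90, U9), (95, U10), (100, U11), (105, U12), (110, U13), (115, U14), (120, U15)] = true :=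
  closeS_of_chunks ap12 2145 t5 [[t14, t5, t175, t176, t24]] [(80, U7), (85, U8), (90, U9), (95, U10), (100, U11), (105, U12), (110, U13), (115, U14), (120, U15)] U7 (by decide +kernel)
    (by simp only [List.all_cons, List.all_nil, Bool.and_self, hclose7_0_0])
theorem hclose7_1 : closeS ap12 2145 t6 U7 [(80, U7), (85, U8), (90, U9), (95, U10), (100, U11), (105, U12), (110, U13), (115, U14), (120, U15)] = true :=
  closeS_of_chunks ap12 2145 t6 [[t14, t5, t175, t176, t24]] [(80, U7), (85, U8), (90, U9), (95, U10), (100, U11), (105, U12), (110, U13), (115, U14), (120, U15)] U7 (by decide +kernel)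
    (by simp only [List.all_cons, List.all_nil, Bool.and_self, hclose7_1_0])
theorem hclose7_2 : closeS ap12 2145 t7 U7 [(80, U7), (85, U8), (90, U9), (95, U10), (100, U11), (105, U12), (110, U13), (115, U14), (120, U15)] = true :=
  closeS_of_chunks ap12 2145 t7 [[t14, t5, t175, t176, t24]] [(80, U7), (85, U8), (90, U9), (95, U10), (100, U11), (105, U12), (110, U13), (115, U14), (120, U15)] U7 (by decide +kernel)
    (by simp only [List.all_cons, List.all_nil, Bool.and_self, hclose7_2_0])
theorem hclose7_3 : closeS ap12 2145 t8 U7 [(80, U7), (85, U8), (90, U9), (95, U10), (100, U11), (105, U12), (110, U13), (115, U14), (120, U15)] = true :=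
  closeS_of_chunks ap12 2145 t8 [[t14, t5, t175, t176, t24]] [(80, U7), (85, U8), (90, U9), (95, U10), (100, U11), (105, U12), (110, U13), (115, U14), (120, U15)] U7 (by decide +kernel)
    (by simp only [List.all_cons, List.all_nil, Bool.and_self, hclose7_3_0])
theorem hclose7_4 : closeS ap12 2145 t9 U7 [(80, U7), (85, U8), (90, U9), (95, U10), (100, U11), (105, U12), (110, U13), (115, U14), (120, U15)] = true :=
  closeS_of_chunks ap12 2145 t9 [[t14, t5, t175, t176, t24]] [(80, U7), (85, U8), (90, U9), (95, U10), (100, U11), (105, U12), (110, U13), (115, U14), (120, U15)] U7 (by decide +kernel)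
    (by simp only [List.all_cons, List.all_nil, Bool.and_self, hclose7_4_0])
theorem hclose7_5 : closeS ap12 2145 t10 U7 [(80, U7), (85, U8), (90, U9), (95, U10), (100, U11), (105, U12), (110, U13), (115, U14), (120, U15)] = true :=
  closeS_of_chunks ap12 2145 t10 [[t14, t5, t175, t176, t24]] [(80, U7), (85, U8), (90, U9), (95, U10), (100, U11), (105, U12), (110, U13), (115, U14), (120, U15)] U7 (by decide +kernel)
    (by simp only [List.all_cons, List.all_nil, Bool.and_self, hclose7_5_0])
theorem hclose7_6 : closeS ap12 2145 t11 U7 [(80, U7), (85, U8), (90, U9), (95, U10), (100, U11), (105, U12), (110, U13), (115, U14), (120, U15)] = true :=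
  closeS_of_chunks ap12 2145 t11 [[t14, t5, t175, t176, t24]] [(80, U7), (85, U8), (90, U9), (95, U10), (100, U11), (105, U12), (110, U13), (115, U14), (120, U15)] U7 (by decide +kernel)
    (by simp only [List.all_cons, List.all_nil, Bool.and_self, hclose7_6_0])
theorem hclose7_7 : closeS ap12 2145 t12 U7 [(80, U7), (85, U8), (90, U9), (95, U10), (100, U11), (105, U12), (110, U13), (115, U14), (120, U15)] = true :=
  closeS_of_chunks ap12 2145 t12 [[t14, t5, t175, t176, t24]] [(80, U7), (85, U8), (90, U9), (95, U10), (100, U11), (105, U12), (110, U13), (115, U14), (120, U15)] U7 (by decide +kernel)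
    (by simp only [List.all_cons, List.all_nil, Bool.and_self, hclose7_7_0])
theorem hclose7_8 : closeS ap12 2145 t13 U7 [(80, U7), (85, U8), (90, U9), (95, U10), (100, U11), (105, U12), (110, U13), (115, U14), (120, U15)] = true :=
  closeS_of_chunks ap12 2145 t13 [[t14, t5, t175, t176, t24]] [(80, U7), (85, U8), (90, U9), (95, U10), (100, U11), (105, U12), (110, U13), (115, U14), (120, U15)] U7 (by decide +kernel)
    (by simp only [List.all_cons, List.all_nil, Bool.and_self, hclose7_8_0])
theorem hclose7 : Sn7.all (fun s => closeS ap12 2145 s U7 [(80, U7), (85, U8), (90, U9), (95, U10), (100, U11), (105, U12), (110, U13), (115, U14), (120, U15)]) = true := by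
  simp only [Sn7, List.all_cons, List.all_nil, Bool.and_self, hclose7_0, hclose7_1, hclose7_2, hclose7_3, hclose7_4, hclose7_5, hclose7_6, hclose7_7, hclose7_8]
theorem hclose8_0 : closeS ap12 2145 t6 U8 [(85, U8), (90, U9), (95, U10), (100, U11), (105, U12), (110, U13), (115, U14), (120, U15)] = true :=
  closeS_of_chunks ap12 2145 t6 [[t14, t6, t177, t178, t25]] [(85, U8), (90, U9), (95, U10), (100, U11), (105, U12), (110, U13), (115, U14), (120, U15)] U8 (by decide +kernel)
    (by simp only [List.all_cons, List.all_nil, Bool.and_self, hclose8_0_0])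
theorem hclose8_1 : closeS ap12 2145 t7 U8 [(85, U8), (90, U9), (95, U10), (100, U11), (105, U12), (110, U13), (115, U14), (120, U15)] = true :=
  closeS_of_chunks ap12 2145 t7 [[t14, t6, t177, t178, t25]] [(85, U8), (90, U9), (95, U10), (100, U11), (105, U12), (110, U13), (115, U14), (120, U15)] U8 (by decide +kernel)
    (by simp only [List.all_cons, List.all_nil, Bool.and_self, hclose8_1_0])
theorem hclose8_2 : closeS ap12 2145 t8 U8 [(85, U8), (90, U9), (95, U10), (100, U11), (105, U12), (110, U13), (115, U14), (120, U15)] = true :=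
  closeS_of_chunks ap12 2145 t8 [[t14, t6, t177, t178, t25]] [(85, U8), (90, U9), (95, U10), (100, U11), (105, U12), (110, U13), (115, U14), (120, U15)] U8 (by decide +kernel)
    (by simp only [List.all_cons, List.all_nil, Bool.and_self, hclose8_2_0])
theorem hclose8_3 : closeS ap12 2145 t9 U8 [(85, U8), (90, U9), (95, U10), (100, U11), (105, U12), (110, U13), (115, U14), (120, U15)] = true :=
  closeS_of_chunks ap12 2145 t9 [[t14, t6, t177, t178, t25]] [(85, U8), (90, U9), (95, U10), (100, U11), (105, U12), (110, U13), (115, U14), (120, U15)] U8 (by decide +kernel)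
    (by simp only [List.all_cons, List.all_nil, Bool.and_self, hclose8_3_0])
theorem hclose8_4 : closeS ap12 2145 t10 U8 [(85, U8), (90, U9), (95, U10), (100, U11), (105, U12), (110, U13), (115, U14), (120, U15)] = true :=
  closeS_of_chunks ap12 2145 t10 [[t14, t6, t177, t178, t25]] [(85, U8), (90, U9), (95, U10), (100, U11), (105, U12), (110, U13), (115, U14), (120, U15)] U8 (by decide +kernel)
    (by simp only [List.all_cons, List.all_nil, Bool.and_self, hclose8_4_0])
theorem hclose8_5 : closeS ap12 2145 t11 U8 [(85, U8), (90, U9), (95, U10), (100, U11), (105, U12), (110, U13), (115, U14), (120, U15)] = true :=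
  closeS_of_chunks ap12 2145 t11 [[t14, t6, t177, t178, t25]] [(85, U8), (90, U9), (95, U10), (100, U11), (105, U12), (110, U13), (115, U14), (120, U15)] U8 (by decide +kernel)
    (by simp only [List.all_cons, List.all_nil, Bool.and_self, hclose8_5_0])
theorem hclose8_6 : closeS ap12 2145 t12 U8 [(85, U8), (90, U9), (95, U10), (100, U11), (105, U12), (110, U13), (115, U14), (120, U15)] = true :=
  closeS_of_chunks ap12 2145 t12 [[t14, t6, t177, t178, t25]] [(85, U8), (90, U9), (95, U10), (100, U11), (105, U12), (110, U13), (115, U14), (120, U15)] U8 (by decide +kernel)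
    (by simp only [List.all_cons, List.all_nil, Bool.and_self, hclose8_6_0])
theorem hclose8_7 : closeS ap12 2145 t13 U8 [(85, U8), (90, U9), (95, U10), (100, U11), (105, U12), (110, U13), (115, U14), (120, U15)] = true :=
  closeS_of_chunks ap12 2145 t13 [[t14, t6, t177, t178, t25]] [(85, U8), (90, U9), (95, U10), (100, U11), (105, U12), (110, U13), (115, U14), (120, U15)] U8 (by decide +kernel)
    (by simp only [List.all_cons, List.all_nil, Bool.and_self, hclose8_7_0])
theorem hclose8 : Sn8.all (fun s => closeS ap12 2145 s U8 [(85, U8), (90, U9), (95, U10), (100, U11), (105, U12), (110, U13), (115, U14), (120, U15)]) = true := by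
  simp only [Sn8, List.all_cons, List.all_nil, Bool.and_self, hclose8_0, hclose8_1, hclose8_2, hclose8_3, hclose8_4, hclose8_5, hclose8_6, hclose8_7]
theorem hclose9_0 : closeS ap12 2145 t7 U9 [(90, U9), (95, U10), (100, U11), (105, U12), (110, U13), (115, U14), (120, U15)] = true :=
  closeS_of_chunks ap12 2145 t7 [[t14, t7, t179, t180, t26]] [(90, U9), (95, U10), (100, U11), (105, U12), (110, U13), (115, U14), (120, U15)] U9 (by decide +kernel)
    (by simp only [List.all_cons, List.all_nil, Bool.and_self, hclose9_0_0])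
theorem hclose9_1 : closeS ap12 2145 t8 U9 [(90, U9), (95, U10), (100, U11), (105, U12), (110, U13), (115, U14), (120, U15)] = true :=
  closeS_of_chunks ap12 2145 t8 [[t14, t7, t179, t180, t26]] [(90, U9), (95, U10), (100, U11), (105, U12), (110, U13), (115, U14), (120, U15)] U9 (by decide +kernel)
    (by simp only [List.all_cons, List.all_nil, Bool.and_self, hclose9_1_0])
theorem hclose9_2 : closeS ap12 2145 t9 U9 [(90, U9), (95, U10), (100, U11), (105, U12), (110, U13), (115, U14), (120, U15)] = true :=
  closeS_of_chunks ap12 2145 t9 [[t14, t7, t179, t180, t26]] [(90, U9), (95, U10), (100, U11), (105, U12), (110, U13), (115, U14), (120, U15)] U9 (by decide +kernel)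
    (by simp only [List.all_cons, List.all_nil, Bool.and_self, hclose9_2_0])
theorem hclose9_3 : closeS ap12 2145 t10 U9 [(90, U9), (95, U10), (100, U11), (105, U12), (110, U13), (115, U14), (120, U15)] = true :=
  closeS_of_chunks ap12 2145 t10 [[t14, t7, t179, t180, t26]] [(90, U9), (95, U10), (100, U11), (105, U12), (110, U13), (115, U14), (120, U15)] U9 (by decide +kernel)
    (by simp only [List.all_cons, List.all_nil, Bool.and_self, hclose9_3_0])
theorem hclose9_4 : closeS ap12 2145 t11 U9 [(90, U9), (95, U10), (100, U11), (105, U12), (110, U13), (115, U14), (120, U15)] = true :=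
  closeS_of_chunks ap12 2145 t11 [[t14, t7, t179, t180, t26]] [(90, U9), (95, U10), (100, U11), (105, U12), (110, U13), (115, U14), (120, U15)] U9 (by decide +kernel)
    (by simp only [List.all_cons, List.all_nil, Bool.and_self, hclose9_4_0])
theorem hclose9_5 : closeS ap12 2145 t12 U9 [(90, U9), (95, U10), (100, U11), (105, U12), (110, U13), (115, U14), (120, U15)] = true :=
  closeS_of_chunks ap12 2145 t12 [[t14, t7, t179, t180, t26]] [(90, U9), (95, U10), (100, U11), (105, U12), (110, U13), (115, U14), (120, U15)] U9 (by decide +kernel)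
    (by simp only [List.all_cons, List.all_nil, Bool.and_self, hclose9_5_0])
theorem hclose9_6 : closeS ap12 2145 t13 U9 [(90, U9), (95, U10), (100, U11), (105, U12), (110, U13), (115, U14), (120, U15)] = true :=
  closeS_of_chunks ap12 2145 t13 [[t14, t7, t179, t180, t26]] [(90, U9), (95, U10), (100, U11), (105, U12), (110, U13), (115, U14), (120, U15)] U9 (by decide +kernel)
    (by simp only [List.all_cons, List.all_nil, Bool.and_self, hclose9_6_0])
theorem hclose9 : Sn9.all (fun s => closeS ap12 2145 s U9 [(90, U9), (95, U10), (100, U11), (105, U12), (110, U13), (115, U14), (120, U15)]) = true := by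
  simp only [Sn9, List.all_cons, List.all_nil, Bool.and_self, hclose9_0, hclose9_1, hclose9_2, hclose9_3, hclose9_4, hclose9_5, hclose9_6]
theorem hclose10_0 : closeS ap12 2145 t8 U10 [(95, U10), (100, U11), (105, U12), (110, U13), (115, U14), (120, U15)] = true :=
  closeS_of_chunks ap12 2145 t8 [[t14, t8, t181, t182, t27]] [(95, U10), (100, U11), (105, U12), (110, U13), (115, U14), (120, U15)] U10 (by decide +kernel)
    (by simp only [List.all_cons, List.all_nil, Bool.and_self, hclose10_0_0])
theorem hclose10_1 : closeS ap12 2145 t9 U10 [(95, U10), (100, U11), (105, U12), (110, U13), (115, U14), (120, U15)] = true :=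
  closeS_of_chunks ap12 2145 t9 [[t14, t8, t181, t182, t27]] [(95, U10), (100, U11), (105, U12), (110, U13), (115, U14), (120, U15)] U10 (by decide +kernel)
    (by simp only [List.all_cons, List.all_nil, Bool.and_self, hclose10_1_0])
theorem hclose10_2 : closeS ap12 2145 t10 U10 [(95, U10), (100, U11), (105, U12), (110, U13), (115, U14), (120, U15)] = true :=
  closeS_of_chunks ap12 2145 t10 [[t14, t8, t181, t182, t27]] [(95, U10), (100, U11), (105, U12), (110, U13), (115, U14), (120, U15)] U10 (by decide +kernel)
    (by simp only [List.all_cons, List.all_nil, Bool.and_self, hclose10_2_0])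
theorem hclose10_3 : closeS ap12 2145 t11 U10 [(95, U10), (100, U11), (105, U12), (110, U13), (115, U14), (120, U15)] = true :=
  closeS_of_chunks ap12 2145 t11 [[t14, t8, t181, t182, t27]] [(95, U10), (100, U11), (105, U12), (110, U13), (115, U14), (120, U15)] U10 (by decide +kernel)
    (by simp only [List.all_cons, List.all_nil, Bool.and_self, hclose10_3_0])
theorem hclose10_4 : closeS ap12 2145 t12 U10 [(95, U10), (100, U11), (105, U12), (110, U13), (115, U14), (120, U15)] = true :=
  closeS_of_chunks ap12 2145 t12 [[t14, t8, t181, t182, t27]] [(95, U10), (100, U11), (105, U12), (110, U13), (115, U14), (120, U15)] U10 (by decide +kernel)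
    (by simp only [List.all_cons, List.all_nil, Bool.and_self, hclose10_4_0])
theorem hclose10_5 : closeS ap12 2145 t13 U10 [(95, U10), (100, U11), (105, U12), (110, U13), (115, U14), (120, U15)] = true :=
  closeS_of_chunks ap12 2145 t13 [[t14, t8, t181, t182, t27]] [(95, U10), (100, U11), (105, U12), (110, U13), (115, U14), (120, U15)] U10 (by decide +kernel)
    (by simp only [List.all_cons, List.all_nil, Bool.and_self, hclose10_5_0])
theorem hclose10 : Sn10.all (fun s => closeS ap12 2145 s U10 [(95, U10), (100, U11), (105, U12), (110, U13), (115, U14), (120, U15)]) = true := by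
  simp only [Sn10, List.all_cons, List.all_nil, Bool.and_self, hclose10_0, hclose10_1, hclose10_2, hclose10_3, hclose10_4, hclose10_5]
theorem hclose11_0 : closeS ap12 2145 t9 U11 [(100, U11), (105, U12), (110, U13), (115, U14), (120, U15)] = true :=
  closeS_of_chunks ap12 2145 t9 [[t14, t9, t183, t184, t28]] [(100, U11), (105, U12), (110, U13), (115, U14), (120, U15)] U11 (by decide +kernel)
    (by simp only [List.all_cons, List.all_nil, Bool.and_self, hclose11_0_0])
theorem hclose11_1 : closeS ap12 2145 t10 U11 [(100, U11), (105, U12), (110, U13), (115, U14), (120, U15)] = true :=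
  closeS_of_chunks ap12 2145 t10 [[t14, t9, t183, t184, t28]] [(100, U11), (105, U12), (110, U13), (115, U14), (120, U15)] U11 (by decide +kernel)
    (by simp only [List.all_cons, List.all_nil, Bool.and_self, hclose11_1_0])
theorem hclose11_2 : closeS ap12 2145 t11 U11 [(100, U11), (105, U12), (110, U13), (115, U14), (120, U15)] = true :=
  closeS_of_chunks ap12 2145 t11 [[t14, t9, t183, t184, t28]] [(100, U11), (105, U12), (110, U13), (115, U14), (120, U15)] U11 (by decide +kernel)
    (by simp only [List.all_cons, List.all_nil, Bool.and_self, hclose11_2_0])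
theorem hclose11_3 : closeS ap12 2145 t12 U11 [(100, U11), (105, U12), (110, U13), (115, U14), (120, U15)] = true :=
  closeS_of_chunks ap12 2145 t12 [[t14, t9, t183, t184, t28]] [(100, U11), (105, U12), (110, U13), (115, U14), (120, U15)] U11 (by decide +kernel)
    (by simp only [List.all_cons, List.all_nil, Bool.and_self, hclose11_3_0])
theorem hclose11_4 : closeS ap12 2145 t13 U11 [(100, U11), (105, U12), (110, U13), (115, U14), (120, U15)] = true :=
  closeS_of_chunks ap12 2145 t13 [[t14, t9, t183, t184, t28]] [(100, U11), (105, U12), (110, U13), (115, U14), (120, U15)] U11 (by decide +kernel)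
    (by simp only [List.all_cons, List.all_nil, Bool.and_self, hclose11_4_0])
theorem hclose11 : Sn11.all (fun s => closeS ap12 2145 s U11 [(100, U11), (105, U12), (110, U13), (115, U14), (120, U15)]) = true := by
  simp only [Sn11, List.all_cons, List.all_nil, Bool.and_self, hclose11_0, hclose11_1, hclose11_2, hclose11_3, hclose11_4]
theorem hclose12_0 : closeS ap12 2145 t10 U12 [(105, U12), (110, U13), (115, U14), (120, U15)] = true :=
  closeS_of_chunks ap12 2145 t10 [[t14, t10, t185, t186, t29]] [(105, U12), (110, U13), (115, U14), (120, U15)] U12 (by decide +kernel)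
    (by simp only [List.all_cons, List.all_nil, Bool.and_self, hclose12_0_0])
theorem hclose12_1 : closeS ap12 2145 t11 U12 [(105, U12), (110, U13), (115, U14), (120, U15)] = true :=
  closeS_of_chunks ap12 2145 t11 [[t14, t10, t185, t186, t29]] [(105, U12), (110, U13), (115, U14), (120, U15)] U12 (by decide +kernel)
    (by simp only [List.all_cons, List.all_nil, Bool.and_self, hclose12_1_0])
theorem hclose12_2 : closeS ap12 2145 t12 U12 [(105, U12), (110, U13), (115, U14), (120, U15)] = true :=
  closeS_of_chunks ap12 2145 t12 [[t14, t10, t185, t186, t29]] [(105, U12), (110, U13), (115, U14), (120, U15)] U12 (by decide +kernel)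
    (by simp only [List.all_cons, List.all_nil, Bool.and_self, hclose12_2_0])
theorem hclose12_3 : closeS ap12 2145 t13 U12 [(105, U12), (110, U13), (115, U14), (120, U15)] = true :=
  closeS_of_chunks ap12 2145 t13 [[t14, t10, t185, t186, t29]] [(105, U12), (110, U13), (115, U14), (120, U15)] U12 (by decide +kernel)
    (by simp only [List.all_cons, List.all_nil, Bool.and_self, hclose12_3_0])
theorem hclose12 : Sn12.all (fun s => closeS ap12 2145 s U12 [(105, U12), (110, U13), (115, U14), (120, U15)]) = true := by
  simp only [Sn12, List.all_cons, List.all_nil, Bool.and_self, hclose12_0, hclose12_1, hclose12_2, hclose12_3]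
theorem hclose13_0 : closeS ap12 2145 t11 U13 [(110, U13), (115, U14), (120, U15)] = true :=
  closeS_of_chunks ap12 2145 t11 [[t14, t11, t187, t188, t30]] [(110, U13), (115, U14), (120, U15)] U13 (by decide +kernel)
    (by simp only [List.all_cons, List.all_nil, Bool.and_self, hclose13_0_0])
theorem hclose13_1 : closeS ap12 2145 t12 U13 [(110, U13), (115, U14), (120, U15)] = true :=
  closeS_of_chunks ap12 2145 t12 [[t14, t11, t187, t188, t30]] [(110, U13), (115, U14), (120, U15)] U13 (by decide +kernel)
    (by simp only [List.all_cons, List.all_nil, Bool.and_self, hclose13_1_0])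
theorem hclose13_2 : closeS ap12 2145 t13 U13 [(110, U13), (115, U14), (120, U15)] = true :=
  closeS_of_chunks ap12 2145 t13 [[t14, t11, t187, t188, t30]] [(110, U13), (115, U14), (120, U15)] U13 (by decide +kernel)
    (by simp only [List.all_cons, List.all_nil, Bool.and_self, hclose13_2_0])
theorem hclose13 : Sn13.all (fun s => closeS ap12 2145 s U13 [(110, U13), (115, U14), (120, U15)]) = true := by
  simp only [Sn13, List.all_cons, List.all_nil, Bool.and_self, hclose13_0, hclose13_1, hclose13_2]
theorem hclose14_0 : closeS ap12 2145 t12 U14 [(115, U14), (120, U15)] = true :=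
  closeS_of_chunks ap12 2145 t12 [[t14, t12, t189, t190, t31]] [(115, U14), (120, U15)] U14 (by decide +kernel)
    (by simp only [List.all_cons, List.all_nil, Bool.and_self, hclose14_0_0])
theorem hclose14_1 : closeS ap12 2145 t13 U14 [(115, U14), (120, U15)] = true :=
  closeS_of_chunks ap12 2145 t13 [[t14, t12, t189, t190, t31]] [(115, U14), (120, U15)] U14 (by decide +kernel)
    (by simp only [List.all_cons, List.all_nil, Bool.and_self, hclose14_1_0])
theorem hclose14 : Sn14.all (fun s => closeS ap12 2145 s U14 [(115, U14), (120, U15)]) = true := by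
  simp only [Sn14, List.all_cons, List.all_nil, Bool.and_self, hclose14_0, hclose14_1]
theorem hclose15_0 : closeS ap12 2145 t13 U15 [(120, U15)] = true :=
  closeS_of_chunks ap12 2145 t13 [[t14, t13, t191, t192, t32]] [(120, U15)] U15 (by decide +kernel)
    (by simp only [List.all_cons, List.all_nil, Bool.and_self, hclose15_0_0])
theorem hclose15 : Sn15.all (fun s => closeS ap12 2145 s U15 [(120, U15)]) = true := by
  simp only [Sn15, List.all_cons, List.all_nil, Bool.and_self, hclose15_0]
theorem hcomm : commChk ap12 2145 (headS tailL) = true := by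
  apply commChk_of_rows
  show List.all [t2, t3, t4, t5, t6, t7, t8, t9, t10, t11, t12, t13] (commRow ap12 2145 Sn4) = true
  simp only [List.all_cons, List.all_nil, Bool.and_self, hcommr0, hcommr1, hcommr2, hcommr3, hcommr4, hcommr5, hcommr6, hcommr7, hcommr8, hcommr9, hcommr10, hcommr11]
theorem hconj : conjChk ap12 2145 (headS tailL) (bu tailL) l1L.S S1i = true := by
  apply conjChk_of_parts
  show zipAll (fun s si => conjChk ap12 2145 (headS tailL) (bu tailL) [s] [si]) [t0, t1, t2, t3, t4, t5, t6, t7, t8, t9, t10, t11, t12, t13, t16, t18] [t19, t20, t21, t22, t23, t24, t25, t26, t27, t28, t29, t30, t31, t32, t33, t34] = true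
  simp only [zipAll, Bool.and_self, hconj0, hconj1, hconj2, hconj3, hconj4, hconj5, hconj6, hconj7, hconj8, hconj9, hconj10, hconj11, hconj12, hconj13, hconj14, hconj15]
theorem hnc : normChk13 ap12 2145 (headS tailL) (evalChain ap12 w13) = true := by
  apply normChk13_of_parts
  show List.all [t2, t3, t4, t5, t6, t7, t8, t9, t10, t11, t12, t13] (fun s => normChk13 ap12 2145 [s] (evalChain ap12 w13)) = true
  simp only [List.all_cons, List.all_nil, Bool.and_self, hnc0, hnc1, hnc2, hnc3, hnc4, hnc5, hnc6, hnc7, hnc8, hnc9, hnc10, hnc11]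

theorem lvOK : LvOK ap12 2145 Lvs :=
  ⟨htree1, hclose1, hid1, hnest1, ⟨htree2, hclose2, hid2, hnest2, ⟨htree3, hclose3, hid3, hnest3, ⟨htree4, hclose4, hid4, hnest4, ⟨htree5, hclose5, hid5, hnest5, ⟨htree6, hclose6, hid6, hnest6, ⟨htree7, hclose7, hid7, hnest7, ⟨htree8, hclose8, hid8, hnest8, ⟨htree9, hclose9, hid9, hnest9, ⟨htree10, hclose10, hid10, hnest10, ⟨htree11, hclose11, hid11, hnest11, ⟨htree12, hclose12, hid12, hnest12, ⟨htree13, hclose13, hid13, hnest13, ⟨htree14, hclose14, hid14, hnest14, ⟨htree15, hclose15, hid15, rfl, trivial⟩⟩⟩⟩⟩⟩⟩⟩⟩⟩⟩⟩⟩⟩⟩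

theorem baseOK : BaseOK ap12 2145 Lvs :=
  ⟨rfl, hnd1, hfx1, ⟨rfl, hnd2, hfx2, ⟨rfl, hnd3, hfx3, ⟨rfl, hnd4, hfx4, ⟨rfl, hnd5, hfx5, ⟨rfl, hnd6, hfx6, ⟨rfl, hnd7, hfx7, ⟨rfl, hnd8, hfx8, ⟨rfl, hnd9, hfx9, ⟨rfl, hnd10, hfx10, ⟨rfl, hnd11, hfx11, ⟨rfl, hnd12, hfx12, ⟨rfl, hnd13, hfx13, ⟨rfl, hnd14, hfx14, ⟨rfl, hnd15, hfx15, trivial⟩⟩⟩⟩⟩⟩⟩⟩⟩⟩⟩⟩⟩⟩⟩

theorem lvOKtail : LvOK ap12 2145 tailL := lvOK.2.2.2.2.2.2.2.2.2.2.2.2

theorem hS0 : ∀ T ∈ S0, ∃ g : Perm (Fin 2145), ActsAs g (ap12 T) :=
  exists_perm_of_zipAll ap12 S0 S0i hinv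

theorem hgen : (∀ T ∈ Sn1, ∃ g : Perm (Fin 2145), ActsAs g (ap12 T)) ∧
    K (n := 2145) ap12 Sn1 = K (n := 2145) ap12 S0 :=
  gen_facts S0 Sn1 stepsL hS0 hderive hmem hsub

theorem hS1 : ∀ T ∈ headS Lvs, ∃ g : Perm (Fin 2145), ActsAs g (ap12 T) := hgen.1

/-- The order of the group generated by the tables `S0`. -/
theorem card_K0 : Nat.card (K (n := 2145) ap12 S0) = 15234375000000 := by
  rw [← hgen.2, ← hcardL]
  exact card_K (Lvs := Lvs) lvOK baseOK hS1

theorem hchk : cosetChk ap12 l1L.b l2L.b l3L.b l1L.U l2L.U l3L.U = true := by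
  show List.all U1 (cosetChk1 ap12 54 7 0 U2 U3) = true
  simp only [U1, List.all_cons, List.all_nil, Bool.and_self, hcos0, hcos1, hcos2, hcos3, hcos4, hcos5, hcos6, hcos7, hcos8, hcos9, hcos10, hcos11, hcos12, hcos13, hcos14, hcos15, hcos16, hcos17, hcos18, hcos19, hcos20, hcos21, hcos22, hcos23, hcos24, hcos25, hcos26, hcos27, hcos28, hcos29, hcos30, hcos31, hcos32, hcos33, hcos34, hcos35, hcos36, hcos37, hcos38, hcos39, hcos40, hcos41, hcos42, hcos43, hcos44, hcos45, hcos46, hcos47, hcos48, hcos49, hcos50, hcos51, hcos52, hcos53, hcos54, hcos55, hcos56, hcos57, hcos58, hcos59, hcos60, hcos61, hcos62, hcos63, hcos64]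

/-- Every element order of the group divides `20`, `50`, `75` or `13`. -/
theorem dvd_K0 : ∀ g ∈ K (n := 2145) ap12 S0,
    orderOf g ∣ 20 ∨ orderOf g ∣ 50 ∨ orderOf g ∣ 75 ∨ orderOf g ∣ 13 := by
  intro g hg
  rw [← hgen.2] at hg
  exact pg_spec (ap := ap12) (n := 2145) (l1 := l1L) (l2 := l2L) (l3 := l3L) (tail := tailL)
    (S1i := S1i) (w0 := w13) lvOK baseOK hgen.1 hcomm hp5 hconj hchk hw13' hwit13' hnc hcard g hg

theorem wit10 : ∃ g ∈ K (n := 2145) ap12 S0, orderOf g = 10 := by
  rw [← hgen.2]
  exact exists_orderOf_of_word (Lvs := Lvs) lvOK baseOK hS1 w10 hw10 (by norm_num) hps10 hwit10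

theorem wit13 : ∃ g ∈ K (n := 2145) ap12 S0, orderOf g = 13 := by
  rw [← hgen.2]
  exact exists_orderOf_of_word (Lvs := Lvs) lvOK baseOK hS1 w13 hw13 (by norm_num) hps13 hwit13

theorem wit15 : ∃ g ∈ K (n := 2145) ap12 S0, orderOf g = 15 := by
  rw [← hgen.2]
  exact exists_orderOf_of_word (Lvs := Lvs) lvOK baseOK hS1 w15 hw15 (by norm_num) hps15 hwit15

end Cfsg.Agent.Lib.Helper7.UzP
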